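import Groth.Agent.EtModLib.Noeth
import Groth.Agent.ARLib.Noeth

/-! systems of constructible sheaves adic up to translation -/

universe w v u

open CategoryTheory CategoryTheory.Limits AlgebraicGeometry Opposite ARSys

noncomputable section

set_option backward.isDefEq.respectTransparency.types false

namespace Groth.Agent.EtModLib

variable {Λ : Type (u + 1)} [CommRing Λ] {X : Scheme.{u}}

theorem isConstructible_of_mono [IsNoetherianRing Λ] [IsLocallyNoetherian X] {F Q : EtModW.Mod Λ X}
    (hQ : EtModW.IsConstructible Λ Q) (i : F ⟶ Q) [Mono i] : EtModW.IsConstructible Λ F :=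
  isConstructible_of_iso
    ((kernelIsKernel (cokernel.π i)).conePointUniqueUpToIso
      (Abelian.monoIsKernelOfCokernel (CokernelCofork.ofπ (cokernel.π i) (cokernel.condition i)) (cokernelIsCokernel i)))
    (isConstructible_kernel_noeth hQ (cokernel.π i))

theorem isConstructible_adic_of_arIso [IsNoetherianRing Λ] [IsLocallyNoetherian X] {J : Ideal Λ}
    {F Y : PS (EtModW.Mod Λ X)} (hF : ∀ n, EtModW.IsConstructible Λ (F.obj (op n))) (hY : IsAdic J Y)
    {v : Y ⟶ F} (hv : IsARIso v) (n : ℕ) : EtModW.IsConstructible Λ (Y.obj (op n)) := by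
  obtain ⟨r, ⟨I⟩⟩ := ARLib.exists_inv hv
  have := ARLib.epi_ψ_of_strict (ARLib.isStrict_of_isAdic hY) I n
  exact isConstructible_of_epi (hF (n + r)) (I.ψ n (n + r) le_rfl)

theorem isARAdicNoeth_of_constructible [IsNoetherianRing Λ] [IsNoetherian X] {J : Ideal Λ}
    {F : PS (EtModW.Mod Λ X)} (hF : IsARAdic J F) (hc : ∀ n, EtModW.IsConstructible Λ (F.obj (op n))) :
    IsARAdicNoeth J F :=
  ⟨hF, fun n => isNoetherianObject_of_isConstructible (hc n)⟩

theorem exists_constr_adic [IsNoetherianRing Λ] [IsLocallyNoetherian X] {J : Ideal Λ} {F : PS (EtModW.Mod Λ X)}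
    (hF : IsARAdic J F) (hc : ∀ n, EtModW.IsConstructible Λ (F.obj (op n))) :
    TermKilled J F ∧ ∃ (Y : PS (EtModW.Mod Λ X)) (v : Y ⟶ F), IsAdic J Y ∧
      (∀ n : ℕ, EtModW.IsConstructible Λ (Y.obj (op n))) ∧ IsARIso v := by
  obtain ⟨hk, Y, v, hY, hv⟩ := hF
  exact ⟨hk, Y, v, hY, isConstructible_adic_of_arIso hc hY hv, hv⟩

end Groth.Agent.EtModLib

namespace Groth.Agent.ARLib

variable {C : Type u} [Category.{v} C] [Abelian C]

theorem tr_naturality_assoc' {X Y : PS C} (u : X ⟶ Y) {n m : ℕ} (h : n ≤ m) {Z : C} (g : Y.obj (op n) ⟶ Z) :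
    tr X h ≫ u.app (op n) ≫ g = u.app (op m) ≫ tr Y h ≫ g := by
  rw [← Category.assoc, tr_naturality, Category.assoc]

theorem isARIso_of_isIso {X Y : PS C} (e : X ≅ Y) : IsARIso e.hom :=
  isARIso_of_inv (r := 0)
    { ψ := fun n _ h => tr Y h ≫ e.inv.app (op n)
      ψ_u := fun n _ _ => by simp
      u_ψ := fun n m h => ((tr_naturality_assoc' e.hom (show n ≤ m from h) _).symm.trans
        (congrArg (tr X (show n ≤ m from h) ≫ ·) (e.hom_inv_id_app (op n)))).trans (Category.comp_id _)
      ψ_tr := fun n n' m h hn => by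
        rw [Category.assoc, ← tr_naturality e.inv hn, tr_tr_assoc]
      tr_ψ := fun n m m' h hm => tr_tr_assoc Y _ _ _ }

/-- chains of subobjects, Mittag-Leffler up to translation, of a Noetherian adic system become
stationary up to translation -/
theorem chain_eventually_isARIso {A : Type w} [CommRing A] [Linear A C] [IsNoetherianRing A] {J : Ideal A}
    {F : PS C} (hF : IsAdicNoeth J F) (Z : ℕ →o Subobject F)
    (hZ : ∀ k, IsMLAR (Subobject.underlying.obj (Z k) : PS C)) :
    ∃ k₀, ∀ k, k₀ ≤ k → IsARIso (Subobject.ofLE (Z k) (Z (k + 1)) (Z.monotone (Nat.le_succ k))) := by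
  choose r hr using hZ
  let R : ℕ → ℕ := fun k => (Finset.range (k + 1)).sup r
  have hR : ∀ k, R k ≤ R (k + 1) := fun k => Finset.sup_mono (Finset.range_mono (Nat.le_succ _))
  have hrR : ∀ k, r k ≤ R k := fun k => Finset.le_sup (f := r) (Finset.mem_range.2 (Nat.lt_succ_self k))
  let T : ℕ → PS C := fun k => Subobject.underlying.obj (Z k)
  let t : ∀ k, T k ⟶ T (k + 1) := fun k => Subobject.ofLE (Z k) (Z (k + 1)) (Z.monotone (Nat.le_succ k))
  have hst : ∀ k, IsStrict (imgSys (T k) (R k)) := fun k => imgSys_strict fun s hs n =>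
    (hr k s ((hrR k).trans hs) n).trans (hr k (R k) (hrR k) n).symm
  have hg : ∀ k, ∃ g : imgSys (T k) (R k) ⟶ imgSys (T (k + 1)) (R (k + 1)),
      g ≫ imgι (T (k + 1)) (R (k + 1)) = imgι (T k) (R k) ≫ t k := fun k => by
    have hfac : ∀ n, (imageSubobject (sm (T (k + 1)) (R (k + 1)) n)).Factors
        ((imageSubobject (sm (T k) (R k) n)).arrow ≫ (t k).app (op n)) := fun n => by
      have e : imageSubobject (sm (T k) (R k) n) = imageSubobject (sm (T k) (R (k + 1)) n) :=
        (hr k (R k) (hrR k) n).trans (hr k (R (k + 1)) ((hrR k).trans (hR k)) n).symm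
      rw [← Subobject.ofLE_arrow e.le, Category.assoc]
      refine Subobject.factors_of_factors_right _ ?_
      refine (Subobject.factors_iff _ _).2 ⟨imageSubobjectMap (Arrow.homMk (u := (t k).app (op (n + R (k + 1))))
        (v := (t k).app (op n)) (tr_naturality (t k) _).symm : Arrow.mk (sm (T k) (R (k + 1)) n) ⟶
          Arrow.mk (sm (T (k + 1)) (R (k + 1)) n)), ?_⟩
      exact imageSubobjectMap_arrow _
    refine ⟨natMk (fun n => Subobject.factorThru _ _ (hfac n)) fun n m h => ?_,
      hom_ext fun n => Subobject.factorThru_arrow _ _ (hfac n)⟩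
    have : Mono ((imgι (T (k + 1)) (R (k + 1))).app (op n)) := (NatTrans.mono_iff_mono_app _).1 inferInstance _
    rw [← cancel_mono ((imgι (T (k + 1)) (R (k + 1))).app (op n)), Category.assoc, Category.assoc]
    refine Eq.trans ?_ (congrArg (_ ≫ ·) (tr_naturality (imgι (T (k + 1)) (R (k + 1))) h).symm)
    show tr (imgSys (T k) (R k)) h ≫ Subobject.factorThru _ _ (hfac n) ≫ (imageSubobject _).arrow =
      Subobject.factorThru _ _ (hfac m) ≫ (imageSubobject _).arrow ≫ tr (T (k + 1)) h
    rw [Subobject.factorThru_arrow, Subobject.factorThru_arrow_assoc, Category.assoc]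
    exact (tr_naturality_assoc' (imgι (T k) (R k)) h ((t k).app (op n))).trans
      (congrArg ((imageSubobject (sm (T k) (R k) m)).arrow ≫ ·) (tr_naturality (t k) h))
  choose g hg using hg
  let S : ℕ → Subobject F := fun k => Subobject.mk (imgι (T k) (R k) ≫ (Z k).arrow)
  have hS : ∀ k, S k ≤ S (k + 1) := fun k => Subobject.mk_le_mk_of_comm (g k) (by
    rw [reassoc_of% hg k, Subobject.ofLE_arrow])
  obtain ⟨k₀, hk₀⟩ := strict_chain_stabilizes hF ⟨S, monotone_nat_of_le_succ hS⟩ fun k n m h => by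
    have := hst k n m h
    let e := Subobject.underlyingIso (imgι (T k) (R k) ≫ (Z k).arrow)
    show Epi (tr (Subobject.underlying.obj (S k) : PS C) h)
    rw [show tr (Subobject.underlying.obj (S k) : PS C) h = e.hom.app (op m) ≫ tr (imgSys (T k) (R k)) h ≫ e.inv.app (op n) by
      rw [← tr_naturality_assoc' e.hom h, Iso.hom_inv_id_app, Category.comp_id]]
    infer_instance
  refine ⟨k₀, fun k hk => isARIso_of_precomp (imgι_isARIso (T k) (R k)) ?_⟩
  rw [← hg k]
  refine isARIso_comp ?_ (imgι_isARIso (T (k + 1)) (R (k + 1)))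
  have e : S k = S (k + 1) := (hk₀ k hk).trans (hk₀ (k + 1) (hk.trans (Nat.le_succ k))).symm
  have : g k = (Subobject.isoOfMkEqMk _ _ e).hom := by
    rw [← cancel_mono (imgι (T (k + 1)) (R (k + 1)) ≫ (Z (k + 1)).arrow), reassoc_of% hg k, Subobject.ofLE_arrow]
    simp
  rw [this]
  exact isARIso_of_isIso _

end Groth.Agent.ARLib
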