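import Groth.Agent.ARLib.Iso
import Groth.Agent.ARLib.Adic
import Mathlib.CategoryTheory.Linear.LinearFunctor

/-! Right exact linear functors preserve adic systems and isomorphisms up to translation. -/

universe w v v' u u'

open CategoryTheory CategoryTheory.Limits Opposite ARSys

noncomputable section

namespace Groth.Agent.EtModLib

set_option backward.isDefEq.respectTransparency.types false

variable {C : Type u} [Category.{v} C] [Abelian C] {D : Type u'} [Category.{v'} D] [Abelian D]
  {A : Type w} [CommRing A] [Linear A C] [Linear A D] (G : C ⥤ D) [G.Additive] [G.Linear A]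

theorem killedBy_map {I : Ideal A} {X : C} (h : KilledBy I X) : KilledBy I (G.obj X) := fun a ha => by
  rw [← G.map_id, ← G.map_smul, h a ha, G.map_zero]

theorem termKilled_map {J : Ideal A} {X : PS C} (h : TermKilled J X) : TermKilled J (X ⋙ G) :=
  fun n => killedBy_map G (h n)

theorem isQuot_map [PreservesFiniteColimits G] {I : Ideal A} (hI : I.FG) {X Q : C} {p : X ⟶ Q}
    (h : IsQuot I p) : IsQuot I (G.map p) := by
  classical
  obtain ⟨n, gen, hgen⟩ := Submodule.fg_iff_exists_fin_generating_family.1 hI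
  have hmem : ∀ i, gen i ∈ I := fun i => hgen ▸ Submodule.subset_span ⟨i, rfl⟩
  haveI : HasFiniteBiproducts C := HasFiniteBiproducts.of_hasFiniteProducts
  let d : (⨁ fun _ : Fin n => X) ⟶ X := biproduct.desc fun i => gen i • 𝟙 X
  have hkill : ∀ {Y : C} (φ : X ⟶ Y), (∀ i, gen i • φ = 0) → HomKilledBy I φ := fun φ hφ a ha => by
    rw [← hgen] at ha
    induction ha using Submodule.span_induction with
    | mem x hx => obtain ⟨i, rfl⟩ := hx; exact hφ i
    | zero => exact zero_smul _ _
    | add x y _ _ hx hy => rw [add_smul, hx, hy, add_zero]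
    | smul c x _ hx => rw [smul_eq_mul, mul_smul, hx, smul_zero]
  have hd : d ≫ p = 0 := biproduct.hom_ext' _ _ fun i => by
    rw [biproduct.ι_desc_assoc, Linear.smul_comp, Category.id_comp, comp_zero]
    exact Groth.Agent.ARLib.IsQuot.homKilledBy h _ (hmem i)
  have hfac : ∀ {Y : C} (φ : X ⟶ Y), d ≫ φ = 0 → HomKilledBy I φ := fun φ hφ => hkill φ fun i => by
    have := congrArg (biproduct.ι (fun _ : Fin n => X) i ≫ ·) hφ
    simpa [d] using this
  have hcok : IsColimit (CokernelCofork.ofπ p hd) := CokernelCofork.IsColimit.ofπ p hd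
    (fun φ hφ => (h.2 _ φ (hfac φ hφ)).exists.choose)
    (fun φ hφ => (h.2 _ φ (hfac φ hφ)).exists.choose_spec)
    (fun φ hφ ψ hψ => (h.2 _ φ (hfac φ hφ)).unique hψ (h.2 _ φ (hfac φ hφ)).exists.choose_spec)
  have hcok' := CokernelCofork.mapIsColimit _ hcok G
  refine ⟨killedBy_map G h.1, fun Y φ hφ => ?_⟩
  have h0 : G.map d ≫ φ = 0 := by
    have : d = ∑ i, biproduct.π (fun _ : Fin n => X) i ≫ (gen i • 𝟙 X) := biproduct.desc_eq
    rw [this, G.map_sum, Preadditive.sum_comp]
    refine Finset.sum_eq_zero fun i _ => ?_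
    rw [G.map_comp, G.map_smul, G.map_id, Category.assoc, Linear.smul_comp, Category.id_comp,
      hφ _ (hmem i), comp_zero]
  obtain ⟨ψ, hψ⟩ := CokernelCofork.IsColimit.desc' hcok' φ h0
  exact ⟨ψ, hψ, fun ψ' hψ' => Cofork.IsColimit.hom_ext hcok' (hψ'.trans hψ.symm)⟩

theorem isAdic_map [PreservesFiniteColimits G] {J : Ideal A} (hJ : J.FG) {X : PS C} (h : IsAdic J X) :
    IsAdic J (X ⋙ G) :=
  ⟨termKilled_map G h.1, fun n m hnm => isQuot_map G (Submodule.FG.pow hJ _) (h.2 n m hnm)⟩

omit [G.Additive] in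
theorem isARIso_map {X Y : PS C} {u : X ⟶ Y} (hu : IsARIso u) : IsARIso (Functor.whiskerRight u G) := by
  obtain ⟨r, ⟨I⟩⟩ := ARLib.exists_inv hu
  refine ARLib.isARIso_of_inv (r := r)
    { ψ := fun n m h => G.map (I.ψ n m h)
      ψ_u := fun n m h => ?_
      u_ψ := fun n m h => ?_
      ψ_tr := fun n n' m h hn => ?_
      tr_ψ := fun n m m' h hm => ?_ }
  · exact (G.map_comp _ _).symm.trans (congrArg G.map (I.ψ_u n m h))
  · exact (G.map_comp _ _).symm.trans (congrArg G.map (I.u_ψ n m h))
  · exact (G.map_comp _ _).symm.trans (congrArg G.map (I.ψ_tr n n' m h hn))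
  · exact (G.map_comp _ _).symm.trans (congrArg G.map (I.tr_ψ n m m' h hm))

end Groth.Agent.EtModLib
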