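import Groth.Agent.EtModLib.ConstrOps
import Mathlib.CategoryTheory.Linear.LinearFunctor

/-! Stalks and inverse images of sheaves of modules are linear. -/

universe u

open CategoryTheory CategoryTheory.Limits AlgebraicGeometry Opposite

noncomputable section

set_option backward.isDefEq.respectTransparency false
set_option backward.isDefEq.respectTransparency.types false

namespace Groth.Agent.EtModLib

variable {Λ : Type (u + 1)} [CommRing Λ] {X Y : Scheme.{u}}

theorem linear_push (f : X ⟶ Y) : (EtModW.push Λ f).Linear Λ := ⟨fun {_ _} _ _ => rfl⟩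

theorem linear_pull (f : X ⟶ Y) : (EtModW.pull Λ f).Linear Λ := by
  obtain ⟨_, _, _⟩ := preservesFiniteLimits_pull (Λ := Λ) f
  haveI := linear_push (Λ := Λ) f
  let adj : EtModW.pull Λ f ⊣ EtModW.push Λ f := Functor.sheafAdjunctionContinuous _ _ _ _
  refine ⟨fun {F G} a r => (adj.homEquiv _ _).injective ?_⟩
  rw [Adjunction.homEquiv_unit, Adjunction.homEquiv_unit]
  refine (adj.unit_naturality _).trans ?_
  rw [(EtModW.push Λ f).map_smul, Linear.comp_smul, adj.unit_naturality a]
  exact Linear.smul_comp _ _ _ r a _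

theorem linear_stalk {Ω : Type u} [Field Ω] [IsSepClosed Ω] (ξ : Spec (CommRingCat.of Ω) ⟶ X) :
    (EtModW.stalk Λ ξ).Linear Λ ∧ (EtModW.stalk Λ ξ).Additive ∧ PreservesFiniteColimits (EtModW.stalk Λ ξ) := by
  haveI hadd : (EtModW.stalk Λ ξ).Additive := ⟨fun {F G a b} => ModuleCat.hom_ext (LinearMap.ext fun c => by
    obtain ⟨V, v, x, rfl⟩ := exists_germ ξ c
    rw [ModuleCat.hom_add, LinearMap.add_apply, germ_app, germ_app, germ_app]
    exact map_add (germ ξ v G) _ _)⟩
  refine ⟨⟨fun {F G} a r => ModuleCat.hom_ext (LinearMap.ext fun c => ?_)⟩, hadd,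
    (((EtModW.stalk Λ ξ).preservesFiniteColimits_tfae).out 0 3).1 ?_⟩
  · obtain ⟨V, v, x, rfl⟩ := exists_germ ξ c
    rw [ModuleCat.hom_smul, LinearMap.smul_apply, germ_app, germ_app]
    exact map_smul (germ ξ v G) r _
  · intro S hS
    haveI := hS.epi_g
    refine ⟨?_, (ModuleCat.epi_iff_surjective _).2 (surjective_stalk S.g ξ)⟩
    rw [ShortComplex.moduleCat_exact_iff]
    exact fun c hc => exact_stalk hS.exact ξ c hc

end Groth.Agent.EtModLib
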