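import Groth.Agent.EtModLib.ARConstr
import Groth.Agent.EtModLib.AdicFunctor
import Groth.Agent.EtModLib.Linear
import Groth.Agent.ARLib.Criterion

/-! being adic up to translation is detected by jointly faithful right exact functors -/

universe w v v' u u'

open CategoryTheory CategoryTheory.Limits Opposite ARSys AlgebraicGeometry

noncomputable section

set_option backward.isDefEq.respectTransparency.types false

namespace Groth.Agent.ARLib

variable {C : Type u} [Category.{v} C] [Abelian C] {A : Type w} [CommRing A] [Linear A C] {J : Ideal A}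
  {ι : Type} [Finite ι] {D : ι → Type u'} [∀ i, Category.{v'} (D i)] [∀ i, Abelian (D i)] [∀ i, Linear A (D i)]
  (G : ∀ i, C ⥤ D i) [∀ i, (G i).Additive] [∀ i, PreservesFiniteColimits (G i)]

theorem isMLAR_of_map (hG : ∀ {X Y : C} (φ : X ⟶ Y), (∀ i, (G i).map φ = 0) → φ = 0) {X : PS C}
    (h : ∀ i, IsMLAR (X ⋙ G i)) : IsMLAR X := by
  cases nonempty_fintype ι
  choose r hr using fun i => (isMLAR_iff _).1 (h i)
  refine (isMLAR_iff X).2 ⟨Finset.univ.sup r, fun n a m h1 h2 => ?_⟩
  have h0 : tr X (show n ≤ a by omega) ≫ cokernel.π (tr X (show n ≤ m by omega)) = 0 := hG _ fun i => by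
    obtain ⟨T, π, _, y, hy⟩ := hr i n a m ((Nat.add_le_add_left (Finset.le_sup (f := r) (Finset.mem_univ i)) n).trans h1) h2
    rw [← cancel_epi π, comp_zero, Functor.map_comp, ← Category.assoc]
    refine (congrArg (· ≫ (G i).map (cokernel.π (tr X (show n ≤ m by omega)))) hy).trans ?_
    rw [Category.assoc]
    refine (congrArg (y ≫ ·) ?_).trans comp_zero
    exact ((G i).map_comp _ _).symm.trans ((congrArg (G i).map (cokernel.condition _)).trans ((G i).map_zero _ _))
  have := (ShortComplex.mk (tr X (show n ≤ m by omega)) _ (cokernel.condition _)).exact_of_g_is_cokernel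
    (cokernelIsCokernel (tr X (show n ≤ m by omega)))
  obtain ⟨T, π, hπ, y, hy⟩ := this.exact_up_to_refinements (tr X (show n ≤ a by omega)) h0
  exact ⟨T, π, hπ, y, hy⟩

variable [∀ i, (G i).Linear A]

theorem isARAdic_of_map (hG : ∀ {X Y : C} (φ : X ⟶ Y), (∀ i, (G i).map φ = 0) → φ = 0) (hJ : J.FG) {X : PS C}
    (kX : TermKilled J X) (h : ∀ i, IsARAdic J (X ⋙ G i)) : IsARAdic J X := by
  cases nonempty_fintype ι
  obtain ⟨X', ε, hX', hε, _⟩ :=
    exists_strict_arIso X (isMLAR_of_map G hG fun i => isMLAR_of_isARAdic (h i))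
  have kX' : TermKilled J X' := termKilled_of_mono ε kX
  have hstrict : ∀ i, IsStrict (X' ⋙ G i) := fun i n m hnm => by
    haveI := hX' n m hnm
    exact inferInstanceAs (Epi ((G i).map (tr X' hnm)))
  choose s hs using fun i => (factors_of_isARAdic (h i)).elim fun _ hr =>
    factors_transfer (Functor.whiskerRight ε (G i)) (EtModLib.isARIso_map (G i) hε) hr
  let r := Finset.univ.sup s
  suffices hF : Factors J X' r from
    isARAdic_of_arIso (isARAdic_of_factors (Or.inl hJ) kX' (isMLAR_of_isStrict hX') hF) ε hε kX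
  intro k m a hkm hma' hma hka T φ hφ
  obtain ⟨Q, p, hp⟩ := exists_isQuot (Or.inl hJ) (k + 1) (X'.obj (op m))
  obtain ⟨ψ, rfl, -⟩ := hp.2 T φ hφ
  by_cases hle : k + r ≤ m
  · have : Epi (tr X' hle) := hX' _ _ hle
    have h0 : kernel.ι (tr X' hle) ≫ p = 0 := hG _ fun i => by
      have hsk : k + s i ≤ k + r := Nat.add_le_add_left (Finset.le_sup (f := s) (Finset.mem_univ i)) k
      obtain ⟨θ, hθ⟩ := exists_fac_of_strict (hstrict i) (hs i) (hsk.trans hle) ((G i).map p)
        (IsQuot.homKilledBy (EtModLib.isQuot_map (G i) (Submodule.FG.pow hJ _) hp))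
      rw [Functor.map_comp]
      refine (congrArg ((G i).map (kernel.ι (tr X' hle)) ≫ ·) hθ.symm).trans ?_
      refine (Category.assoc _ _ _).symm.trans (Eq.trans (congrArg (· ≫ θ) ?_) zero_comp)
      show (G i).map (kernel.ι (tr X' hle)) ≫ (G i).map (tr X' (hsk.trans hle)) = 0
      refine ((G i).map_comp _ _).symm.trans (Eq.trans (congrArg (G i).map ?_) ((G i).map_zero _ _))
      rw [← tr_tr X' hsk hle, ← Category.assoc, kernel.condition, zero_comp]
    refine ⟨Abelian.epiDesc (tr X' hle) p h0 ≫ ψ, ?_⟩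
    conv_rhs => rw [← tr_tr X' hle hma, Category.assoc, reassoc_of% Abelian.comp_epiDesc (tr X' hle) p h0]
  · exact ⟨tr X' (show m ≤ k + r by omega) ≫ p ≫ ψ, (tr_tr_assoc X' _ _ _).symm⟩

end Groth.Agent.ARLib

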