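import Groth.Agent.EtModLib.ARDescent

/-! descent of adicity up to translation along jointly surjective families -/

universe u

open CategoryTheory CategoryTheory.Limits Opposite ARSys AlgebraicGeometry

noncomputable section

set_option backward.isDefEq.respectTransparency.types false

namespace Groth.Agent.EtModLib

set_option backward.isDefEq.respectTransparency false

variable {Λ : Type (u + 1)} [CommRing Λ] {X : Scheme.{u}}

theorem pull_jointly_faithful {ι : Type} (U : ι → Scheme.{u}) (g : ∀ i, U i ⟶ X)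
    (hg : ∀ x : X, ∃ i, x ∈ Set.range (g i).base) {F G : EtModW.Mod Λ X} (φ : F ⟶ G)
    (h : ∀ i, (EtModW.pull Λ (g i)).map φ = 0) : φ = 0 :=
  hom_eq_zero_of_stalks φ fun Ω _ _ ξ c => by
    obtain ⟨i, t, ht⟩ := hg (ξ.base (default : Spec (CommRingCat.of Ω)))
    obtain ⟨k, _, _, ζ, hζ⟩ := EtFound.exists_geomPoint t
    obtain ⟨e⟩ := nonempty_stalk_iso (Λ := Λ) ξ (ζ ≫ g i)
      (((Scheme.Hom.comp_apply _ _ _).trans ((congrArg (g i).base hζ).trans ht)).symm)
    refine (e.app _).toLinearEquiv.map_eq_zero_iff.1 ((NatTrans.naturality_apply e.hom φ c).trans ?_)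
    obtain ⟨d, hd⟩ := ((stalkPull (Λ := Λ) (g i) ζ).app F).toLinearEquiv.surjective (e.hom.app F c)
    rw [← hd]
    refine (NatTrans.naturality_apply (stalkPull (g i) ζ).hom φ d).symm.trans ?_
    show (stalkPull (g i) ζ).hom.app G (((EtModW.stalk Λ ζ).map ((EtModW.pull Λ (g i)).map φ)).hom d) = 0
    obtain ⟨-, _, -⟩ := linear_stalk (Λ := Λ) ζ
    rw [h i, Functor.map_zero]
    exact map_zero _

theorem exists_constr_adic_pull [IsNoetherianRing Λ] {J : Ideal Λ} {U : Scheme.{u}} (g : U ⟶ X) {F : PS (EtModW.Mod Λ X)}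
    (h : TermKilled J F ∧ ∃ (Y : PS (EtModW.Mod Λ X)) (v : Y ⟶ F), IsAdic J Y ∧
      (∀ n : ℕ, EtModW.IsConstructible Λ (Y.obj (op n))) ∧ IsARIso v) :
    TermKilled J (F ⋙ EtModW.pull Λ g) ∧ ∃ (Y : PS (EtModW.Mod Λ U)) (v : Y ⟶ F ⋙ EtModW.pull Λ g), IsAdic J Y ∧
      (∀ n : ℕ, EtModW.IsConstructible Λ (Y.obj (op n))) ∧ IsARIso v := by
  obtain ⟨_, _, _⟩ := preservesFiniteLimits_pull (Λ := Λ) g
  haveI := linear_pull (Λ := Λ) g
  obtain ⟨hk, Y, v, hY, hc, hv⟩ := h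
  exact ⟨termKilled_map _ hk, Y ⋙ EtModW.pull Λ g, Functor.whiskerRight v _,
    isAdic_map _ (IsNoetherian.noetherian J) hY, fun n => isConstructible_pull g (hc n), isARIso_map _ hv⟩

theorem exists_constr_adic_iff [IsNoetherianRing Λ] [IsLocallyNoetherian X] {J : Ideal Λ} {ι : Type} [Finite ι]
    (U : ι → Scheme.{u}) (g : ∀ i, U i ⟶ X) (hg : ∀ x : X, ∃ i, x ∈ Set.range (g i).base)
    {F : PS (EtModW.Mod Λ X)} (hc : ∀ n, EtModW.IsConstructible Λ (F.obj (op n))) (hk : TermKilled J F)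
    (h : ∀ i, ∃ (Y : PS (EtModW.Mod Λ (U i))) (v : Y ⟶ F ⋙ EtModW.pull Λ (g i)), IsAdic J Y ∧ IsARIso v) :
    TermKilled J F ∧ ∃ (Y : PS (EtModW.Mod Λ X)) (v : Y ⟶ F), IsAdic J Y ∧
      (∀ n : ℕ, EtModW.IsConstructible Λ (Y.obj (op n))) ∧ IsARIso v := by
  haveI := fun i => (preservesFiniteLimits_pull (Λ := Λ) (g i)).2.1
  haveI := fun i => (preservesFiniteLimits_pull (Λ := Λ) (g i)).2.2
  haveI := fun i => linear_pull (Λ := Λ) (g i)
  exact exists_constr_adic (ARLib.isARAdic_of_map (fun i => EtModW.pull Λ (g i))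
    (fun φ hφ => pull_jointly_faithful U g hg φ hφ) (IsNoetherian.noetherian J) hk
    fun i => ⟨termKilled_map _ hk, h i⟩) hc

end Groth.Agent.EtModLib
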