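import Groth.Agent.EtModLib.PullMod
import Groth.Agent.EtFound.PointHom
import Groth.Agent.EtFound.StalkSet

/-! On a connected noetherian scheme the stalk systems of a locally constant system are all isomorphic. -/

universe u

open CategoryTheory CategoryTheory.Limits AlgebraicGeometry Opposite

noncomputable section

set_option backward.isDefEq.respectTransparency false
set_option backward.isDefEq.respectTransparency.types false

namespace Groth.Agent.EtModLib

open EtFound

variable {Λ : Type (u + 1)} [CommRing Λ] {X : Scheme.{u}}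

theorem pointHom_germ_mod {k k' : Type u} [Field k] [IsSepClosed k] [Field k'] [IsSepClosed k']
    {η : Spec (CommRingCat.of k) ⟶ X} {η' : Spec (CommRingCat.of k') ⟶ X}
    (φ : Scheme.pointSmallEtale η' ⟶ Scheme.pointSmallEtale η) (F : EtModW.Mod Λ X) {U : X.Etale}
    (u : (Scheme.pointSmallEtale η).fiber.obj U) (s : F.obj.obj (op U)) :
    ((GrothendieckTopology.Point.Hom.sheafFiber (A := ModuleCat.{u + 1} Λ) φ).app F).hom (germ η u F s) =
      germ η' (φ.hom.app U u) F s := by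
  refine (ConcreteCategory.comp_apply _ _ _).symm.trans ?_
  exact ConcreteCategory.congr_hom ((Scheme.pointSmallEtale η).toPresheafFiber_presheafFiberDesc (P := F.obj)
    (fun W w => (Scheme.pointSmallEtale η').toPresheafFiber W (φ.hom.app W w) F.obj)
    (fun W W' f x => by rw [GrothendieckTopology.Point.toPresheafFiber_w, NatTrans.naturality_apply]) U u) s

theorem bijective_pointHom {F : EtModW.Mod Λ X} (hF : EtModW.IsFTLocConst Λ F)
    {k k' : Type u} [Field k] [IsAlgClosed k] [Field k'] [IsAlgClosed k']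
    {η : Spec (CommRingCat.of k) ⟶ X} {η' : Spec (CommRingCat.of k') ⟶ X}
    (φ : Scheme.pointSmallEtale η' ⟶ Scheme.pointSmallEtale η) :
    Function.Bijective ((GrothendieckTopology.Point.Hom.sheafFiber (A := ModuleCat.{u + 1} Λ) φ).app F).hom := by
  obtain ⟨U, p, hp, S, hS⟩ := (isFTLocConst_iff F).1 hF (η.base default)
  obtain ⟨u, -⟩ := Scheme.pointSmallEtaleFiberObjToPreimage_surjective η rfl U ⟨p, hp⟩
  refine ⟨fun a b e => ?_, fun c => ?_⟩
  · obtain ⟨s, hs, rfl⟩ := hS.exists_germ u a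
    obtain ⟨t, ht, rfl⟩ := hS.exists_germ u b
    rw [pointHom_germ_mod, pointHom_germ_mod] at e
    rw [hS.eq_of_germ _ hs ht e]
  · obtain ⟨s, -, rfl⟩ := hS.exists_germ (φ.hom.app U u) c
    exact ⟨germ η u F s, pointHom_germ_mod φ F u s⟩

/-- Two points have isomorphic stalk systems. -/
def SameSys (F : ℕᵒᵖ ⥤ EtModW.Mod Λ X) (x y : X) : Prop :=
  ∀ (k : Type u) (_ : Field k) (_ : IsSepClosed k) (η : Spec (CommRingCat.of k) ⟶ X)
    (k' : Type u) (_ : Field k') (_ : IsSepClosed k') (η' : Spec (CommRingCat.of k') ⟶ X),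
    η.base default = x → η'.base default = y →
      Nonempty ((F ⋙ EtModW.stalk Λ η) ≅ (F ⋙ EtModW.stalk Λ η'))

theorem SameSys.refl (F : ℕᵒᵖ ⥤ EtModW.Mod Λ X) (x : X) : SameSys F x x := fun _ _ _ η _ _ _ η' h h' => by
  obtain ⟨e⟩ := nonempty_stalk_iso (Λ := Λ) η η' (h.trans h'.symm)
  exact ⟨Functor.isoWhiskerLeft F e⟩

theorem SameSys.symm {F : ℕᵒᵖ ⥤ EtModW.Mod Λ X} {x y : X} (h : SameSys F x y) : SameSys F y x :=
  fun k i j η k' i' j' η' hy hx => ⟨(h k' i' j' η' k i j η hx hy).some.symm⟩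

theorem SameSys.trans {F : ℕᵒᵖ ⥤ EtModW.Mod Λ X} {x y z : X} (h : SameSys F x y) (h' : SameSys F y z) :
    SameSys F x z := fun k i j η k' i' j' η' hx hz => by
  obtain ⟨Ω, _, _, ζ, hζ⟩ := exists_geomPoint y
  exact ⟨(h k i j η Ω _ inferInstance ζ hx hζ).some ≪≫ (h' Ω _ inferInstance ζ k' i' j' η' hζ hz).some⟩

theorem sameSys_of_specializes {F : ℕᵒᵖ ⥤ EtModW.Mod Λ X}
    (hF : ∀ n : ℕ, EtModW.IsFTLocConst Λ (F.obj (op n))) {x x' : X} (h : x' ⤳ x) : SameSys F x x' := by
  intro k _ _ η k' _ _ η' hx hx'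
  obtain ⟨Ω, _, _, ξ, hξ⟩ := exists_geomPoint x
  obtain ⟨Ω', _, _, ξ', hξ'⟩ := exists_geomPoint x'
  let T : X.Etale := Scheme.Etale.mk (𝟙 X)
  let u : (Scheme.pointSmallEtale ξ).fiber.obj T := CategoryTheory.Over.homMk ξ (Category.comp_id _)
  let v : (Scheme.pointSmallEtale ξ').fiber.obj T := CategoryTheory.Over.homMk ξ' (Category.comp_id _)
  obtain ⟨φ, -⟩ := exists_pointHom ξ ξ' u v (by
    show ξ'.base default ⤳ ξ.base default
    rw [hξ, hξ']
    exact h)
  let α := Functor.whiskerLeft F (GrothendieckTopology.Point.Hom.sheafFiber (A := ModuleCat.{u + 1} Λ) φ)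
  haveI : ∀ m, IsIso (α.app m) := fun m =>
    (ConcreteCategory.isIso_iff_bijective _).2 (bijective_pointHom (hF m.unop) φ)
  haveI := NatIso.isIso_of_isIso_app α
  obtain ⟨e⟩ := nonempty_stalk_iso (Λ := Λ) η ξ (hx.trans hξ.symm)
  obtain ⟨e'⟩ := nonempty_stalk_iso (Λ := Λ) ξ' η' (hξ'.trans hx'.symm)
  exact ⟨Functor.isoWhiskerLeft F e ≪≫ asIso α ≪≫ Functor.isoWhiskerLeft F e'⟩

theorem sameSys_all [IsNoetherian X] [ConnectedSpace X] {F : ℕᵒᵖ ⥤ EtModW.Mod Λ X}
    (hF : ∀ n : ℕ, EtModW.IsFTLocConst Λ (F.obj (op n))) (x y : X) : SameSys F x y := by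
  have key : ∀ P : X → Prop, (∀ a b : X, a ⤳ b → (P a ↔ P b)) → IsClosed {a | P a} := fun P hP => by
    have hfin : (irreducibleComponents X).Finite := TopologicalSpace.NoetherianSpace.finite_irreducibleComponents
    have : {a | P a} = ⋃ Z ∈ {Z ∈ irreducibleComponents X | ∀ a ∈ Z, P a}, Z := by
      ext a
      refine ⟨fun ha => ?_, fun ha => ?_⟩
      · let Z := irreducibleComponent a
        have hZ : Z ∈ irreducibleComponents X := irreducibleComponent_mem_irreducibleComponents a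
        refine Set.mem_biUnion ⟨hZ, fun b hb => ?_⟩ mem_irreducibleComponent
        obtain ⟨g, hg⟩ := QuasiSober.sober (isIrreducible_irreducibleComponent (x := a)) isClosed_irreducibleComponent
        exact (hP g b (hg.specializes hb)).1 ((hP g a (hg.specializes mem_irreducibleComponent)).2 ha)
      · obtain ⟨Z, ⟨-, hZ⟩, haZ⟩ := Set.mem_iUnion₂.1 ha
        exact hZ a haZ
    rw [this]
    exact (hfin.subset fun Z hZ => hZ.1).isClosed_biUnion fun Z hZ => isClosed_of_mem_irreducibleComponents Z hZ.1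
  have hstep : ∀ a b : X, a ⤳ b → (SameSys F x a ↔ SameSys F x b) := fun a b hab =>
    ⟨fun h => h.trans (sameSys_of_specializes hF hab).symm, fun h => h.trans (sameSys_of_specializes hF hab)⟩
  have h1 : IsClopen {a | SameSys F x a} := by
    refine ⟨key _ hstep, ?_⟩
    rw [← isClosed_compl_iff]
    exact key (fun a => ¬ SameSys F x a) fun a b hab => not_congr (hstep a b hab)
  have h2 := h1.eq_univ ⟨x, SameSys.refl F x⟩
  have h3 : y ∈ {a | SameSys F x a} := h2.symm ▸ Set.mem_univ y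
  exact h3

end Groth.Agent.EtModLib
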