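import Groth.Agent.EtModLib.ARDescentPull
import Groth.Agent.EtModLib.StalkSystems
import Mathlib.CategoryTheory.Linear.FunctorCategory
import Mathlib.CategoryTheory.Abelian.FunctorCategory

/-! locally constant systems are adic up to translation once one stalk system is -/

universe u

open CategoryTheory CategoryTheory.Limits Opposite ARSys AlgebraicGeometry

noncomputable section

set_option backward.isDefEq.respectTransparency false
set_option backward.isDefEq.respectTransparency.types false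

namespace Groth.Agent.EtModLib

variable {Λ : Type (u + 1)} [CommRing Λ] {X : Scheme.{u}}

theorem isARAdic_of_stalk [IsNoetherianRing Λ] [IsNoetherian X] [ConnectedSpace X] {J : Ideal Λ}
    {F : PS (EtModW.Mod Λ X)} (hl : ∀ n : ℕ, EtModW.IsFTLocConst Λ (F.obj (op n))) (hk : TermKilled J F)
    {Ω : Type u} [Field Ω] [IsSepClosed Ω] (s : Spec (CommRingCat.of Ω) ⟶ X)
    (h : IsARAdic J (F ⋙ EtModW.stalk Λ s)) : IsARAdic J F := by
  choose K hK₁ hK₂ ξ hξ using fun x : X => EtFound.exists_geomPoint x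
  letI := hK₁
  haveI := hK₂
  let G : EtModW.Mod Λ X ⥤ (Discrete X ⥤ ModuleCat.{u + 1} Λ) :=
    Functor.flip (Discrete.functor fun x => EtModW.stalk Λ (ξ x))
  haveI hadd : G.Additive := ⟨fun {A B a b} => NatTrans.ext (funext fun x => by
    obtain ⟨-, _, -⟩ := linear_stalk (Λ := Λ) (ξ x.as)
    exact (EtModW.stalk Λ (ξ x.as)).map_add)⟩
  haveI hlin : G.Linear Λ := ⟨fun {A B} a r => NatTrans.ext (funext fun x => by
    obtain ⟨_, _, -⟩ := linear_stalk (Λ := Λ) (ξ x.as)
    exact (EtModW.stalk Λ (ξ x.as)).map_smul r a)⟩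
  haveI hcol : PreservesFiniteColimits G := ⟨fun J _ _ => preservesColimitsOfShape_of_evaluation G J fun x => by
    obtain ⟨-, -, hp⟩ := linear_stalk (Λ := Λ) (ξ x.as)
    exact hp.preservesFiniteColimits J⟩
  let D := Functor.const (Discrete X) (C := ModuleCat.{u + 1} Λ)
  haveI : D.Additive := ⟨fun {A B a b} => NatTrans.ext (funext fun x => rfl)⟩
  haveI : D.Linear Λ := ⟨fun {A B} a r => NatTrans.ext (funext fun x => rfl)⟩
  haveI : PreservesFiniteColimits D := ⟨fun J _ _ => preservesColimitsOfShape_of_evaluation D J fun x =>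
    (inferInstance : PreservesColimitsOfShape J (𝟭 (ModuleCat.{u + 1} Λ)))⟩
  have e₀ : ∀ x : X, Nonempty (F ⋙ EtModW.stalk Λ s ≅ F ⋙ EtModW.stalk Λ (ξ x)) := fun x =>
    sameSys_all hl (s.base default) x Ω _ inferInstance s (K x) _ inferInstance (ξ x) rfl (hξ x)
  let e : (F ⋙ EtModW.stalk Λ s) ⋙ D ≅ F ⋙ G := NatIso.ofComponents
    (fun n => Discrete.natIso fun x => (e₀ x.as).some.app n)
    (fun {n m} f => NatTrans.ext (funext fun x => (e₀ x.as).some.hom.naturality f))
  refine ARLib.isARAdic_of_map (ι := Unit) (fun _ => G) (fun {A B} φ hφ => hom_eq_zero_of_stalks φ fun k _ _ ζ c => ?_)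
    (IsNoetherian.noetherian J) hk fun _ => ?_
  · obtain ⟨e'⟩ := nonempty_stalk_iso (Λ := Λ) ζ (ξ (ζ.base default)) (hξ _).symm
    refine (e'.app _).toLinearEquiv.map_eq_zero_iff.1 ((NatTrans.naturality_apply e'.hom φ c).trans ?_)
    exact LinearMap.congr_fun (congrArg ModuleCat.Hom.hom (congrArg (fun t => NatTrans.app t ⟨ζ.base default⟩) (hφ ()))) _
  · obtain ⟨-, Y, v, hY, hv⟩ := h
    exact ⟨termKilled_map G hk, Y ⋙ D, Functor.whiskerRight v D ≫ e.hom, isAdic_map D (IsNoetherian.noetherian J) hY,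
      ARLib.isARIso_comp (isARIso_map D hv) (ARLib.isARIso_of_isIso e)⟩

theorem exists_finite_adic_stalk [IsNoetherianRing Λ] {J : Ideal Λ} {F : PS (EtModW.Mod Λ X)}
    (h : TermKilled J F ∧ ∃ (Y : PS (EtModW.Mod Λ X)) (v : Y ⟶ F), IsAdic J Y ∧
      (∀ n : ℕ, EtModW.IsConstructible Λ (Y.obj (op n))) ∧ IsARIso v)
    {Ω : Type u} [Field Ω] [IsSepClosed Ω] (s : Spec (CommRingCat.of Ω) ⟶ X) :
    TermKilled J (F ⋙ EtModW.stalk Λ s) ∧ ∃ (Y : PS (ModuleCat.{u + 1} Λ)) (v : Y ⟶ F ⋙ EtModW.stalk Λ s),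
      IsAdic J Y ∧ (∀ n : ℕ, Module.Finite Λ (Y.obj (op n))) ∧ IsARIso v := by
  obtain ⟨_, _, _⟩ := linear_stalk (Λ := Λ) s
  obtain ⟨hk, Y, v, hY, hc, hv⟩ := h
  exact ⟨termKilled_map _ hk, Y ⋙ EtModW.stalk Λ s, Functor.whiskerRight v _,
    isAdic_map _ (IsNoetherian.noetherian J) hY, fun n => finite_stalk_of_isConstructible (hc n) s, isARIso_map _ hv⟩

end Groth.Agent.EtModLib
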