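import Groth.Agent.ARLib.AdicOps
import Groth.Agent.ARLib.Basic
import Mathlib.RingTheory.Ideal.Operations

/-! multiplication by elements of powers of the ideal, from the bottom of an adic system -/

universe w v u

open CategoryTheory CategoryTheory.Limits Opposite ARSys

noncomputable section

set_option backward.isDefEq.respectTransparency.types false

namespace Groth.Agent.EtModLib

open Groth.Agent.ARLib

variable {C : Type u} [Category.{v} C] [Abelian C] {A : Type w} [CommRing A] [Linear A C] {J : Ideal A} {X : PS C}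

theorem exists_mu (hX : IsAdic J X) (q : ℕ) (a : (J ^ q : Ideal A)) :
    ∃! μ : X.obj (op 0) ⟶ X.obj (op q), tr X (Nat.zero_le q) ≫ μ = (a : A) • 𝟙 _ :=
  (hX.2 0 q (Nat.zero_le q)).2 _ ((a : A) • 𝟙 _) fun b hb => by
    rw [smul_smul]
    refine hX.1 q _ ?_
    rw [pow_succ']
    exact Ideal.mul_mem_mul (by simpa using hb) a.2

/-- multiplication by `a ∈ J ^ q`, from `X_0` to `X_q` -/
def mu (hX : IsAdic J X) (q : ℕ) : (J ^ q : Ideal A) →ₗ[A] (X.obj (op 0) ⟶ X.obj (op q)) where
  toFun a := (exists_mu hX q a).exists.choose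
  map_add' a b := by
    haveI := IsQuot.epi (hX.2 0 q (Nat.zero_le q))
    rw [← cancel_epi (tr X (Nat.zero_le q)), (exists_mu hX q _).exists.choose_spec, Preadditive.comp_add,
      (exists_mu hX q a).exists.choose_spec, (exists_mu hX q b).exists.choose_spec, Submodule.coe_add, add_smul]
  map_smul' r a := by
    haveI := IsQuot.epi (hX.2 0 q (Nat.zero_le q))
    rw [← cancel_epi (tr X (Nat.zero_le q)), (exists_mu hX q _).exists.choose_spec, RingHom.id_apply, Linear.comp_smul,
      (exists_mu hX q a).exists.choose_spec, Submodule.coe_smul, smul_eq_mul, mul_smul]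

theorem tr_mu (hX : IsAdic J X) (q : ℕ) (a : (J ^ q : Ideal A)) :
    tr X (Nat.zero_le q) ≫ mu hX q a = (a : A) • 𝟙 _ :=
  (exists_mu hX q a).exists.choose_spec

theorem mu_tr (hX : IsAdic J X) {n q : ℕ} (h : n ≤ q) (a : (J ^ q : Ideal A)) :
    mu hX q a ≫ tr X h = mu hX n ⟨(a : A), Ideal.pow_le_pow_right h a.2⟩ := by
  haveI := IsQuot.epi (hX.2 0 q (Nat.zero_le q))
  rw [← cancel_epi (tr X (Nat.zero_le q)), ← Category.assoc, tr_mu, ← tr_tr X (Nat.zero_le n) h, Category.assoc,
    tr_mu, Linear.smul_comp, Category.id_comp, Linear.comp_smul, Category.comp_id]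

theorem mu_eq_zero (hX : IsAdic J X) (n : ℕ) (a : (J ^ n : Ideal A)) (ha : (a : A) ∈ J ^ (n + 1)) :
    mu hX n a = 0 := by
  haveI := IsQuot.epi (hX.2 0 n (Nat.zero_le n))
  rw [← cancel_epi (tr X (Nat.zero_le n)), tr_mu, comp_zero]
  exact hX.1 n _ ha

theorem mu_mul (hX : IsAdic J X) (q : ℕ) {b : A} (hb : b ∈ J) (a : (J ^ q : Ideal A)) :
    mu hX (q + 1) ⟨b * a, by rw [pow_succ']; exact Ideal.mul_mem_mul hb a.2⟩ = mu hX q a ≫ mul hX hb q := by
  haveI := IsQuot.epi (hX.2 0 (q + 1) (Nat.zero_le _))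
  rw [← cancel_epi (tr X (Nat.zero_le (q + 1))), tr_mu]
  conv_rhs => rw [← tr_tr X (Nat.zero_le q) (Nat.le_succ q), Category.assoc, ← Category.assoc (tr X (Nat.zero_le q)),
    tr_mu, Linear.smul_comp, Category.id_comp, Linear.comp_smul, tr_mul, smul_smul]
  exact congrArg (fun c : A => c • 𝟙 (X.obj (op (q + 1)))) (mul_comm b (a : A))

end Groth.Agent.EtModLib
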