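import Groth.Agent.EtModLib.FLC
import Groth.Agent.EtFound.PullConst
import Groth.Agent.EtFound.PullStalk
import Groth.Agent.EtFound.AbRecollement

/-! Inverse images of sheaves of modules: stalks, exactness, composition. -/

universe u

open CategoryTheory CategoryTheory.Limits AlgebraicGeometry Opposite

noncomputable section

set_option backward.isDefEq.respectTransparency false
set_option backward.isDefEq.respectTransparency.types false

namespace Groth.Agent.EtModLib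

open EtFound

variable (Λ : Type (u + 1)) [CommRing Λ]

theorem hasProducts_modules : HasProducts.{u} (ModuleCat.{u + 1} Λ) := fun J => by
  haveI : HasLimitsOfSize.{u, u} (ModuleCat.{u + 1} Λ) :=
    hasLimitsOfSizeOfUnivLE.{u + 1, u + 1, u, u} (ModuleCat.{u + 1} Λ)
  infer_instance

variable {Λ} {X Y : Scheme.{u}}

/-- `(f^* G)_ξ ≅ G_{f ξ}`. -/
def stalkPull (f : X ⟶ Y) {Ω : Type u} [Field Ω] [IsSepClosed Ω] (ξ : Spec (CommRingCat.of Ω) ⟶ X) :
    EtModW.pull Λ f ⋙ EtModW.stalk Λ ξ ≅ EtModW.stalk Λ (ξ ≫ f) :=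
  haveI := hasProducts_modules Λ
  sheafFiberPullIso f ξ

theorem pull_exact (f : X ⟶ Y) : ∀ {F G : EtModW.Mod Λ Y} (a : F ⟶ G), Mono a → Mono ((EtModW.pull Λ f).map a) := by
  intro F G a ha
  haveI : ∀ U, Mono (((EtModW.pull Λ f).map a).hom.app U) := fun U => by
    refine (ModuleCat.mono_iff_injective _).2 fun x y hxy => ?_
    let P := ((EtModW.pull Λ f).obj F)
    have hsh : Presieve.IsSheaf X.smallEtaleTopology (P.obj ⋙ forget _) :=
      (isSheaf_iff_isSheaf_of_type _ _).1 ((Presheaf.isSheaf_iff_isSheaf_forget X.smallEtaleTopology P.obj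
        (forget (ModuleCat.{u + 1} Λ))).1 P.2)
    refine ((hsh _ (equalizerSieve_mem_of_germs P.obj U.unop x y fun Ω _ _ ξ u => ?_)).isSeparatedFor).ext
      fun V g hg => hg
    haveI : Mono ((EtModW.stalk Λ (ξ ≫ f)).map a) :=
      (ModuleCat.mono_iff_injective _).2 (injective_stalk a (ξ ≫ f))
    have h2 : Mono ((EtModW.pull Λ f ⋙ EtModW.stalk Λ ξ).map a) := by
      let e : EtModW.pull Λ f ⋙ EtModW.stalk Λ ξ ≅ EtModW.stalk Λ (ξ ≫ f) := stalkPull (Λ := Λ) f ξ
      exact ((MorphismProperty.monomorphisms (ModuleCat.{u + 1} Λ)).arrow_mk_iso_iff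
        (Arrow.isoMk (e.app F) (e.app G) (e.hom.naturality a).symm)).2 ‹_›
    apply (ModuleCat.mono_iff_injective ((EtModW.stalk Λ ξ).map ((EtModW.pull Λ f).map a))).1 h2
    refine (germ_app ξ u _ x).trans (Eq.trans ?_ (germ_app ξ u _ y).symm)
    exact congrArg (germ ξ u _) hxy
  haveI := NatTrans.mono_of_mono_app ((EtModW.pull Λ f).map a).hom
  exact (sheafToPresheaf _ _).mono_of_mono_map ‹_›

theorem preservesFiniteLimits_pull (f : X ⟶ Y) :
    PreservesFiniteLimits (EtModW.pull Λ f) ∧ PreservesFiniteColimits (EtModW.pull Λ f) ∧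
      (EtModW.pull Λ f).Additive := by
  have adj : EtModW.pull Λ f ⊣ EtModW.push Λ f := Functor.sheafAdjunctionContinuous _ _ _ _
  haveI : (EtModW.pull Λ f).IsLeftAdjoint := adj.isLeftAdjoint
  haveI : PreservesFiniteColimits (EtModW.pull Λ f) := by
    haveI : PreservesColimitsOfSize.{0, 0} (EtModW.pull Λ f) := adj.leftAdjoint_preservesColimits
    infer_instance
  haveI : (EtModW.pull Λ f).Additive := adj.left_adjoint_additive
  refine ⟨(((EtModW.pull Λ f).preservesFiniteLimits_tfae).out 0 3).1 ?_, inferInstance, inferInstance⟩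
  intro S hS
  exact ⟨(hS.exact.map_of_epi_of_preservesCokernel (EtModW.pull Λ f) hS.epi_g inferInstance),
    pull_exact f S.f hS.mono_f⟩

/-- inverse images compose -/
def pullCompMod {Z : Scheme.{u}} (h : Z ⟶ X) (f : X ⟶ Y) :
    EtModW.pull Λ (h ≫ f) ≅ EtModW.pull Λ f ⋙ EtModW.pull Λ h :=
  Adjunction.leftAdjointUniq (Functor.sheafAdjunctionContinuous (EtCoh.bc (h ≫ f)) _ _ _)
    (((Functor.sheafAdjunctionContinuous (EtCoh.bc f) _ _ _).comp
      (Functor.sheafAdjunctionContinuous (EtCoh.bc h) _ _ _)).ofNatIsoRight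
      (Functor.sheafPushforwardContinuousComp' (F := EtCoh.bc f) (G := EtCoh.bc h) (FG := EtCoh.bc (h ≫ f))
        ((MorphismProperty.Over.pullbackComp (P := EtCoh.etaleMP) (Q := ⊤) h f).symm :
          EtCoh.bc f ⋙ EtCoh.bc h ≅ EtCoh.bc (h ≫ f))
        (ModuleCat.{u + 1} Λ) Y.smallEtaleTopology X.smallEtaleTopology Z.smallEtaleTopology))

theorem isFTLocConst_of_iso {F G : EtModW.Mod Λ X} (e : F ≅ G) (h : EtModW.IsFTLocConst Λ F) :
    EtModW.IsFTLocConst Λ G := by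
  obtain ⟨ι, U, hU, hF⟩ := h
  refine ⟨ι, U, hU, fun i => ?_⟩
  obtain ⟨M, iM, mM, fM, ⟨a⟩⟩ := hF i
  exact ⟨M, iM, mM, fM, ⟨((X.smallEtaleTopology.overPullback (ModuleCat.{u + 1} Λ) (U i)).mapIso e).symm ≪≫ a⟩⟩

theorem isFTLocConst_pull (f : X ⟶ Y) {G : EtModW.Mod Λ Y} (h : EtModW.IsFTLocConst Λ G) :
    EtModW.IsFTLocConst Λ ((EtModW.pull Λ f).obj G) := by
  haveI := hasProducts_modules Λ
  obtain ⟨ι, U, hU, hG⟩ := h
  refine ⟨ι, _, covers_bc f hU, fun i => ?_⟩
  obtain ⟨M, iM, mM, fM, e⟩ := hG i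
  exact ⟨M, iM, mM, fM, nonempty_restr_pull_iso f e⟩

theorem nonempty_stalk_iso {k k' : Type u} [Field k] [IsSepClosed k] [Field k'] [IsSepClosed k']
    (ξ : Spec (CommRingCat.of k) ⟶ X) (ξ' : Spec (CommRingCat.of k') ⟶ X)
    (h : ξ.base (default : Spec (CommRingCat.of k)) = ξ'.base (default : Spec (CommRingCat.of k'))) :
    Nonempty (EtModW.stalk Λ ξ ≅ EtModW.stalk Λ ξ') := by
  obtain ⟨Ω, _, _, z, e, he⟩ := exists_lift_extension ξ ξ' ⟨default, h⟩
  exact ⟨stalkExtIso (ModuleCat.{u + 1} Λ) ξ z ≪≫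
    eqToIso (congrArg (fun q => EtModW.stalk Λ q) he.symm) ≪≫ (stalkExtIso (ModuleCat.{u + 1} Λ) ξ' e).symm⟩

theorem finite_stalk_of_isFTLocConst {F : EtModW.Mod Λ X} (hF : EtModW.IsFTLocConst Λ F) {Ω : Type u} [Field Ω]
    [IsSepClosed Ω] (ξ : Spec (CommRingCat.of Ω) ⟶ X) : Module.Finite Λ ((EtModW.stalk Λ ξ).obj F) := by
  obtain ⟨U, p, hp, S, hS⟩ := (isFTLocConst_iff F).1 hF (ξ.base default)
  obtain ⟨k, _, _, ζ, z, hz⟩ := exists_algClosed_point U p
  obtain ⟨e⟩ := nonempty_stalk_iso (Λ := Λ) ζ ξ ((base_of_point z).symm.trans ((congrArg _ hz).trans hp))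
  haveI : Module.Finite Λ S := Module.Finite.iff_fg.2 hS.1
  exact Module.Finite.equiv ((LinearEquiv.ofBijective (germ ζ z F ∘ₗ S.subtype) (hS.2 k ζ z)).trans (e.app F).toLinearEquiv)

end Groth.Agent.EtModLib
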