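import Groth.Agent.EtModLib.ExactAb
import Groth.Agent.EtModLib.PullMod
import Groth.Agent.ARLib.Adic
import Groth.Agent.ARLib.Basic
import Groth.Prelude.Def_ARSys
import Mathlib.CategoryTheory.Adjunction.Unique

/-! From towers of quotients on the pro-etale site to adic systems on the etale site. -/

universe u

open CategoryTheory CategoryTheory.Limits AlgebraicGeometry Opposite ARSys

noncomputable section

set_option backward.isDefEq.respectTransparency false
set_option backward.isDefEq.respectTransparency.types false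

namespace Groth.Agent.EtModLib

section

variable {C : Type*} [Category C] [Abelian C] {D : Type*} [Category D] [Abelian D]
  {A : Type*} [CommRing A] [Linear A C] [Linear A D]

theorem isQuot_of_comp {I I' : Ideal A} (hI : I' ≤ I) {X Q' Q : C} {p' : X ⟶ Q'} {t : Q' ⟶ Q}
    (h' : IsQuot I' p') (h : IsQuot I (p' ≫ t)) : IsQuot I t := by
  haveI := Groth.Agent.ARLib.IsQuot.epi h'
  refine ⟨h.1, fun Y φ hφ => ?_⟩
  obtain ⟨ψ, hψ, hu⟩ := h.2 Y (p' ≫ φ) (Groth.Agent.ARLib.killed_comp_left hφ p')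
  refine ⟨ψ, (cancel_epi p').1 ((Category.assoc _ _ _).symm.trans hψ), fun ψ' hψ' => hu ψ' ?_⟩
  exact (Category.assoc _ _ _).trans (congrArg (p' ≫ ·) hψ')

theorem isQuot_reflect {L : C ⥤ D} {R : D ⥤ C} (adj : L ⊣ R) [IsIso adj.unit]
    (hR : ∀ {X Y : D} (a : A) (f : X ⟶ Y), R.map (a • f) = a • R.map f) [R.Additive]
    {I : Ideal A} {M N : D} {t : M ⟶ N} (hM : IsIso (adj.counit.app M)) (hN : IsIso (adj.counit.app N))
    (h : IsQuot I t) : IsQuot I (R.map t) := by
  refine ⟨fun a ha => ?_, fun Y φ hφ => ?_⟩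
  · rw [← R.map_id, ← hR, h.1 a ha, R.map_zero]
  have hs : ∀ {X : C} {W : D} (a : A) (f : L.obj X ⟶ W), adj.homEquiv _ _ (a • f) = a • adj.homEquiv _ _ f :=
    fun a f => by rw [adj.homEquiv_unit, adj.homEquiv_unit, hR, Linear.comp_smul]
  let ψ : M ⟶ L.obj Y := inv (adj.counit.app M) ≫ L.map φ
  have hψ : HomKilledBy I ψ := fun a ha => by
    have h0 : L.map φ ≫ (a • 𝟙 (L.obj Y)) = 0 := by
      apply (adj.homEquiv _ _).injective
      rw [adj.homEquiv_naturality_left, hs]
      refine (Linear.comp_smul ..).trans ?_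
      have h1 : a • φ = 0 := hφ a ha
      rw [← Linear.smul_comp, h1, zero_comp, adj.homEquiv_unit, R.map_zero, comp_zero]
    show a • ψ = 0
    have : a • L.map φ = 0 := by rw [← h0, Linear.comp_smul, Category.comp_id]
    rw [← Linear.comp_smul, this, comp_zero]
  obtain ⟨τ, hτ, hu⟩ := h.2 _ ψ hψ
  have key : R.map ψ ≫ inv (adj.unit.app Y) = φ := by
    rw [IsIso.comp_inv_eq]
    have h1 : adj.unit.app (R.obj M) ≫ R.map (adj.counit.app M) = 𝟙 _ := adj.right_triangle_components M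
    have h2 : R.map (inv (adj.counit.app M)) = adj.unit.app (R.obj M) := by
      rw [R.map_inv]; exact (IsIso.eq_inv_of_inv_hom_id (f := R.map (adj.counit.app M)) h1).symm
    rw [R.map_comp, h2]
    exact adj.unit_naturality φ
  refine ⟨R.map τ ≫ inv (adj.unit.app Y), ?_, fun τ' hτ' => ?_⟩
  · show R.map t ≫ R.map τ ≫ inv (adj.unit.app Y) = φ
    rw [← Category.assoc, ← R.map_comp, hτ, key]
  · let τ'' : N ⟶ L.obj Y := inv (adj.counit.app N) ≫ L.map τ'
    have e : τ'' = τ := hu τ'' (by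
      show t ≫ inv (adj.counit.app N) ≫ L.map τ' = inv (adj.counit.app M) ≫ L.map φ
      have hn : t ≫ inv (adj.counit.app N) = inv (adj.counit.app M) ≫ L.map (R.map t) := by
        rw [IsIso.comp_inv_eq, Category.assoc]
        exact (IsIso.eq_inv_comp _).2 (adj.counit_naturality t).symm
      rw [← Category.assoc, hn, Category.assoc, ← L.map_comp]
      exact congrArg (fun f => inv (adj.counit.app M) ≫ L.map f) hτ')
    rw [← e, IsIso.eq_comp_inv, R.map_comp]
    have h2 : R.map (inv (adj.counit.app N)) = adj.unit.app (R.obj N) := by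
      rw [R.map_inv]
      exact (IsIso.eq_inv_of_inv_hom_id (f := R.map (adj.counit.app N)) (adj.right_triangle_components N)).symm
    rw [h2]
    exact (adj.unit_naturality τ').symm

end

variable (Λ : Type (u + 1)) [CommRing Λ] {X T : Scheme.{u}} [ProEtS.EpsCont X]

theorem exists_adic_of_tower {I : Ideal Λ} {F : EtModW.ModP Λ X} {Q : ℕᵒᵖ ⥤ EtModW.ModP Λ X}
    (p : (Functor.const ℕᵒᵖ).obj F ⟶ Q) (hQ : ∀ n : ℕ, IsQuot (I ^ (n + 1)) (p.app (op n)))
    (hc : ∀ n : ℕ, ∃ E : EtModW.Mod Λ X, EtModW.IsConstructible Λ E ∧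
      Nonempty ((EtModW.epsPullMod Λ X).obj E ≅ Q.obj (op n))) :
    IsAdic I (Q ⋙ epsPushMod Λ) ∧
      (∀ n : ℕ, ∃ E : EtModW.Mod Λ X, EtModW.IsConstructible Λ E ∧ Nonempty (E ≅ (Q ⋙ epsPushMod Λ).obj (op n))) ∧
      ∀ n : ℕ, IsIso ((epsModAdj Λ).counit.app (Q.obj (op n))) := by
  haveI : ∀ M : EtModW.Mod Λ X, IsIso ((epsModAdj Λ).unit.app M) := fun M => (isIso_unit_mod M).1
  haveI : IsIso (epsModAdj Λ (X := X)).unit := NatIso.isIso_of_isIso_app _
  haveI : (epsPushMod Λ (X := X)).Additive := ⟨rfl⟩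
  have hi : ∀ n : ℕ, IsIso ((epsModAdj Λ).counit.app (Q.obj (op n))) := fun n => by
    obtain ⟨E, -, e⟩ := hc n
    exact isIso_counit_of_toAb ((essImage_iff _).1 ⟨E, e⟩)
  refine ⟨⟨fun n a ha => ?_, fun n m h => ?_⟩, fun n => ?_, hi⟩
  · exact (congrArg (fun f => (epsPushMod Λ).map f) ((hQ n).1 a ha)).trans ((epsPushMod Λ).map_zero _ _)
  · refine isQuot_reflect (epsModAdj Λ) (fun a f => rfl) (hi m) (hi n) ?_
    refine isQuot_of_comp (Ideal.pow_le_pow_right (by omega)) (hQ m) ?_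
    have e : p.app (op m) ≫ Q.map (homOfLE h).op = p.app (op n) :=
      (p.naturality _).symm.trans (Category.id_comp _)
    exact e.symm ▸ hQ n
  · obtain ⟨E, hE, ⟨e⟩⟩ := hc n
    exact ⟨E, hE, ⟨asIso ((epsModAdj Λ).unit.app E) ≪≫ (epsPushMod Λ).mapIso e⟩⟩

/-- pullback to the pro-etale site commutes with inverse images -/
theorem nonempty_pullP_eps_iso [ProEtS.EpsCont T] (g : T ⟶ X) [ProEtS.PCont g] (E : EtModW.Mod Λ X) :
    Nonempty ((EtModW.epsPullMod Λ T).obj ((EtModW.pull Λ g).obj E) ≅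
      ((ProEtS.bcP g).sheafPullback (ModuleCat.{u + 1} Λ) (Scheme.ProEt.topology X) (Scheme.ProEt.topology T)).obj
        ((EtModW.epsPullMod Λ X).obj E)) := by
  let e : ProEtS.eps X ⋙ ProEtS.bcP g ≅ EtCoh.bc g ⋙ ProEtS.eps T :=
    NatIso.ofComponents (fun V => MorphismProperty.Over.isoMk (Iso.refl _) (Category.id_comp _))
      (fun g => MorphismProperty.Over.Hom.ext ((Category.comp_id _).trans (Category.id_comp _).symm))
  haveI := Functor.isContinuous_comp (ProEtS.eps X) (ProEtS.bcP g) X.smallEtaleTopology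
    (Scheme.ProEt.topology X) (Scheme.ProEt.topology T)
  let R := (ProEtS.bcP g).sheafPushforwardContinuous (ModuleCat.{u + 1} Λ) (Scheme.ProEt.topology X) (Scheme.ProEt.topology T)
  let r : R ⋙ epsPushMod Λ ≅ epsPushMod Λ ⋙ EtModW.push Λ g :=
    Functor.sheafPushforwardContinuousComp _ _ (ModuleCat.{u + 1} Λ) _ _ _ ≪≫
      (Functor.sheafPushforwardContinuousComp' e.symm (ModuleCat.{u + 1} Λ) X.smallEtaleTopology
        T.smallEtaleTopology (Scheme.ProEt.topology T)).symm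
  exact ⟨((Adjunction.leftAdjointUniq ((epsModAdj Λ).comp ((ProEtS.bcP g).sheafAdjunctionContinuous _ _ _))
    ((((EtCoh.bc g).sheafAdjunctionContinuous (ModuleCat.{u + 1} Λ) X.smallEtaleTopology T.smallEtaleTopology).comp
      (epsModAdj Λ)).ofNatIsoRight r.symm)).app E).symm⟩

end Groth.Agent.EtModLib
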