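import Groth.Agent.EtModLib.Constr
import Groth.Prelude.Def_WeakSerre
import Groth.Agent.EtFound.StalkSet

/-! Constructible sheaves of modules form a weak Serre subcategory; their stalks are finite modules. -/

universe u

open CategoryTheory CategoryTheory.Limits AlgebraicGeometry Opposite Topology

noncomputable section

set_option backward.isDefEq.respectTransparency false
set_option backward.isDefEq.respectTransparency.types false

namespace Groth.Agent.EtModLib

variable {Λ : Type (u + 1)} [CommRing Λ] {X : Scheme.{u}}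

/-- a property implied by local constancy of two sheaves passes from strata to constructibility -/
theorem isConstructible_of_two {F G K : EtModW.Mod Λ X} (hF : EtModW.IsConstructible Λ F)
    (hG : EtModW.IsConstructible Λ G)
    (h : ∀ (T : Scheme.{u}) (g : T ⟶ X), EtModW.IsFTLocConst Λ ((EtModW.pull Λ g).obj F) →
      EtModW.IsFTLocConst Λ ((EtModW.pull Λ g).obj G) → EtModW.IsFTLocConst Λ ((EtModW.pull Λ g).obj K)) :
    EtModW.IsConstructible Λ K := by
  intro U hU
  obtain ⟨n, E, hE, hc, hu⟩ := exists_pieces (hF U hU)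
  obtain ⟨m, E', hE', hc', hu'⟩ := exists_pieces (hG U hU)
  refine adaptedStrata_of_cover U.2.isLocallyClosed (fun p : Fin n × Fin m => E p.1 ∩ E' p.2) (fun p => ?_)
    (fun p => (hc p.1).inter (hc' p.2)) fun x hx => ?_
  · obtain ⟨T, g, hg, hr, hT⟩ := hE p.1
    obtain ⟨T', g', hg', hr', hT'⟩ := hE' p.2
    refine ⟨pullback g g', pullback.fst g g' ≫ g, ?_, ?_, h _ _ ?_ ?_⟩
    · have : IsImmersion (pullback.fst g g') := MorphismProperty.pullback_fst _ _ hg'
      infer_instance
    · rw [Scheme.Hom.comp_base, TopCat.coe_comp, Set.range_comp, Scheme.Pullback.range_fst,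
        Set.image_preimage_eq_range_inter, hr, hr']
    · exact isFTLocConst_of_iso ((pullCompMod _ g).app F).symm (isFTLocConst_pull _ hT)
    · rw [pullback.condition]
      exact isFTLocConst_of_iso ((pullCompMod _ g').app G).symm (isFTLocConst_pull _ hT')
  · obtain ⟨i, hi⟩ := Set.mem_iUnion.1 (hu.ge hx)
    obtain ⟨j, hj⟩ := Set.mem_iUnion.1 (hu'.ge hx)
    exact Set.mem_iUnion.2 ⟨(i, j), hi, hj⟩

theorem isConstructible_of_iso {F G : EtModW.Mod Λ X} (e : F ≅ G) (h : EtModW.IsConstructible Λ F) :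
    EtModW.IsConstructible Λ G :=
  isConstructible_of_two h h fun _ g h1 _ => isFTLocConst_of_iso ((EtModW.pull Λ g).mapIso e) h1

theorem isConstructible_kernel [IsNoetherianRing Λ] {F G : EtModW.Mod Λ X} (φ : F ⟶ G)
    (hF : EtModW.IsConstructible Λ F) (hG : EtModW.IsConstructible Λ G) :
    EtModW.IsConstructible Λ (kernel φ) :=
  isConstructible_of_two hF hG fun T g h1 h2 => by
    obtain ⟨_, _, _⟩ := preservesFiniteLimits_pull (Λ := Λ) g
    exact isFTLocConst_of_iso (PreservesKernel.iso (EtModW.pull Λ g) φ).symm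
      (isFTLocConst_kernel
        (S := ShortComplex.mk (kernel.ι ((EtModW.pull Λ g).map φ)) ((EtModW.pull Λ g).map φ) (kernel.condition _))
        (ShortComplex.exact_of_f_is_kernel _ (kernelIsKernel _)) h1 h2)

theorem isConstructible_cokernel {F G : EtModW.Mod Λ X} (φ : F ⟶ G) (hF : EtModW.IsConstructible Λ F)
    (hG : EtModW.IsConstructible Λ G) : EtModW.IsConstructible Λ (cokernel φ) :=
  isConstructible_of_two hF hG fun T g h1 h2 => by
    obtain ⟨_, _, _⟩ := preservesFiniteLimits_pull (Λ := Λ) g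
    exact isFTLocConst_of_iso (PreservesCokernel.iso (EtModW.pull Λ g) φ).symm
      (isFTLocConst_cokernel
        (S := ShortComplex.mk ((EtModW.pull Λ g).map φ) (cokernel.π ((EtModW.pull Λ g).map φ)) (cokernel.condition _))
        (ShortComplex.exact_of_g_is_cokernel _ (cokernelIsCokernel _)) h1 h2)

theorem isConstructible_extension [IsNoetherianRing Λ] {S : ShortComplex (EtModW.Mod Λ X)} (hS : S.ShortExact)
    (h1 : EtModW.IsConstructible Λ S.X₁) (h3 : EtModW.IsConstructible Λ S.X₃) :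
    EtModW.IsConstructible Λ S.X₂ :=
  isConstructible_of_two h1 h3 fun T g k1 k3 => by
    obtain ⟨_, _, _⟩ := preservesFiniteLimits_pull (Λ := Λ) g
    exact isFTLocConst_extension (hS.map_of_exact (EtModW.pull Λ g)) k1 k3

theorem subsingleton_stalk_of_isZero {Z : EtModW.Mod Λ X} (hZ : IsZero Z) {Ω : Type u} [Field Ω] [IsSepClosed Ω]
    (ξ : Spec (CommRingCat.of Ω) ⟶ X) : Subsingleton ((EtModW.stalk Λ ξ).obj Z) := by
  refine subsingleton_of_forall_eq 0 fun c => ?_
  obtain ⟨V, v, x, rfl⟩ := exists_germ ξ c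
  have : x = 0 := congr(($(hZ.eq_of_src (𝟙 Z) 0)).hom.app (op V) x)
  rw [this, map_zero]

theorem isFTLocConst_of_isZero {Z : EtModW.Mod Λ X} (hZ : IsZero Z) : EtModW.IsFTLocConst Λ Z := by
  refine (isFTLocConst_iff Z).2 fun x => ⟨Scheme.Etale.mk (𝟙 X), x, rfl, ⊥, Submodule.fg_bot, fun Ω _ _ ξ z => ?_⟩
  haveI := subsingleton_stalk_of_isZero hZ ξ
  exact ⟨Function.injective_of_subsingleton _, fun c => ⟨0, Subsingleton.elim _ _⟩⟩

theorem isConstructible_of_isZero {Z : EtModW.Mod Λ X} (hZ : IsZero Z) : EtModW.IsConstructible Λ Z := by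
  intro U hU
  obtain ⟨T, g, hg, hr⟩ := EtFound.exists_immersion_range U.2.isLocallyClosed
  obtain ⟨_, _, _⟩ := preservesFiniteLimits_pull (Λ := Λ) g
  refine adaptedStrata_of_cover U.2.isLocallyClosed (fun _ : Fin 1 => (U : Set X))
    (fun _ => ⟨T, g, hg, hr, isFTLocConst_of_isZero ((EtModW.pull Λ g).map_isZero hZ)⟩) (fun _ => ?_)
    (fun x hx => Set.mem_iUnion.2 ⟨0, hx⟩)
  rw [Subtype.coe_preimage_self]
  exact IsConstructible.univ

theorem isWeakSerre_isConstructible [IsNoetherianRing Λ] :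
    WSerre.IsWeakSerre (fun F : EtModW.Mod Λ X => EtModW.IsConstructible Λ F) := by
  haveI : ObjectProperty.ContainsZero (fun F : EtModW.Mod Λ X => EtModW.IsConstructible Λ F) :=
    ⟨⟨_, isZero_zero _, isConstructible_of_isZero (isZero_zero _)⟩⟩
  haveI : ObjectProperty.IsClosedUnderExtensions (fun F : EtModW.Mod Λ X => EtModW.IsConstructible Λ F) :=
    ⟨fun {_} hS h1 h3 => isConstructible_extension hS h1 h3⟩
  haveI : ObjectProperty.IsClosedUnderKernels (fun F : EtModW.Mod Λ X => EtModW.IsConstructible Λ F) := by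
    refine ⟨fun F hF => ?_⟩
    obtain ⟨f, k, hk, hA, hB⟩ := hF
    exact isConstructible_of_iso ((limit.isLimit _).conePointUniqueUpToIso hk) (isConstructible_kernel f hA hB)
  haveI : ObjectProperty.IsClosedUnderCokernels (fun F : EtModW.Mod Λ X => EtModW.IsConstructible Λ F) := by
    refine ⟨fun F hF => ?_⟩
    obtain ⟨f, k, hk, hA, hB⟩ := hF
    exact isConstructible_of_iso ((colimit.isColimit _).coconePointUniqueUpToIso hk) (isConstructible_cokernel f hA hB)
  exact ⟨⟩

theorem finite_stalk_of_isConstructible {F : EtModW.Mod Λ X} (hF : EtModW.IsConstructible Λ F) {Ω : Type u}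
    [Field Ω] [IsSepClosed Ω] (ξ : Spec (CommRingCat.of Ω) ⟶ X) :
    Module.Finite Λ ((EtModW.stalk Λ ξ).obj F) := by
  obtain ⟨U, hU, hxU, -⟩ := exists_isAffineOpen_mem_and_subset (U := (⊤ : X.Opens)) (x := ξ.base default) trivial
  obtain ⟨n, E, hE, -, hu⟩ := exists_pieces (hF U hU)
  obtain ⟨i, hi⟩ := Set.mem_iUnion.1 (hu.ge hxU)
  obtain ⟨T, g, hg, hr, hT⟩ := hE i
  obtain ⟨t, ht⟩ : ξ.base default ∈ Set.range g.base := hr.ge hi
  obtain ⟨k, _, _, ζ, hζ⟩ := EtFound.exists_geomPoint t
  obtain ⟨e⟩ := nonempty_stalk_iso (Λ := Λ) (ζ ≫ g) ξ ((Scheme.Hom.comp_apply _ _ _).trans ((congrArg g.base hζ).trans ht))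
  haveI : Module.Finite Λ ((EtModW.pull Λ g ⋙ EtModW.stalk Λ ζ).obj F) := finite_stalk_of_isFTLocConst hT ζ
  exact Module.Finite.equiv (((stalkPull g ζ).app F).trans (e.app F)).toLinearEquiv

end Groth.Agent.EtModLib
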