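import Groth.Agent.EtModLib.EpsMod
import Mathlib.Algebra.Category.Grp.FilteredColimits

/-! The underlying abelian sheaf functor is exact; essential image of the pullback of sheaves of modules. -/

universe u

open CategoryTheory CategoryTheory.Limits AlgebraicGeometry Opposite

noncomputable section

set_option backward.isDefEq.respectTransparency false
set_option backward.isDefEq.respectTransparency.types false

namespace Groth.Agent.EtModLib

open ProEtLib

variable {Λ : Type (u + 1)} [CommRing Λ]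

theorem preserves_toAb {C : Type (u + 1)} [Category.{u} C] (J : GrothendieckTopology C)
    [J.HasSheafCompose (forget₂ (ModuleCat.{u + 1} Λ) AddCommGrpCat.{u + 1})]
    [HasSheafify J (ModuleCat.{u + 1} Λ)] [HasSheafify J AddCommGrpCat.{u + 1}]
    [J.WEqualsLocallyBijective (ModuleCat.{u + 1} Λ)] [J.WEqualsLocallyBijective AddCommGrpCat.{u + 1}] :
    PreservesFiniteLimits (toAb J Λ) ∧ PreservesFiniteColimits (toAb J Λ) := by
  haveI hpl : PreservesFiniteLimits (toAb J Λ) := by
    refine ⟨fun K _ _ => ?_⟩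
    haveI : PreservesLimitsOfShape K (toAb J Λ ⋙ sheafToPresheaf J AddCommGrpCat.{u + 1}) :=
      inferInstanceAs (PreservesLimitsOfShape K (sheafToPresheaf J _ ⋙
        (Functor.whiskeringRight Cᵒᵖ _ _).obj (forget₂ (ModuleCat.{u + 1} Λ) AddCommGrpCat.{u + 1})))
    exact preservesLimitsOfShape_of_reflects_of_preserves (toAb J Λ) (sheafToPresheaf J AddCommGrpCat.{u + 1})
  haveI hadd : (toAb J Λ).Additive := Functor.additive_of_preserves_binary_products _
  refine ⟨hpl, (((toAb J Λ).preservesFiniteColimits_tfae).out 0 3).1 ?_⟩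
  intro S hS
  refine ⟨?_, ?_⟩
  · exact hS.exact.map_of_mono_of_preservesKernel (toAb J Λ) hS.mono_f inferInstance
  · haveI := hS.epi_g
    haveI := (Sheaf.isLocallySurjective_iff_epi' _ S.g).2 inferInstance
    haveI : Sheaf.IsLocallySurjective ((toAb J Λ).map S.g) := ⟨fun {U} x =>
      Presheaf.imageSieve_mem J S.g.hom x⟩
    exact (Sheaf.isLocallySurjective_iff_epi' _ _).1 inferInstance

variable {X : Scheme.{u}} [ProEtS.EpsCont X]

theorem isWeakSerre_top : WSerre.IsWeakSerre (fun _ : EtCoh.Ab X => True) := by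
  haveI : ObjectProperty.ContainsZero (fun _ : EtCoh.Ab X => True) :=
    ⟨⟨_, isZero_zero _, trivial⟩⟩
  haveI : ObjectProperty.IsClosedUnderExtensions (fun _ : EtCoh.Ab X => True) := ⟨fun _ _ _ => trivial⟩
  haveI : ObjectProperty.IsClosedUnderKernels (fun _ : EtCoh.Ab X => True) := ⟨fun _ _ => trivial⟩
  haveI : ObjectProperty.IsClosedUnderCokernels (fun _ : EtCoh.Ab X => True) := ⟨fun _ _ => trivial⟩
  exact ⟨⟩

theorem essImage_iff' (G : EtModW.ModP Λ X) :
    (EtModW.epsPullMod Λ X).essImage G ↔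
      ∃ A : EtCoh.Ab X, True ∧ Nonempty ((ProEtS.epsPull X).obj A ≅ (UP Λ).obj G) :=
  (essImage_iff G).trans ⟨fun ⟨A, h⟩ => ⟨A, trivial, h⟩, fun ⟨A, _, h⟩ => ⟨A, h⟩⟩

theorem essImage_weakSerre :
    (∀ (F G : EtModW.ModP Λ X) (φ : F ⟶ G), (EtModW.epsPullMod Λ X).essImage F →
      (EtModW.epsPullMod Λ X).essImage G →
        (EtModW.epsPullMod Λ X).essImage (kernel φ) ∧ (EtModW.epsPullMod Λ X).essImage (cokernel φ)) ∧
    ∀ (T : ShortComplex (EtModW.ModP Λ X)), T.ShortExact →
      (EtModW.epsPullMod Λ X).essImage T.X₁ → (EtModW.epsPullMod Λ X).essImage T.X₃ →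
        (EtModW.epsPullMod Λ X).essImage T.X₂ := by
  haveI := isWeakSerre_top (X := X)
  haveI := ProEtLib.isWeakSerre_essImage (X := X) (fun _ : EtCoh.Ab X => True)
  obtain ⟨hl, hr⟩ := preserves_toAb (Λ := Λ) (Scheme.ProEt.topology X)
  let U := UP Λ (X := X)
  let P : ObjectProperty (ProEtS.AbP X) := fun F => ∃ A : EtCoh.Ab X, True ∧ Nonempty ((ProEtS.epsPull X).obj A ≅ F)
  haveI : U.Additive := Functor.additive_of_preserves_binary_products _
  simp only [essImage_iff']
  refine ⟨fun F G φ hF hG => ⟨?_, ?_⟩, fun T hT h₁ h₃ => ?_⟩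
  · exact P.prop_of_iso (PreservesKernel.iso U φ).symm
      (P.prop_of_isLimit_kernelFork (k := KernelFork.ofι (kernel.ι (U.map φ)) (kernel.condition _))
        (kernelIsKernel (U.map φ)) hF hG)
  · exact P.prop_of_iso (PreservesCokernel.iso U φ).symm
      (P.prop_of_isColimit_cokernelCofork (k := CokernelCofork.ofπ (cokernel.π (U.map φ)) (cokernel.condition _))
        (cokernelIsCokernel (U.map φ)) hF hG)
  · exact P.prop_X₂_of_shortExact (hT.map_of_exact U) h₁ h₃

end Groth.Agent.EtModLib
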