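import Groth.Agent.EtModLib.PullAb
import Groth.Agent.EtModLib.ExactAb
import Groth.Agent.ProEtLib.OpenClosedLimits
import Groth.Agent.ARLib.Adic
import Groth.Prelude.Def_ARSys

/-! extension by zero of pro-etale sheaves of modules -/

universe u

open CategoryTheory CategoryTheory.Limits AlgebraicGeometry Opposite ARSys

noncomputable section

set_option backward.isDefEq.respectTransparency false
set_option backward.isDefEq.respectTransparency.types false

namespace Groth.Agent.EtModLib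

open ProEtLib

section

variable {C : Type*} [Category C] [Abelian C] {D : Type*} [Category D] [Abelian D]
  {A : Type*} [CommRing A] [Linear A C] [Linear A D] {L : C ⥤ D} {R : D ⥤ C}

theorem isQuot_map_leftAdjoint [R.Additive] (adj : L ⊣ R)
    (hR : ∀ {X Y : D} (a : A) (f : X ⟶ Y), R.map (a • f) = a • R.map f)
    {I : Ideal A} {X Q : C} {p : X ⟶ Q} (h : IsQuot I p) : IsQuot I (L.map p) := by
  have hs : ∀ {M : C} {Y : D} (a : A) (φ : L.obj M ⟶ Y),
      adj.homEquiv _ _ (a • φ) = a • adj.homEquiv _ _ φ := fun a φ => by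
    rw [adj.homEquiv_unit, adj.homEquiv_unit, hR, Linear.comp_smul]
  have hz : ∀ {M : C} {Y : D}, adj.homEquiv M Y 0 = 0 := fun {M Y} => by
    rw [adj.homEquiv_unit, R.map_zero, comp_zero]
  refine ⟨fun a ha => (adj.homEquiv _ _).injective ?_, fun Y φ hφ => ?_⟩
  · rw [hs, hz, adj.homEquiv_unit, R.map_id]
    refine (congrArg (a • ·) (Category.comp_id _)).trans ?_
    calc a • adj.unit.app Q = (a • 𝟙 Q) ≫ adj.unit.app Q :=
          ((Linear.smul_comp ..).trans (congrArg (a • ·) (Category.id_comp _))).symm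
      _ = 0 := (congrArg (· ≫ adj.unit.app Q) (h.1 a ha)).trans zero_comp
  · obtain ⟨ψ, hψ, hu⟩ := h.2 _ (adj.homEquiv _ _ φ) fun a ha => by rw [← hs, hφ a ha, hz]
    refine ⟨(adj.homEquiv _ _).symm ψ, (adj.homEquiv _ _).injective ?_, fun ψ' hψ' => ?_⟩
    · rw [adj.homEquiv_naturality_left, Equiv.apply_symm_apply, hψ]
    · apply (adj.homEquiv _ _).injective
      rw [Equiv.apply_symm_apply]
      exact hu _ ((adj.homEquiv_naturality_left p ψ').symm.trans (congrArg _ hψ'))

end

variable (Λ : Type (u + 1)) [CommRing Λ] {U X : Scheme.{u}} (j : U ⟶ X) [WeaklyEtale j] [ProEtS.JPCont j]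

/-- extension by zero of pro-etale sheaves of modules -/
abbrev extZeroModP : EtModW.ModP Λ U ⥤ EtModW.ModP Λ X :=
  (ProEtS.compP j).sheafPullback (ModuleCat.{u + 1} Λ) (Scheme.ProEt.topology U) (Scheme.ProEt.topology X)

/-- the adjunction -/
def extZeroModPAdj : extZeroModP Λ j ⊣
    (ProEtS.compP j).sheafPushforwardContinuous (ModuleCat.{u + 1} Λ) (Scheme.ProEt.topology U) (Scheme.ProEt.topology X) :=
  Functor.sheafAdjunctionContinuous _ _ _ _

theorem isQuot_extZeroModP {I : Ideal Λ} {M Q : EtModW.ModP Λ U} {p : M ⟶ Q} (h : IsQuot I p) :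
    IsQuot I ((extZeroModP Λ j).map p) := by
  haveI : ((ProEtS.compP j).sheafPushforwardContinuous (ModuleCat.{u + 1} Λ) (Scheme.ProEt.topology U)
    (Scheme.ProEt.topology X)).Additive := ⟨rfl⟩
  exact isQuot_map_leftAdjoint (extZeroModPAdj Λ j) (fun a f => rfl) h

theorem preservesLimits_extZeroModP [IsOpenImmersion j] [QuasiCompact j] :
    PreservesLimitsOfShape ℕᵒᵖ (extZeroModP Λ j) := by
  haveI : PreservesColimitsOfSize.{0, 0} (ProEtS.extZeroP j) := (ProEtS.extZeroPAdj j).leftAdjoint_preservesColimits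
  haveI : (ProEtS.restrP j).Additive := ⟨rfl⟩
  haveI : (ProEtS.extZeroP j).Additive := (ProEtS.extZeroPAdj j).left_adjoint_additive
  obtain ⟨e⟩ := exists_toAb_leftAdjoint_iso (ProEtS.compP j) (extZeroModPAdj Λ j) (ProEtS.extZeroPAdj j)
  let J := ULiftHom.{u} (ULift.{u} ℕᵒᵖ)
  haveI : PreservesLimitsOfShape J (ProEtS.extZeroP j) := ProEtLib.CI.extZeroP_preservesLimits j J
  haveI : PreservesLimitsOfShape ℕᵒᵖ (ProEtS.extZeroP j) :=
    preservesLimitsOfShape_of_equiv (ULiftHomULiftCategory.equiv.{u, u} ℕᵒᵖ).symm _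
  haveI : ∀ Y : Scheme.{u}, PreservesLimitsOfShape ℕᵒᵖ (toAb (Scheme.ProEt.topology Y) Λ) := fun Y => by
    haveI : PreservesLimitsOfShape ℕᵒᵖ (toAb (Scheme.ProEt.topology Y) Λ ⋙ sheafToPresheaf _ _) :=
      inferInstanceAs (PreservesLimitsOfShape ℕᵒᵖ (sheafToPresheaf (Scheme.ProEt.topology Y) _ ⋙
        (Functor.whiskeringRight Y.ProEtᵒᵖ _ _).obj (forget₂ (ModuleCat.{u + 1} Λ) AddCommGrpCat.{u + 1})))
    exact preservesLimitsOfShape_of_reflects_of_preserves _ (sheafToPresheaf (Scheme.ProEt.topology Y) _)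
  haveI : PreservesLimitsOfShape ℕᵒᵖ (extZeroModP Λ j ⋙ toAb (Scheme.ProEt.topology X) Λ) :=
    preservesLimitsOfShape_of_natIso e
  haveI : (toAb (Scheme.ProEt.topology X) Λ).ReflectsIsomorphisms := ⟨fun f hf => by
    haveI := hf
    exact ⟨homMk (inv ((toAb _ Λ).map f)) (fun r => by
        rw [IsIso.eq_inv_comp, ← Category.assoc, IsIso.comp_inv_eq, smulAb_natural]),
      toAb_map_injective (IsIso.hom_inv_id ((toAb _ Λ).map f)),
      toAb_map_injective (IsIso.inv_hom_id ((toAb _ Λ).map f))⟩⟩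
  haveI : ReflectsLimitsOfShape ℕᵒᵖ (toAb (Scheme.ProEt.topology X) Λ) :=
    reflectsLimitsOfShape_of_reflectsIsomorphisms
  exact preservesLimitsOfShape_of_reflects_of_preserves _ (toAb (Scheme.ProEt.topology X) Λ)

theorem nonempty_epsPullMod_extZero_iso [ProEtS.EpsCont U] [ProEtS.EpsCont X] [hje : Etale j]
    [(MorphismProperty.Over.map (P := EtCoh.etaleMP.{u}) ⊤ (f := j) hje).IsContinuous U.smallEtaleTopology X.smallEtaleTopology]
    [((MorphismProperty.Over.map (P := EtCoh.etaleMP.{u}) ⊤ (f := j) hje).sheafPushforwardContinuous (ModuleCat.{u + 1} Λ) U.smallEtaleTopology X.smallEtaleTopology).IsRightAdjoint]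
    (E : EtModW.Mod Λ U) :
    Nonempty ((EtModW.epsPullMod Λ X).obj
        (((MorphismProperty.Over.map (P := EtCoh.etaleMP.{u}) ⊤ (f := j) hje).sheafPullback (ModuleCat.{u + 1} Λ) U.smallEtaleTopology X.smallEtaleTopology).obj E) ≅
      (extZeroModP Λ j).obj ((EtModW.epsPullMod Λ U).obj E)) := by
  let F := MorphismProperty.Over.map (P := EtCoh.etaleMP.{u}) ⊤ (f := j) hje
  let e : ProEtS.eps U ⋙ ProEtS.compP j ≅ F ⋙ ProEtS.eps X :=
    NatIso.ofComponents (fun V => MorphismProperty.Over.isoMk (Iso.refl _) (Category.id_comp _))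
      (fun g => MorphismProperty.Over.Hom.ext ((Category.comp_id _).trans (Category.id_comp _).symm))
  have := Functor.isContinuous_comp (ProEtS.eps U) (ProEtS.compP j) U.smallEtaleTopology
    (Scheme.ProEt.topology U) (Scheme.ProEt.topology X)
  let R := (ProEtS.compP j).sheafPushforwardContinuous (ModuleCat.{u + 1} Λ) (Scheme.ProEt.topology U) (Scheme.ProEt.topology X)
  let r : R ⋙ epsPushMod Λ ≅ epsPushMod Λ ⋙ F.sheafPushforwardContinuous (ModuleCat.{u + 1} Λ) U.smallEtaleTopology X.smallEtaleTopology :=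
    Functor.sheafPushforwardContinuousComp _ _ (ModuleCat.{u + 1} Λ) _ _ _ ≪≫
      (Functor.sheafPushforwardContinuousComp' e.symm (ModuleCat.{u + 1} Λ) U.smallEtaleTopology
        X.smallEtaleTopology (Scheme.ProEt.topology X)).symm
  exact ⟨((Adjunction.leftAdjointUniq ((epsModAdj Λ).comp (extZeroModPAdj Λ j))
    (((F.sheafAdjunctionContinuous (ModuleCat.{u + 1} Λ) U.smallEtaleTopology X.smallEtaleTopology).comp
      (epsModAdj Λ)).ofNatIsoRight r.symm)).app E).symm⟩

end Groth.Agent.EtModLib
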