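import Groth.Agent.EtModLib.AdicMul
import Groth.Agent.EtModLib.ConstrOps
import Groth.Agent.EtModLib.Linear
import Groth.Agent.EtModLib.AdicFunctor
import Mathlib.RingTheory.Filtration

/-! An adic system of sheaves with locally constant bottom term is lisse on a nonempty open. -/

universe u

open CategoryTheory CategoryTheory.Limits AlgebraicGeometry Opposite ARSys

noncomputable section

set_option backward.isDefEq.respectTransparency false
set_option backward.isDefEq.respectTransparency.types false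

namespace Groth.Agent.EtModLib

open EtFound

variable {Λ : Type (u + 1)} [CommRing Λ] {X : Scheme.{u}}

theorem isFTLocConst_pull_of_ftConst {F : EtModW.Mod Λ X} {V : X.Etale} {S : Submodule Λ (F.obj.obj (op V))}
    (h : FTConst F V S) (U : X.Opens) (hU : (U : Set X) ⊆ Set.range V.hom.base) :
    EtModW.IsFTLocConst Λ ((EtModW.pull Λ U.ι).obj F) := by
  haveI := hasProducts_modules Λ
  refine ⟨PUnit, fun _ => (EtCoh.bc U.ι).obj V, fun u => ⟨PUnit.unit, ?_⟩, fun _ => ?_⟩
  · obtain ⟨p, hp⟩ := hU u.2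
    obtain ⟨q, -, hq⟩ := Scheme.Pullback.exists_preimage_pullback (f := V.hom) (g := U.ι) p u hp
    exact ⟨q, hq⟩
  · exact ⟨S, inferInstance, inferInstance, Module.Finite.iff_fg.2 h.1,
      nonempty_restr_pull_iso U.ι (nonempty_restr_iso_const h.constBy)⟩

/-- an irreducible etale neighbourhood -/
theorem exists_irreducible_etale [IsLocallyNoetherian X] (U : X.Etale) (p : U.left) :
    ∃ (W : X.Etale) (_ : W ⟶ U), IrreducibleSpace W.left := by
  haveI : Etale U.hom := U.prop
  haveI : IsLocallyNoetherian U.left := @LocallyOfFiniteType.isLocallyNoetherian _ _ U.hom inferInstance ‹IsLocallyNoetherian X›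
  obtain ⟨O, hO, hpO, -⟩ := exists_isAffineOpen_mem_and_subset (U := (⊤ : U.left.Opens)) (x := p) trivial
  haveI : IsAffine O.toScheme := hO
  haveI : IsLocallyNoetherian O.toScheme := LocallyOfFiniteType.isLocallyNoetherian O.ι
  haveI : IsNoetherian O.toScheme := { }
  haveI : TopologicalSpace.NoetherianSpace O.toScheme := inferInstance
  obtain ⟨C, hC⟩ : ∃ C, C ∈ irreducibleComponents O.toScheme :=
    ⟨_, irreducibleComponent_mem_irreducibleComponents (⟨p, hpO⟩ : O.toScheme)⟩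
  have hfin : (irreducibleComponents O.toScheme).Finite := TopologicalSpace.NoetherianSpace.finite_irreducibleComponents
  let Q : Set O.toScheme := (⋃₀ (irreducibleComponents O.toScheme \ {C}))ᶜ
  have hQ : IsOpen Q := by
    rw [isOpen_compl_iff, Set.sUnion_eq_biUnion]
    exact hfin.sdiff.isClosed_biUnion fun Z hZ => isClosed_of_mem_irreducibleComponents Z hZ.1
  have hcl : closure Q = C := closure_sUnion_irreducibleComponents_sdiff_singleton hfin C hC
  have hQne : Q.Nonempty := closure_nonempty_iff.1 (hcl.symm ▸ hC.1.nonempty)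
  have hQC : Q ⊆ C := hcl ▸ subset_closure
  let Q' : O.toScheme.Opens := ⟨Q, hQ⟩
  haveI : IrreducibleSpace Q'.toScheme := by
    have hi : IsIrreducible (Q : Set O.toScheme) :=
      ⟨hQne, hC.1.isPreirreducible.open_subset hQ hQC⟩
    exact isIrreducible_iff_irreducibleSpace.1 hi
  let W : X.Etale := Scheme.Etale.mk (Q'.ι ≫ O.ι ≫ U.hom)
  exact ⟨W, MorphismProperty.Over.homMk (Q'.ι ≫ O.ι) (Category.assoc _ _ _),
    inferInstanceAs (IrreducibleSpace Q'.toScheme)⟩

section Core

variable {J : Ideal Λ} {F : PS (EtModW.Mod Λ X)} (hF : IsAdic J F) {W : X.Etale} {r : ℕ}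
  (s : Fin r → (F.obj (op 0)).obj.obj (op W))

variable (J r) in
/-- tuples with entries in `J ^ q` -/
abbrev tup (q : ℕ) : Submodule Λ (Fin r → Λ) := Submodule.pi Set.univ fun _ => (J ^ q : Ideal Λ)

/-- the section attached to a tuple of coefficients -/
def sigma (q : ℕ) : tup J r q →ₗ[Λ] (F.obj (op q)).obj.obj (op W) :=
  ∑ i : Fin r,
    ({ toFun := fun f => f.hom.app (op W) (s i)
       map_add' := fun _ _ => rfl
       map_smul' := fun _ _ => rfl } : (F.obj (op 0) ⟶ F.obj (op q)) →ₗ[Λ] (F.obj (op q)).obj.obj (op W)) ∘ₗ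
      mu hF q ∘ₗ LinearMap.codRestrict (J ^ q : Ideal Λ)
        ((LinearMap.proj i : (Fin r → Λ) →ₗ[Λ] Λ) ∘ₗ (tup J r q).subtype) (fun v => v.2 i trivial)

theorem sigma_apply (q : ℕ) (v : tup J r q) :
    sigma hF s q v = ∑ i : Fin r, (mu hF q ⟨v.1 i, v.2 i trivial⟩).hom.app (op W) (s i) := by
  simp only [sigma, LinearMap.coe_sum, Finset.sum_apply]
  rfl

theorem sigma_tr {n q : ℕ} (h : n ≤ q) (v : tup J r q) :
    (tr F h).hom.app (op W) (sigma hF s q v) =
      sigma hF s n ⟨v.1, fun i _ => Ideal.pow_le_pow_right h (v.2 i trivial)⟩ := by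
  rw [sigma_apply, sigma_apply, map_sum]
  exact Finset.sum_congr rfl fun i _ =>
    congrArg (fun f : F.obj (op 0) ⟶ F.obj (op n) => f.hom.app (op W) (s i)) (mu_tr hF h ⟨v.1 i, v.2 i trivial⟩)

theorem sigma_eq_zero (n : ℕ) (v : tup J r n) (hv : v.1 ∈ tup J r (n + 1)) : sigma hF s n v = 0 := by
  rw [sigma_apply]
  refine Finset.sum_eq_zero fun i _ => ?_
  exact congrArg (fun f : F.obj (op 0) ⟶ F.obj (op n) => f.hom.app (op W) (s i)) (mu_eq_zero hF n _ (hv i trivial))

theorem sigma_smul (q : ℕ) {b : Λ} (hb : b ∈ J) (v : tup J r q) (h : b • v.1 ∈ tup J r (q + 1)) :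
    sigma hF s (q + 1) ⟨b • v.1, h⟩ = (ARLib.mul hF hb q).hom.app (op W) (sigma hF s q v) := by
  rw [sigma_apply, sigma_apply, map_sum]
  exact Finset.sum_congr rfl fun i _ =>
    congrArg (fun f : F.obj (op 0) ⟶ F.obj (op (q + 1)) => f.hom.app (op W) (s i)) (mu_mul hF q hb ⟨v.1 i, v.2 i trivial⟩)

/-- germs of the sections `sigma` generate the kernels of the transition maps -/
theorem exists_sigma_germ (hJ : J.FG) {Ω : Type u} [Field Ω] [IsSepClosed Ω] (ζ : Spec (CommRingCat.of Ω) ⟶ X)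
    (z : (Scheme.pointSmallEtale ζ).fiber.obj W)
    (hgen : ∀ c, ∃ l : Fin r → Λ, germ ζ z (F.obj (op 0)) (∑ i, l i • s i) = c)
    (n : ℕ) (c : (EtModW.stalk Λ ζ).obj (F.obj (op (n + 1))))
    (hc : ((EtModW.stalk Λ ζ).map (tr F (Nat.le_succ n))).hom c = 0) :
    ∃ v, germ ζ z (F.obj (op (n + 1))) (sigma hF s (n + 1) v) = c := by
  obtain ⟨_, _, _⟩ := linear_stalk (Λ := Λ) ζ
  let M := (EtModW.stalk Λ ζ).obj (F.obj (op (n + 1)))
  let R : Submodule Λ M :=
    LinearMap.range (germ ζ z (F.obj (op (n + 1))) ∘ₗ sigma hF s (n + 1))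
  have hle : (J ^ (n + 1) : Ideal Λ) • (⊤ : Submodule Λ M) ≤ R := Submodule.smul_le.2 fun a ha d _ => by
    obtain ⟨l, hl⟩ := hgen (((EtModW.stalk Λ ζ).map (tr F (Nat.zero_le (n + 1)))).hom d)
    have hv : (fun i => a * l i) ∈ tup J r (n + 1) := fun i _ => Ideal.mul_mem_right _ _ ha
    refine ⟨⟨_, hv⟩, ?_⟩
    have e1 : a • d = ((EtModW.stalk Λ ζ).map (mu hF (n + 1) ⟨a, ha⟩)).hom
        (((EtModW.stalk Λ ζ).map (tr F (Nat.zero_le (n + 1)))).hom d) := by
      rw [← ConcreteCategory.comp_apply, ← Functor.map_comp, tr_mu, Functor.map_smul, CategoryTheory.Functor.map_id]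
      rfl
    rw [e1, ← hl, germ_app, LinearMap.comp_apply, sigma_apply]
    refine congrArg (germ ζ z (F.obj (op (n + 1)))) ?_
    rw [map_sum]
    refine Finset.sum_congr rfl fun i _ => ?_
    rw [map_smul]
    have e2 : (⟨a * l i, hv i trivial⟩ : (J ^ (n + 1) : Ideal Λ)) = l i • ⟨a, ha⟩ :=
      Subtype.ext (mul_comm a (l i))
    exact (congrArg (fun x => (mu hF (n + 1) x).hom.app (op W) (s i)) e2).trans
      (congrArg (fun f : F.obj (op 0) ⟶ F.obj (op (n + 1)) => f.hom.app (op W) (s i)) (map_smul (mu hF (n + 1)) _ _))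
  refine hle ?_
  have hq := isQuot_map (EtModW.stalk Λ ζ) (Submodule.FG.pow hJ _) (hF.2 n (n + 1) (Nat.le_succ n))
  let π : M ⟶ ModuleCat.of Λ (M ⧸ ((J ^ (n + 1) : Ideal Λ) • ⊤ : Submodule Λ M)) := ModuleCat.ofHom (Submodule.mkQ _)
  obtain ⟨ψ, hψ, -⟩ := hq.2 _ π fun a ha => ModuleCat.hom_ext (LinearMap.ext fun x =>
    (Submodule.Quotient.mk_eq_zero _).2 (Submodule.smul_mem_smul ha trivial))
  refine (Submodule.Quotient.mk_eq_zero _).1 ?_
  exact (congrArg (fun f : M ⟶ _ => f.hom c) hψ.symm).trans ((congrArg ψ.hom hc).trans (map_zero _))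

variable {Ω : Type u} [Field Ω] [IsSepClosed Ω] (ξ : Spec (CommRingCat.of Ω) ⟶ X)
  (z : (Scheme.pointSmallEtale ξ).fiber.obj W)

/-- tuples whose section has vanishing germ -/
def rels (q : ℕ) : Submodule Λ (Fin r → Λ) :=
  (LinearMap.ker (germ ξ z (F.obj (op q)) ∘ₗ sigma hF s q)).map (tup J r q).subtype

theorem mem_rels {q : ℕ} {v : Fin r → Λ} (hv : v ∈ tup J r q) :
    v ∈ rels hF s ξ z q ↔ germ ξ z (F.obj (op q)) (sigma hF s q ⟨v, hv⟩) = 0 := by
  refine ⟨fun ⟨w, hw, e⟩ => ?_, fun h => ⟨⟨v, hv⟩, h, rfl⟩⟩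
  obtain rfl : w = ⟨v, hv⟩ := Subtype.ext e
  exact hw

theorem rels_le (q : ℕ) : rels hF s ξ z q ≤ tup J r q := Submodule.map_subtype_le _ _

theorem exists_stable [IsNoetherianRing Λ] : ∃ N : ℕ, ∀ n, N ≤ n → rels hF s ξ z (n + 1) = J • rels hF s ξ z n := by
  let Φ : J.Filtration (Fin r → Λ) :=
    { N := rels hF s ξ z
      mono := fun q v hv => by
        have hv' := rels_le hF s ξ z _ hv
        have hq : v ∈ tup J r q := fun i _ => Ideal.pow_le_pow_right (Nat.le_succ q) (hv' i trivial)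
        rw [mem_rels hF s ξ z hq, ← sigma_tr hF s (Nat.le_succ q) ⟨v, hv'⟩, ← germ_app,
          (mem_rels hF s ξ z hv').1 hv, map_zero]
      smul_le := fun q => Submodule.smul_le.2 fun b hb v hv => by
        have hv' := rels_le hF s ξ z _ hv
        have h1 : b • v ∈ tup J r (q + 1) := fun i _ => by
          rw [pow_succ']; exact Ideal.mul_mem_mul hb (hv' i trivial)
        rw [mem_rels hF s ξ z h1, sigma_smul hF s q hb ⟨v, hv'⟩ h1, ← germ_app, (mem_rels hF s ξ z hv').1 hv,
          map_zero] }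
  have hle : Φ ≤ J.stableFiltration ⊤ := fun q v hv => by
    show v ∈ (J ^ q : Ideal Λ) • (⊤ : Submodule Λ (Fin r → Λ))
    rw [pi_eq_sum_univ v]
    exact Submodule.sum_mem _ fun i _ => Submodule.smul_mem_smul (rels_le hF s ξ z _ hv i trivial) trivial
  obtain ⟨N, hN⟩ := (Ideal.stableFiltration_stable J ⊤).of_le hle
  exact ⟨N, fun n hn => (hN n hn).symm⟩

theorem exists_vanish_le [IsNoetherianRing Λ] (N : ℕ) :
    ∃ (V : X.Etale) (g : V ⟶ W) (v : (Scheme.pointSmallEtale ξ).fiber.obj V),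
      (Scheme.pointSmallEtale ξ).fiber.map g v = z ∧
      ∀ q, q < N → ∀ a : tup J r q, a.1 ∈ rels hF s ξ z q → (F.obj (op q)).obj.map g.op (sigma hF s q a) = 0 := by
  induction N with
  | zero => exact ⟨W, 𝟙 W, z, FunctorToTypes.map_id_apply _ _, fun q hq => absurd hq q.not_lt_zero⟩
  | succ N ih =>
    obtain ⟨V, g, v, hv, hV⟩ := ih
    obtain ⟨m, l, hl⟩ := Submodule.fg_iff_exists_fin_generating_family.1
      (IsNoetherian.noetherian (rels hF s ξ z N))
    have hl' : ∀ j, l j ∈ rels hF s ξ z N := fun j => hl ▸ Submodule.subset_span ⟨j, rfl⟩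
    obtain ⟨V', g', v', hv', hg'⟩ := exists_forall_eq (F.obj (op N)).obj v
      (fun j : ULift.{u} (Fin m) => (F.obj (op N)).obj.map g.op (sigma hF s N ⟨l j.down, rels_le hF s ξ z N (hl' j.down)⟩))
      (fun _ => 0) fun j => by
        show germ ξ v (F.obj (op N)) _ = germ ξ v (F.obj (op N)) 0
        rw [germ_map, hv, map_zero]
        exact (mem_rels hF s ξ z _).1 (hl' j.down)
    refine ⟨V', g' ≫ g, v', by rw [Functor.map_comp_apply, hv', hv], fun q hq a ha => ?_⟩
    rw [op_comp, Functor.map_comp, ConcreteCategory.comp_apply]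
    rcases Nat.lt_succ_iff_lt_or_eq.1 hq with hq' | rfl
    · rw [hV q hq' a ha, map_zero]
    · let T : tup J r q →ₗ[Λ] (F.obj (op q)).obj.obj (op V') :=
        ((F.obj (op q)).obj.map g'.op).hom ∘ₗ ((F.obj (op q)).obj.map g.op).hom ∘ₗ sigma hF s q
      suffices h : rels hF s ξ z q ≤ (LinearMap.ker T).map (tup J r q).subtype by
        obtain ⟨w, hw, e⟩ := h ha
        obtain rfl : w = a := Subtype.ext e
        exact hw
      conv_lhs => rw [← hl]
      rw [Submodule.span_le]
      rintro _ ⟨j, rfl⟩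
      exact ⟨⟨l j, rels_le hF s ξ z q (hl' j)⟩, (hg' ⟨j⟩).trans (map_zero _), rfl⟩

theorem exists_vanish [IsNoetherianRing Λ] :
    ∃ (V : X.Etale) (g : V ⟶ W) (v : (Scheme.pointSmallEtale ξ).fiber.obj V),
      (Scheme.pointSmallEtale ξ).fiber.map g v = z ∧
      ∀ q, ∀ a : tup J r q, a.1 ∈ rels hF s ξ z q → (F.obj (op q)).obj.map g.op (sigma hF s q a) = 0 := by
  obtain ⟨N, hN⟩ := exists_stable hF s ξ z
  obtain ⟨V, g, v, hv, hV⟩ := exists_vanish_le hF s ξ z (N + 1)
  refine ⟨V, g, v, hv, fun q => ?_⟩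
  induction q with
  | zero => exact hV 0 N.succ_pos
  | succ q ih =>
    by_cases hq : q + 1 < N + 1
    · exact hV _ hq
    intro a ha
    let T : tup J r (q + 1) →ₗ[Λ] (F.obj (op (q + 1))).obj.obj (op V) :=
      ((F.obj (op (q + 1))).obj.map g.op).hom ∘ₗ sigma hF s (q + 1)
    suffices h : rels hF s ξ z (q + 1) ≤ (LinearMap.ker T).map (tup J r (q + 1)).subtype by
      obtain ⟨w, hw, e⟩ := h ha
      obtain rfl : w = a := Subtype.ext e
      exact hw
    rw [hN q (by omega), Submodule.smul_le]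
    intro b hb w hw
    have hw' := rels_le hF s ξ z q hw
    have h1 : b • w ∈ tup J r (q + 1) := fun i _ => by rw [pow_succ']; exact Ideal.mul_mem_mul hb (hw' i trivial)
    refine ⟨⟨b • w, h1⟩, ?_, rfl⟩
    show (F.obj (op (q + 1))).obj.map g.op (sigma hF s (q + 1) ⟨b • w, h1⟩) = 0
    rw [sigma_smul hF s q hb ⟨w, hw'⟩ h1, ← NatTrans.naturality_apply (ARLib.mul hF hb q).hom g.op,
      ih ⟨w, hw'⟩ hw, map_zero]

end Core

/-- an adic system with locally constant bottom term on an irreducible scheme is lisse on a nonempty open -/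
theorem exists_open_lisse [IsNoetherianRing Λ] [IsNoetherian X] [IrreducibleSpace X] {J : Ideal Λ}
    {F : PS (EtModW.Mod Λ X)} (hF : IsAdic J F) (h0 : EtModW.IsFTLocConst Λ (F.obj (op 0))) :
    ∃ U : X.Opens, (U : Set X).Nonempty ∧
      ∀ n, EtModW.IsFTLocConst Λ ((EtModW.pull Λ U.ι).obj (F.obj (op n))) := by
  obtain ⟨U₀, p₀, -, S₀, hS₀⟩ := (isFTLocConst_iff _).1 h0 (genericPoint X)
  obtain ⟨W, gW, hW⟩ := exists_irreducible_etale U₀ p₀
  have hS := hS₀.restrict gW
  obtain ⟨r, s, hs⟩ := Submodule.fg_iff_exists_fin_generating_family.1 hS.1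
  obtain ⟨Ω, _, _, ξ, z, hz⟩ := exists_algClosed_point W (genericPoint W.left)
  obtain ⟨V, g, v, hv, hvan⟩ := exists_vanish hF s ξ z
  haveI : Etale V.hom := V.prop
  let U : X.Opens := ⟨Set.range V.hom.base, V.hom.isOpenMap.isOpen_range⟩
  refine ⟨U, ⟨_, (v.left : Spec (CommRingCat.of Ω) ⟶ V.left).base (default : Spec (CommRingCat.of Ω)), rfl⟩, fun n => ?_⟩
  induction n with
  | zero => exact isFTLocConst_pull_of_ftConst (hS.restrict g) U subset_rfl
  | succ n ih =>
    obtain ⟨_, _, _⟩ := preservesFiniteLimits_pull (Λ := Λ) U.ι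
    haveI := ARLib.IsQuot.epi (hF.2 n (n + 1) (Nat.le_succ n))
    let t := tr F (Nat.le_succ n)
    let S : ShortComplex (EtModW.Mod Λ X) := ShortComplex.mk (kernel.ι t) t (kernel.condition t)
    have hSE : S.ShortExact :=
      { exact := ShortComplex.exact_of_f_is_kernel _ (kernelIsKernel t)
        mono_f := inferInstanceAs (Mono (kernel.ι t))
        epi_g := inferInstanceAs (Epi (tr F (Nat.le_succ n))) }
    haveI : Mono S.f := hSE.mono_f
    let R : Submodule Λ ((F.obj (op (n + 1))).obj.obj (op V)) :=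
      LinearMap.range (((F.obj (op (n + 1))).obj.map g.op).hom ∘ₗ sigma hF s (n + 1))
    let i := (S.f.hom.app (op V)).hom
    have hi : Function.Injective i := injective_app S.f V
    have hker : ∀ x ∈ R, S.g.hom.app (op V) x = 0 := by
      rintro _ ⟨a, rfl⟩
      refine (NatTrans.naturality_apply t.hom g.op _).trans ((congrArg _ ?_).trans (map_zero _))
      exact (sigma_tr hF s (Nat.le_succ n) a).trans (sigma_eq_zero hF s n _ a.2)
    refine isFTLocConst_extension (hSE.map_of_exact (EtModW.pull Λ U.ι)) ?_ ih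
    refine isFTLocConst_pull_of_ftConst (V := V) (S := R.comap i) ⟨?_, fun k _ _ ζ y => ⟨fun a b e => ?_, fun c => ?_⟩⟩
      U subset_rfl
    · refine Submodule.fg_of_fg_map_injective i hi ?_
      rw [Submodule.map_comap_eq]
      exact Submodule.FG.of_le (Module.Finite.iff_fg.1 inferInstance : R.FG) inf_le_right
    · have h1 : i (a.1 - b.1) ∈ R := (R.comap i).sub_mem a.2 b.2
      obtain ⟨w, hw⟩ := h1
      have h2 : germ ζ y (F.obj (op (n + 1))) ((F.obj (op (n + 1))).obj.map g.op (sigma hF s (n + 1) w)) = 0 := by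
        refine (congrArg _ hw).trans ((germ_app ζ y S.f _).symm.trans ?_)
        rw [map_sub, map_sub, sub_eq_zero]
        exact congrArg _ e
      rw [germ_map, ← map_zero (germ ζ ((Scheme.pointSmallEtale ζ).fiber.map g y) (F.obj (op (n + 1))))] at h2
      obtain ⟨E, e', q, hq, hE⟩ := (germ_eq_iff ζ _ _ _ _).1 h2
      have hξ0 : germ ξ z (F.obj (op (n + 1))) (sigma hF s (n + 1) w) = 0 := by
        haveI : Nonempty E.left := ⟨(q.left : Spec (CommRingCat.of k) ⟶ E.left).base (default : Spec (CommRingCat.of k))⟩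
        haveI : Etale e'.left := EtFound.etale_left e'
        obtain ⟨x₀, hx₀⟩ : genericPoint W.left ∈ Set.range e'.left.base :=
          ((genericPoint_spec W.left).mem_open_set_iff e'.left.isOpenMap.isOpen_range).2
            (by simpa using Set.range_nonempty e'.left.base)
        obtain ⟨x', hx', -⟩ := exists_lift_point e' z x₀ (hx₀.trans hz.symm)
        rw [← hx', ← germ_map, hE, map_zero, map_zero]
      have h3 := hvan (n + 1) w ⟨w, hξ0, rfl⟩
      refine Subtype.ext (sub_eq_zero.1 (hi ?_))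
      rw [map_zero, ← hw]
      exact h3
    · obtain ⟨u', hu'⟩ := exists_sigma_germ hF s (IsNoetherian.noetherian J) ζ ((Scheme.pointSmallEtale ζ).fiber.map g y)
        (fun d => by
          obtain ⟨x, hx, hxd⟩ := hS.exists_germ ((Scheme.pointSmallEtale ζ).fiber.map g y) d
          rw [← hs] at hx
          obtain ⟨l, rfl⟩ := (Submodule.mem_span_range_iff_exists_fun Λ).1 hx
          exact ⟨l, hxd⟩)
        n (((EtModW.stalk Λ ζ).map S.f).hom c) (stalk_zero_apply ζ c)
      have hR : ((F.obj (op (n + 1))).obj.map g.op).hom (sigma hF s (n + 1) u') ∈ R := ⟨u', rfl⟩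
      obtain ⟨d, hd⟩ := exists_app_eq hSE.exact V _ (hker _ hR)
      refine ⟨⟨d, show i d ∈ R from hd.symm ▸ hR⟩, injective_stalk S.f ζ ?_⟩
      exact ((germ_app ζ y S.f d).trans (congrArg _ hd)).trans ((germ_map ζ g y _ _).trans hu')

end Groth.Agent.EtModLib
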