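import Groth.Agent.EtModLib.NilImm
import Groth.Agent.EtFound.JContGen
import Mathlib.CategoryTheory.Adjunction.Unique

/-! local constancy on opens, through sections on the ambient site -/

universe u

open CategoryTheory CategoryTheory.Limits AlgebraicGeometry Opposite

noncomputable section

set_option backward.isDefEq.respectTransparency false
set_option backward.isDefEq.respectTransparency.types false

namespace Groth.Agent.EtModLib

open EtFound

variable {Λ : Type (u + 1)} [CommRing Λ] {U X : Scheme.{u}}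

theorem isIso_unit_app_comp (j : U ⟶ X) [IsOpenImmersion j] (G : EtModW.Mod Λ X) (W : U.Etale) :
    IsIso (((Functor.sheafAdjunctionContinuous (EtCoh.bc j) (ModuleCat.{u + 1} Λ) X.smallEtaleTopology
      U.smallEtaleTopology).unit.app G).hom.app (op ((EtShriek.compEtale j).obj W))) := by
  let a : EtShriek.compEtale j ⊣ EtCoh.bc j :=
    MorphismProperty.Over.mapPullbackAdj EtCoh.etaleMP ⊤ j (inferInstanceAs (AlgebraicGeometry.Etale j)) trivial
  let adj' := a.sheafPushforwardContinuous (E := ModuleCat.{u + 1} Λ) U.smallEtaleTopology X.smallEtaleTopology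
  let adj := Functor.sheafAdjunctionContinuous (EtCoh.bc j) (ModuleCat.{u + 1} Λ) X.smallEtaleTopology U.smallEtaleTopology
  haveI : IsIso (a.counit.app ((EtShriek.compEtale j).obj W)) := by
    let c := a.counit.app ((EtShriek.compEtale j).obj W)
    have hc : c.left = pullback.fst (W.hom ≫ j) j := by
      simp [c, a, MorphismProperty.Over.mapPullbackAdj]
    haveI : IsIso (pullback.fst (W.hom ≫ j) j) := inferInstance
    haveI : IsIso c.left := hc ▸ inferInstance
    exact ⟨MorphismProperty.Over.homMk (inv c.left)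
      (by rw [IsIso.inv_comp_eq]; exact (MorphismProperty.Over.w c).symm),
      MorphismProperty.Over.Hom.ext (IsIso.hom_inv_id c.left), MorphismProperty.Over.Hom.ext (IsIso.inv_hom_id c.left)⟩
  haveI : IsIso ((adj'.unit.app G).hom.app (op ((EtShriek.compEtale j).obj W))) :=
    inferInstanceAs (IsIso (G.obj.map (a.counit.app ((EtShriek.compEtale j).obj W)).op))
  have h := Adjunction.unit_leftAdjointUniq_hom_app adj' adj G
  rw [← h]
  exact IsIso.comp_isIso' ‹_› (inferInstanceAs (IsIso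
    (((sheafToPresheaf _ _).mapIso ((Adjunction.leftAdjointUniq adj' adj).app G)).hom.app
      (op ((EtCoh.bc j).obj ((EtShriek.compEtale j).obj W))))))

theorem exists_ftConst_of_open {O : X.Opens} {G : EtModW.Mod Λ X}
    (h : EtModW.IsFTLocConst Λ ((EtModW.pull Λ O.ι).obj G)) (x : X) (hx : x ∈ O) :
    ∃ (V : X.Etale) (p : V.left), V.hom.base p = x ∧ ∃ S, FTConst G V S := by
  haveI := hasProducts_modules Λ
  obtain ⟨W, p, hp, S, hS⟩ := (isFTLocConst_iff _).1 h ⟨x, hx⟩
  let V := (EtShriek.compEtale O.ι).obj W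
  have ha : ∃ a : (EtCoh.bc O.ι).obj V ⟶ W, IsIso a := by
    haveI : IsIso (pullback.fst (W.hom ≫ O.ι) O.ι) := inferInstance
    let e : (EtCoh.bc O.ι).obj V ≅ W := MorphismProperty.Over.isoMk (asIso (pullback.fst (W.hom ≫ O.ι) O.ι))
      ((cancel_mono O.ι).1 ((Category.assoc _ _ _).trans pullback.condition))
    exact ⟨e.hom, inferInstance⟩
  obtain ⟨a, _⟩ := ha
  have hS' := hS.restrict a
  let adj := Functor.sheafAdjunctionContinuous (EtCoh.bc O.ι) (ModuleCat.{u + 1} Λ) X.smallEtaleTopology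
    O.toScheme.smallEtaleTopology
  haveI := isIso_unit_app_comp O.ι G W
  let η := ((adj.unit.app G).hom.app (op V)).hom
  have hη : Function.Bijective η := (ConcreteCategory.isIso_iff_bijective _).1 (isIso_unit_app_comp O.ι G W)
  refine ⟨V, p, (Scheme.Hom.comp_apply _ _ _).trans (congrArg O.ι.base hp), Submodule.comap η (S.map (((EtModW.pull Λ O.ι).obj G).obj.map a.op).hom), ?_, ?_⟩
  · refine Submodule.fg_of_fg_map_injective η hη.1 ?_
    rw [Submodule.map_comap_eq_of_surjective hη.2]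
    exact hS'.1
  intro Ω _ _ ζ z
  obtain ⟨ξ', rfl⟩ : ∃ ξ', ξ' ≫ O.ι = ζ :=
    ⟨(z.left : Spec (CommRingCat.of Ω) ⟶ W.left) ≫ W.hom, (Category.assoc _ _ _).trans (CategoryTheory.Over.w z)⟩
  obtain ⟨t, rfl⟩ := (bcFiberEquiv O.ι ξ' V).surjective z
  let i := (sheafFiberPullIso (A := ModuleCat.{u + 1} Λ) O.ι ξ').app G
  have hi : Function.Bijective i.inv := (ConcreteCategory.isIso_iff_bijective i.inv).1 inferInstance
  have e : ∀ s, i.inv (germ (ξ' ≫ O.ι) (bcFiberEquiv O.ι ξ' V t) G s) =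
      germ ξ' t ((EtModW.pull Λ O.ι).obj G) (η s) := fun s =>
    (ConcreteCategory.comp_apply _ _ s).symm.trans
      ((ConcreteCategory.congr_hom (sheafFiberPullIso_germ O.ι ξ' G V t) s).trans
        (ConcreteCategory.comp_apply _ _ s))
  have hb := hS'.2 Ω ξ' t
  refine ⟨fun s s' hss => Subtype.ext (hη.1 ?_), fun q => ?_⟩
  · exact congrArg Subtype.val (hb.1 (a₁ := ⟨η s.1, s.2⟩) (a₂ := ⟨η s'.1, s'.2⟩)
      ((e s.1).symm.trans ((congrArg _ hss).trans (e s'.1))))
  · obtain ⟨⟨r, hr⟩, hrq⟩ := hb.2 (i.inv q)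
    obtain ⟨s, rfl⟩ := hη.2 r
    exact ⟨⟨s, hr⟩, hi.1 ((e s).trans hrq)⟩

theorem isFTLocConst_of_opens {G : EtModW.Mod Λ X} (O : X.Opens) {ι : Type*} (W : ι → X.Opens)
    (hcov : (O : Set X) ⊆ ⋃ k, (W k : Set X))
    (h : ∀ k, EtModW.IsFTLocConst Λ ((EtModW.pull Λ (W k).ι).obj G)) :
    EtModW.IsFTLocConst Λ ((EtModW.pull Λ O.ι).obj G) := by
  haveI := hasProducts_modules Λ
  have hx : ∀ x : O.toScheme, ∃ (V : X.Etale) (p : V.left), V.hom.base p = O.ι.base x ∧ ∃ S, FTConst G V S := fun x => by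
    obtain ⟨k, hk⟩ := Set.mem_iUnion.1 (hcov x.2)
    exact exists_ftConst_of_open (h k) _ hk
  choose V p hp S hS using hx
  refine ⟨O.toScheme, fun x => (EtCoh.bc O.ι).obj (V x), fun x => ⟨x, ?_⟩, fun x => ?_⟩
  · obtain ⟨z, -, hz⟩ := Scheme.Pullback.exists_preimage_pullback (f := (V x).hom) (g := O.ι) (p x) x (hp x)
    exact ⟨z, hz⟩
  · exact ⟨S x, inferInstance, inferInstance, Module.Finite.iff_fg.2 (hS x).1,
      nonempty_restr_pull_iso O.ι (nonempty_restr_iso_const (hS x).constBy)⟩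

theorem isFTLocConst_opens_of_range {T : Scheme.{u}} (g : T ⟶ X) [IsImmersion g] (W : X.Opens)
    (hr : Set.range g.base = (W : Set X)) {G : EtModW.Mod Λ X}
    (h : EtModW.IsFTLocConst Λ ((EtModW.pull Λ g).obj G)) :
    EtModW.IsFTLocConst Λ ((EtModW.pull Λ W.ι).obj G) := by
  have hsub : Set.range g.base ⊆ Set.range W.ι.base := by rw [Scheme.Opens.range_ι, hr]
  let l := IsOpenImmersion.lift W.ι g hsub
  have hl : l ≫ W.ι = g := IsOpenImmersion.lift_fac W.ι g hsub
  haveI : IsImmersion (l ≫ W.ι) := hl.symm ▸ ‹IsImmersion g›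
  haveI : IsImmersion l := IsImmersion.of_comp l W.ι
  haveI : Surjective l := ⟨fun w => by
    obtain ⟨t, ht⟩ := hr.ge w.2
    refine ⟨t, Subtype.ext ?_⟩
    refine Eq.trans ?_ ht
    exact (Scheme.Hom.comp_apply l W.ι t).symm.trans (congrArg (fun q : T ⟶ X => q.base t) hl)⟩
  haveI : IsClosedImmersion l := IsClosedImmersion.of_isPreimmersion l
    (by rw [Set.range_eq_univ.2 l.surjective]; exact isClosed_univ)
  refine isFTLocConst_of_closedImmersion l ?_
  exact isFTLocConst_of_iso ((eqToIso (congrArg (fun k => (EtModW.pull Λ k).obj G) hl.symm)) ≪≫ (pullCompMod l W.ι).app G) h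

end Groth.Agent.EtModLib
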