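import Groth.Agent.EtModLib.AdicStrata
import Groth.Agent.EtModLib.Constr
import Groth.Agent.EtModLib.OpenLC

/-! An adic system of constructible sheaves is lisse along a finite stratification. -/

universe u

open CategoryTheory CategoryTheory.Limits AlgebraicGeometry Opposite ARSys Topology

noncomputable section

set_option backward.isDefEq.respectTransparency false
set_option backward.isDefEq.respectTransparency.types false

namespace Groth.Agent.EtModLib

open EtFound (exists_immersion_range exists_lc_partition)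

variable {Λ : Type (u + 1)} [CommRing Λ]

/-- a subset on which every term of a system is lisse -/
def IsLissePiece {X : Scheme.{u}} (F : PS (EtModW.Mod Λ X)) (S : Set X) : Prop :=
  ∃ (T : Scheme.{u}) (g : T ⟶ X), IsImmersion g ∧ Set.range g.base = S ∧
    ∀ n, EtModW.IsFTLocConst Λ ((EtModW.pull Λ g).obj (F.obj (op n)))

theorem IsLissePiece.mono {X : Scheme.{u}} {F : PS (EtModW.Mod Λ X)} {S S' : Set X} (h : IsLissePiece F S)
    (hle : S' ⊆ S) (hlc : IsLocallyClosed S') : IsLissePiece F S' := by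
  obtain ⟨T, g, hg, rfl, hT⟩ := h
  obtain ⟨T', g', hg', hr⟩ := exists_immersion_range (hlc.preimage g.continuous)
  refine ⟨T', g' ≫ g, inferInstance, ?_,
    fun n => isFTLocConst_of_iso ((pullCompMod g' g).app _).symm (isFTLocConst_pull g' (hT n))⟩
  rw [Scheme.Hom.comp_base, TopCat.coe_comp, Set.range_comp, hr]
  exact Set.image_preimage_eq_of_subset hle

theorem exists_lisse_piece [IsNoetherianRing Λ] {J : Ideal Λ} {X : Scheme.{u}} [IsNoetherian X]
    {F : PS (EtModW.Mod Λ X)} (hF : IsAdic J F) (h0 : EtModW.IsConstructible Λ (F.obj (op 0)))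
    {C : Set X} (hC : IsClosed C) (hirr : IsIrreducible C) :
    ∃ O : Set X, IsOpen O ∧ (O ∩ C).Nonempty ∧ IsLissePiece F (O ∩ C) := by
  obtain ⟨n, E, hE, -, hu⟩ := exists_pieces ((isConstructible_iff_adaptedStrata X _).1 h0)
  obtain ⟨w, hw⟩ := QuasiSober.sober hirr hC
  obtain ⟨k, hk⟩ := Set.mem_iUnion.1 (hu.ge (Set.mem_univ w))
  obtain ⟨O₁, C₁, hO₁, hC₁, hE₁⟩ := (hE k).isLocallyClosed
  have hwC : w ∈ C := hw.mem
  have hsub : C ∩ O₁ ⊆ E k := by
    intro x hx
    rw [hE₁]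
    refine ⟨hx.2, ?_⟩
    have hCC : C ⊆ C₁ := hw ▸ closure_minimal (Set.singleton_subset_iff.2 (hE₁.le hk).2) hC₁
    exact hCC hx.1
  have hlc : IsLocallyClosed (C ∩ O₁) := hC.isLocallyClosed.inter hO₁.isLocallyClosed
  obtain ⟨T, g, hg, hr, hT⟩ := (hE k).mono hsub hlc
  haveI := hg
  haveI : IsLocallyNoetherian T := LocallyOfFiniteType.isLocallyNoetherian g
  haveI : TopologicalSpace.NoetherianSpace T := g.isEmbedding.isInducing.noetherianSpace
  haveI : IsNoetherian T := { }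
  have hirr' : IsIrreducible (C ∩ O₁) :=
    ⟨⟨w, hwC, (hE₁.le hk).1⟩, fun U V hU hV ⟨a, ⟨ha, ha'⟩, haU⟩ ⟨b, ⟨hb, hb'⟩, hbV⟩ => by
      obtain ⟨x, hx, ⟨hxO, hxU⟩, -, hxV⟩ := hirr.isPreirreducible (O₁ ∩ U) (O₁ ∩ V) (hO₁.inter hU) (hO₁.inter hV)
        ⟨a, ha, ha', haU⟩ ⟨b, hb, hb', hbV⟩
      exact ⟨x, ⟨hx, hxO⟩, hxU, hxV⟩⟩
  haveI : IrreducibleSpace T := by
    obtain ⟨t₀, -⟩ : ∃ t, g.base t = w := hr.ge ⟨hwC, (hE₁.le hk).1⟩
    haveI : Nonempty T := ⟨t₀⟩
    refine { isPreirreducible_univ := fun U V hU hV hU' hV' => ?_, toNonempty := inferInstance }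
    obtain ⟨U', hU'o, rfl⟩ := g.isEmbedding.isInducing.isOpen_iff.1 hU
    obtain ⟨V', hV'o, rfl⟩ := g.isEmbedding.isInducing.isOpen_iff.1 hV
    obtain ⟨a, -, ha⟩ := hU'
    obtain ⟨b, -, hb⟩ := hV'
    obtain ⟨x, hx, hxU, hxV⟩ := hirr'.isPreirreducible U' V' hU'o hV'o
      ⟨g.base a, hr.le ⟨a, rfl⟩, ha⟩ ⟨g.base b, hr.le ⟨b, rfl⟩, hb⟩
    obtain ⟨c, rfl⟩ := hr.ge hx
    exact ⟨c, trivial, hxU, hxV⟩
  obtain ⟨_, _, _⟩ := preservesFiniteLimits_pull (Λ := Λ) g
  haveI := linear_pull (Λ := Λ) g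
  obtain ⟨U, hUne, hU⟩ := exists_open_lisse (isAdic_map (EtModW.pull Λ g) (IsNoetherian.noetherian J) hF) hT
  obtain ⟨O₂, hO₂, hUO⟩ := g.isEmbedding.isInducing.isOpen_iff.1 U.2
  have hrange : Set.range (U.ι ≫ g).base = O₂ ∩ O₁ ∩ C := by
    rw [Scheme.Hom.comp_base, TopCat.coe_comp, Set.range_comp, Scheme.Opens.range_ι]
    ext x
    constructor
    · rintro ⟨t, ht, rfl⟩
      have h1 := hr.le ⟨t, rfl⟩
      exact ⟨⟨hUO.ge ht, h1.2⟩, h1.1⟩
    · rintro ⟨⟨h2, h1⟩, hxC⟩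
      obtain ⟨t, rfl⟩ := hr.ge ⟨hxC, h1⟩
      exact ⟨t, hUO.le h2, rfl⟩
  refine ⟨O₂ ∩ O₁, hO₂.inter hO₁, ?_, U.toScheme, U.ι ≫ g, inferInstance, hrange,
    fun n => isFTLocConst_of_iso ((pullCompMod U.ι g).app _).symm (hU n)⟩
  rw [← hrange]
  obtain ⟨t, ht⟩ := hUne
  exact ⟨_, ⟨t, ht⟩, rfl⟩

theorem exists_lisse_cover [IsNoetherianRing Λ] {J : Ideal Λ} {X : Scheme.{u}} [IsNoetherian X]
    {F : PS (EtModW.Mod Λ X)} (hF : IsAdic J F) (h0 : EtModW.IsConstructible Λ (F.obj (op 0)))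
    (C : TopologicalSpace.Closeds X) :
    ∃ (κ : Type u) (_ : Finite κ) (E : κ → Set X), (∀ k, IsLissePiece F (E k)) ∧ (C : Set X) ⊆ ⋃ k, E k := by
  induction C using WellFoundedLT.induction with
  | _ C ih =>
    by_cases hne : (C : Set X).Nonempty
    swap
    · exact ⟨PEmpty, inferInstance, PEmpty.elim, fun k => k.elim, fun x hx => absurd ⟨x, hx⟩ hne⟩
    by_cases hirr : IsPreirreducible (C : Set X)
    · obtain ⟨O, hO, hne', hp⟩ := exists_lisse_piece hF h0 C.2 ⟨hne, hirr⟩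
      let C' : TopologicalSpace.Closeds X := ⟨(C : Set X) \ O, C.2.sdiff hO⟩
      obtain ⟨κ, _, E, hE, hc⟩ := ih C' (lt_of_le_of_ne (fun x hx => hx.1) fun e => by
        obtain ⟨x, hxO, hxC⟩ := hne'
        exact ((congrArg (fun D : TopologicalSpace.Closeds X => (D : Set X)) e).ge hxC).2 hxO)
      refine ⟨Option κ, inferInstance, fun o => o.elim (O ∩ (C : Set X)) E, fun o => ?_, fun x hx => ?_⟩
      · cases o with
        | none => exact hp
        | some k => exact hE k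
      · by_cases hxO : x ∈ O
        · exact Set.mem_iUnion.2 ⟨none, hxO, hx⟩
        · obtain ⟨k, hk⟩ := Set.mem_iUnion.1 (hc ⟨hx, hxO⟩)
          exact Set.mem_iUnion.2 ⟨some k, hk⟩
    · rw [isPreirreducible_iff_isClosed_union_isClosed] at hirr
      push Not at hirr
      obtain ⟨A, B, hA, hB, hcov, hnA, hnB⟩ := hirr
      obtain ⟨κ, _, E, hE, hc⟩ := ih ⟨(C : Set X) ∩ A, C.2.inter hA⟩
        (lt_of_le_of_ne (fun x hx => hx.1) fun e =>
          hnA fun x hx => ((congrArg (fun D : TopologicalSpace.Closeds X => (D : Set X)) e).ge hx).2)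
      obtain ⟨κ', _, E', hE', hc'⟩ := ih ⟨(C : Set X) ∩ B, C.2.inter hB⟩
        (lt_of_le_of_ne (fun x hx => hx.1) fun e =>
          hnB fun x hx => ((congrArg (fun D : TopologicalSpace.Closeds X => (D : Set X)) e).ge hx).2)
      refine ⟨κ ⊕ κ', inferInstance, Sum.elim E E', fun o => Sum.rec hE hE' o, fun x hx => ?_⟩
      rcases hcov hx with hxA | hxB
      · obtain ⟨k, hk⟩ := Set.mem_iUnion.1 (hc ⟨hx, hxA⟩)
        exact Set.mem_iUnion.2 ⟨Sum.inl k, hk⟩
      · obtain ⟨k, hk⟩ := Set.mem_iUnion.1 (hc' ⟨hx, hxB⟩)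
        exact Set.mem_iUnion.2 ⟨Sum.inr k, hk⟩

theorem exists_lisse_partition [IsNoetherianRing Λ] {J : Ideal Λ} {X : Scheme.{u}} [IsNoetherian X]
    {F : PS (EtModW.Mod Λ X)} (hF : IsAdic J F) (h0 : EtModW.IsConstructible Λ (F.obj (op 0))) :
    ∃ (m : ℕ) (T : Fin m → Scheme.{u}) (g : ∀ i, T i ⟶ X),
      (∀ i, IsImmersion (g i)) ∧
      Pairwise (fun i j => Disjoint (Set.range (fun t => (g i).base t)) (Set.range (fun t => (g j).base t))) ∧
      (⋃ i, Set.range (fun t => (g i).base t)) = Set.univ ∧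
      ∀ (i : Fin m) (n : ℕ), EtModW.IsFTLocConst Λ ((EtModW.pull Λ (g i)).obj (F.obj (op n))) := by
  classical
  obtain ⟨κ, _, E, hE, hcov⟩ := exists_lisse_cover hF h0 ⊤
  have hEc : ∀ k, IsConstructible (E k) := fun k => by
    obtain ⟨T, g, hg, hr, -⟩ := hE k
    obtain ⟨O, D, hO, hD, e⟩ := hr ▸ g.isLocallyClosed_range
    rw [e]
    refine IsConstructible.inter ?_ ?_
    · exact (TopologicalSpace.NoetherianSpace.isCompact O).isConstructible hO
    · rw [← isConstructible_compl]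
      exact (TopologicalSpace.NoetherianSpace.isCompact _).isConstructible hD.isOpen_compl
  obtain ⟨n, P, hlc, -, hd, hu, hP⟩ := exists_lc_partition E hEc
  let L := {i : Fin n // (P i).Nonempty}
  let e : Fin (Fintype.card L) ≃ L := (Fintype.equivFin L).symm
  have hpiece : ∀ a, IsLissePiece F (P (e a).1) := fun a => by
    obtain ⟨x, hx⟩ := (e a).2
    obtain ⟨k, hk⟩ := Set.mem_iUnion.1 (hcov (Set.mem_univ x))
    refine (hE k).mono ?_ (hlc _)
    rcases hP (e a).1 k with h | h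
    · exact h
    · exact absurd hk (Set.disjoint_left.1 h hx)
  choose T g hg hr hT using hpiece
  refine ⟨_, T, g, hg, fun a b hab => ?_, ?_, fun a => hT a⟩
  · show Disjoint (Set.range (g a).base) (Set.range (g b).base)
    rw [hr, hr]
    exact hd fun h => hab (e.injective (Subtype.ext h))
  · show (⋃ a, Set.range (g a).base) = Set.univ
    simp only [hr]
    refine Set.eq_univ_of_forall fun x => ?_
    obtain ⟨i, hi⟩ := Set.mem_iUnion.1 (hu.ge (Set.mem_univ x))
    exact Set.mem_iUnion.2 ⟨e.symm ⟨i, x, hi⟩, by rwa [Equiv.apply_symm_apply]⟩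

theorem exists_dense_lisse [IsNoetherianRing Λ] {J : Ideal Λ} {X : Scheme.{u}} [IsNoetherian X]
    {F : PS (EtModW.Mod Λ X)} (hF : IsAdic J F) (h0 : EtModW.IsConstructible Λ (F.obj (op 0))) :
    ∃ U : X.Opens, Dense (U : Set X) ∧
      ∀ n : ℕ, EtModW.IsFTLocConst Λ ((EtModW.pull Λ U.ι).obj (F.obj (op n))) := by
  have hfin : (irreducibleComponents X).Finite := TopologicalSpace.NoetherianSpace.finite_irreducibleComponents
  have key : ∀ C : irreducibleComponents X, ∃ W : X.Opens, closure (W : Set X) = C.1 ∧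
      ∀ n, EtModW.IsFTLocConst Λ ((EtModW.pull Λ W.ι).obj (F.obj (op n))) := fun C => by
    let Q : Set X := (⋃₀ (irreducibleComponents X \ {C.1}))ᶜ
    have hQ : IsOpen Q := by
      rw [isOpen_compl_iff, Set.sUnion_eq_biUnion]
      exact hfin.sdiff.isClosed_biUnion fun Z hZ => isClosed_of_mem_irreducibleComponents Z hZ.1
    have hcl : closure Q = C.1 := closure_sUnion_irreducibleComponents_sdiff_singleton hfin C.1 C.2
    have hQC : Q ⊆ C.1 := hcl ▸ subset_closure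
    obtain ⟨O, hO, hne, hp⟩ := exists_lisse_piece hF h0 (isClosed_of_mem_irreducibleComponents _ C.2) C.2.1
    let W : X.Opens := ⟨O ∩ Q, hO.inter hQ⟩
    obtain ⟨T, g, hg, hr, hT⟩ := hp.mono (S' := (W : Set X)) (fun x hx => ⟨hx.1, hQC hx.2⟩) W.2.isLocallyClosed
    refine ⟨W, ?_, fun n => isFTLocConst_opens_of_range g W hr (hT n)⟩
    refine Set.Subset.antisymm (closure_minimal (fun x hx => hQC hx.2) (isClosed_of_mem_irreducibleComponents _ C.2)) ?_
    have hne' : (C.1 ∩ (W : Set X)).Nonempty := by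
      obtain ⟨x, hx⟩ : (C.1 ∩ (O ∩ Q)).Nonempty := C.2.1.isPreirreducible O Q hO hQ
        (by rwa [Set.inter_comm]) (by
          obtain ⟨x, hx⟩ := closure_nonempty_iff.1 (hcl.symm ▸ C.2.1.nonempty : (closure Q).Nonempty)
          exact ⟨x, hQC hx, hx⟩)
      exact ⟨x, hx⟩
    exact (subset_closure_inter_of_isPreirreducible_of_isOpen C.2.1.isPreirreducible W.2 hne').trans
      (closure_mono Set.inter_subset_right)
  choose W hW hl using key
  refine ⟨⨆ C, W C, ?_, fun n => isFTLocConst_of_opens _ W (TopologicalSpace.Opens.coe_iSup W).le (fun C => hl C n)⟩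
  refine dense_iff_closure_eq.2 (Set.eq_univ_of_forall fun x => ?_)
  have h1 : x ∈ closure (W ⟨irreducibleComponent x, irreducibleComponent_mem_irreducibleComponents x⟩ : Set X) :=
    (hW _).symm ▸ mem_irreducibleComponent
  exact closure_mono (show (W _ : Set X) ⊆ ↑(⨆ C, W C) from le_iSup W _) h1

end Groth.Agent.EtModLib
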