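import Groth.Agent.EtModLib.ConstrOps
import Groth.Agent.EtModLib.ExactAb

/-! Pullbacks of constructible sheaves of modules to the pro-etale site form a weak Serre subcategory. -/

universe u

open CategoryTheory CategoryTheory.Limits AlgebraicGeometry Opposite

noncomputable section

set_option backward.isDefEq.respectTransparency false
set_option backward.isDefEq.respectTransparency.types false

namespace Groth.Agent.EtModLib

variable {Λ : Type (u + 1)} [CommRing Λ] {X : Scheme.{u}} [ProEtS.EpsCont X]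

theorem isIso_counit_of_essImage {G : EtModW.ModP Λ X} (hG : (EtModW.epsPullMod Λ X).essImage G) :
    IsIso ((epsModAdj Λ).counit.app G) :=
  isIso_counit_of_toAb ((essImage_iff G).1 hG)

/-- The comparison with the direct image. -/
def counitIso {G : EtModW.ModP Λ X} (hG : (EtModW.epsPullMod Λ X).essImage G) :
    (EtModW.epsPullMod Λ X).obj ((epsPushMod Λ).obj G) ≅ G :=
  haveI := isIso_counit_of_essImage hG
  @asIso _ _ _ _ ((epsModAdj Λ).counit.app G) this

/-- A sheaf is recovered from its pullback. -/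
def unitIso (M : EtModW.Mod Λ X) : M ≅ (epsPushMod Λ).obj ((EtModW.epsPullMod Λ X).obj M) :=
  @asIso _ _ _ _ ((epsModAdj Λ).unit.app M) (isIso_unit_mod M).1

theorem isWeakSerre_constrP [IsNoetherianRing Λ] :
    WSerre.IsWeakSerre (fun F : EtModW.ModP Λ X =>
      ∃ E : EtModW.Mod Λ X, EtModW.IsConstructible Λ E ∧ Nonempty ((EtModW.epsPullMod Λ X).obj E ≅ F)) := by
  have hess := essImage_weakSerre (Λ := Λ) (X := X)
  let ε := EtModW.epsPullMod Λ X
  let R := epsPushMod Λ (X := X)
  haveI : PreservesColimitsOfSize.{0, 0} ε := (epsModAdj Λ).leftAdjoint_preservesColimits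
  haveI : PreservesLimitsOfSize.{0, 0} R := (epsModAdj Λ).rightAdjoint_preservesLimits
  haveI hRadd : (epsPushMod Λ (X := X)).Additive := Functor.additive_of_preserves_binary_products R
  haveI : ε.Additive := (epsModAdj Λ).left_adjoint_additive
  let P : ObjectProperty (EtModW.ModP Λ X) := fun F =>
    ∃ E : EtModW.Mod Λ X, EtModW.IsConstructible Λ E ∧ Nonempty (ε.obj E ≅ F)
  have hP : ∀ {F}, P F → ε.essImage F ∧ EtModW.IsConstructible Λ (R.obj F) := fun {F} ⟨E, hE, ⟨e⟩⟩ =>
    ⟨⟨E, ⟨e⟩⟩, isConstructible_of_iso (unitIso E ≪≫ R.mapIso e) hE⟩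
  have mk : ∀ {F}, ε.essImage F → EtModW.IsConstructible Λ (R.obj F) → P F := fun {F} hF hc =>
    ⟨_, hc, ⟨counitIso hF⟩⟩
  haveI : ObjectProperty.ContainsZero P :=
    by
    obtain ⟨Z, hZ⟩ := HasZeroObject.zero (C := EtModW.Mod Λ X)
    exact ⟨⟨ε.obj Z, ε.map_isZero hZ, Z, isConstructible_of_isZero hZ, ⟨Iso.refl _⟩⟩⟩
  haveI : ObjectProperty.IsClosedUnderExtensions P := by
    refine ⟨fun {T} hT h₁ h₃ => ?_⟩
    obtain ⟨e₁, c₁⟩ := hP h₁
    obtain ⟨e₃, c₃⟩ := hP h₃
    have e₂ := hess.2 T hT e₁ e₃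
    refine mk e₂ ?_
    haveI := hT.mono_f
    haveI : Epi (R.map T.g) := by
      let C := cokernel (R.map T.g)
      refine Preadditive.epi_of_isZero_cokernel _ (IsZero.of_iso (R.map_isZero ?_) (unitIso C))
      haveI : Epi (ε.map (R.map T.g)) := by
        haveI := hT.epi_g
        have h : ε.map (R.map T.g) = (counitIso e₂).hom ≫ T.g ≫ (counitIso e₃).inv := by
          rw [← Category.assoc, Iso.eq_comp_inv]
          exact (epsModAdj Λ).counit_naturality T.g
        rw [h]
        infer_instance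
      exact (isZero_cokernel_of_epi _).of_iso (PreservesCokernel.iso ε (R.map T.g))
    exact isConstructible_extension (S := T.map R)
      { mono_f := inferInstanceAs (Mono (R.map T.f))
        epi_g := inferInstanceAs (Epi (R.map T.g))
        exact := hT.exact.map_of_mono_of_preservesKernel R hT.mono_f inferInstance } c₁ c₃
  haveI : ObjectProperty.IsClosedUnderKernels P := by
    refine ⟨fun F hF => ?_⟩
    obtain ⟨f, k, hk, hA, hB⟩ := hF
    obtain ⟨eA, cA⟩ := hP hA
    obtain ⟨eB, cB⟩ := hP hB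
    let e := (limit.isLimit _).conePointUniqueUpToIso hk
    refine mk (Functor.essImage.ofIso e (hess.1 _ _ f eA eB).1) ?_
    exact isConstructible_of_iso ((PreservesKernel.iso R f).symm ≪≫ R.mapIso e)
      (isConstructible_kernel (R.map f) cA cB)
  haveI : ObjectProperty.IsClosedUnderCokernels P := by
    refine ⟨fun F hF => ?_⟩
    obtain ⟨f, k, hk, hA, hB⟩ := hF
    obtain ⟨eA, cA⟩ := hP hA
    obtain ⟨eB, cB⟩ := hP hB
    let e := (colimit.isColimit _).coconePointUniqueUpToIso hk
    refine ⟨cokernel (R.map f), isConstructible_cokernel (R.map f) cA cB, ⟨PreservesCokernel.iso ε (R.map f) ≪≫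
      cokernel.mapIso (ε.map (R.map f)) f (counitIso eA) (counitIso eB) ?_ ≪≫ e⟩⟩
    exact (epsModAdj Λ).counit_naturality f
  exact ⟨⟩

end Groth.Agent.EtModLib
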