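import Groth.Agent.EtModLib.SmulLin
import Groth.Agent.ProEtLib.EssImage

/-! The comparison of etale and pro-etale sheaves of modules through their underlying abelian sheaves. -/

universe u

open CategoryTheory CategoryTheory.Limits AlgebraicGeometry Opposite

noncomputable section

set_option backward.isDefEq.respectTransparency false
set_option backward.isDefEq.respectTransparency.types false

namespace Groth.Agent.EtModLib

open ProEtLib

variable (Λ : Type (u + 1)) [CommRing Λ] {X : Scheme.{u}} [ProEtS.EpsCont X]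

/-- The underlying abelian sheaf on the pro-etale site. -/
abbrev UP : EtModW.ModP Λ X ⥤ ProEtS.AbP X := toAb (Scheme.ProEt.topology X) Λ

/-- The underlying abelian sheaf on the etale site. -/
abbrev UE : EtModW.Mod Λ X ⥤ EtCoh.Ab X := toAb X.smallEtaleTopology Λ

/-- Direct image of sheaves of modules to the etale site. -/
abbrev epsPushMod : EtModW.ModP Λ X ⥤ EtModW.Mod Λ X :=
  (ProEtS.eps X).sheafPushforwardContinuous (ModuleCat.{u + 1} Λ) X.smallEtaleTopology (Scheme.ProEt.topology X)

/-- The adjunction for sheaves of modules. -/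
def epsModAdj : EtModW.epsPullMod Λ X ⊣ epsPushMod Λ (X := X) :=
  (ProEtS.eps X).sheafAdjunctionContinuous (ModuleCat.{u + 1} Λ) X.smallEtaleTopology (Scheme.ProEt.topology X)

variable {Λ}

theorem toAb_push {G H : EtModW.ModP Λ X} (f : G ⟶ H) :
    (UE Λ).map ((epsPushMod Λ).map f) = (ProEtS.epsPush X).map ((UP Λ).map f) := rfl

theorem hom_ext_push {A B : ProEtS.AbP X} (hA : (ProEtS.epsPull X).essImage A) {f g : A ⟶ B}
    (h : (ProEtS.epsPush X).map f = (ProEtS.epsPush X).map g) : f = g := by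
  have := isIso_unit_eps (X := X)
  have : IsIso (ProEtS.epsAdj X).unit := NatIso.isIso_of_isIso_app _
  obtain ⟨hff⟩ : Nonempty (ProEtS.epsPull X).FullyFaithful := ⟨(ProEtS.epsAdj X).fullyFaithfulLOfIsIsoUnit⟩
  haveI := hff.full
  haveI := hff.faithful
  haveI : IsIso ((ProEtS.epsAdj X).counit.app A) := (ProEtS.epsAdj X).isIso_counit_app_iff_mem_essImage.2 hA
  rw [← cancel_epi ((ProEtS.epsAdj X).counit.app A)]
  exact ((ProEtS.epsAdj X).counit_naturality f).symm.trans
    ((congrArg (fun k => (ProEtS.epsPull X).map k ≫ _) h).trans ((ProEtS.epsAdj X).counit_naturality g))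

theorem exists_lift_push {G H : EtModW.ModP Λ X} (hG : (ProEtS.epsPull X).essImage ((UP Λ).obj G))
    (ψ : (epsPushMod Λ).obj G ⟶ (epsPushMod Λ).obj H) :
    ∃ φ : G ⟶ H, (epsPushMod Λ).map φ = ψ := by
  have := isIso_unit_eps (X := X)
  have : IsIso (ProEtS.epsAdj X).unit := NatIso.isIso_of_isIso_app _
  obtain ⟨hff⟩ : Nonempty (ProEtS.epsPull X).FullyFaithful := ⟨(ProEtS.epsAdj X).fullyFaithfulLOfIsIsoUnit⟩
  haveI := hff.full
  haveI := hff.faithful
  haveI : IsIso ((ProEtS.epsAdj X).counit.app ((UP Λ).obj G)) :=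
    (ProEtS.epsAdj X).isIso_counit_app_iff_mem_essImage.2 hG
  let a : (UP Λ).obj G ⟶ (UP Λ).obj H := inv ((ProEtS.epsAdj X).counit.app ((UP Λ).obj G)) ≫
    (ProEtS.epsPull X).map ((UE Λ).map ψ) ≫ (ProEtS.epsAdj X).counit.app ((UP Λ).obj H)
  have ha : (ProEtS.epsPush X).map a = (UE Λ).map ψ := by
    apply ((ProEtS.epsAdj X).homEquiv _ _).symm.injective
    rw [Adjunction.homEquiv_counit, Adjunction.homEquiv_counit]
    refine ((ProEtS.epsAdj X).counit_naturality a).trans ?_
    exact IsIso.hom_inv_id_assoc _ _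
  refine ⟨homMk a fun r => hom_ext_push hG ?_, toAb_map_injective ha⟩
  refine ((ProEtS.epsPush X).map_comp _ _).trans (Eq.trans ?_ ((ProEtS.epsPush X).map_comp _ _).symm)
  exact (congrArg (fun k => (ProEtS.epsPush X).map (smulAb G r) ≫ k) ha).trans
    ((smulAb_natural ψ r).trans (congrArg (fun k => k ≫ (ProEtS.epsPush X).map (smulAb H r)) ha.symm))

theorem push_faithful {G H : EtModW.ModP Λ X} (hG : (ProEtS.epsPull X).essImage ((UP Λ).obj G))
    {f g : G ⟶ H} (h : (epsPushMod Λ).map f = (epsPushMod Λ).map g) : f = g :=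
  toAb_map_injective (hom_ext_push hG (congrArg (UE Λ).map h))

theorem isIso_counit_of_toAb {G : EtModW.ModP Λ X} (hG : (ProEtS.epsPull X).essImage ((UP Λ).obj G)) :
    IsIso ((epsModAdj Λ).counit.app G) := by
  obtain ⟨s, hs⟩ := exists_lift_push hG ((epsModAdj Λ).unit.app ((epsPushMod Λ).obj G))
  refine ⟨s, ?_, push_faithful hG ?_⟩
  · apply ((epsModAdj Λ).homEquiv _ _).injective
    rw [Adjunction.homEquiv_unit, Adjunction.homEquiv_unit, Functor.map_comp]
    refine ((epsModAdj Λ).right_triangle_components_assoc G _).trans (hs.trans ?_)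
    exact ((congrArg (fun k => (epsModAdj Λ).unit.app _ ≫ k) ((epsPushMod Λ).map_id _)).trans (Category.comp_id _)).symm
  · rw [Functor.map_comp, hs]
    exact ((epsModAdj Λ).right_triangle_components G).trans ((epsPushMod Λ).map_id _).symm

theorem isIso_unit_mod (M : EtModW.Mod Λ X) :
    IsIso ((epsModAdj Λ).unit.app M) ∧ (ProEtS.epsPull X).essImage ((UP Λ).obj ((EtModW.epsPullMod Λ X).obj M)) := by
  have := isIso_unit_eps (X := X)
  let A := (ProEtS.epsPull X).obj ((UE Λ).obj M)
  let e := asIso ((ProEtS.epsAdj X).unit.app ((UE Λ).obj M))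
  let ρ : Λ →+* End A :=
    { toFun := fun r => (ProEtS.epsPull X).map (smulAb M r)
      map_one' := by rw [map_one]; exact (ProEtS.epsPull X).map_id _
      map_mul' := fun r s => by rw [map_mul]; exact (ProEtS.epsPull X).map_comp _ _
      map_zero' := by
        haveI : PreservesColimitsOfSize.{0, 0} (ProEtS.epsPull X) := (ProEtS.epsAdj X).leftAdjoint_preservesColimits
        haveI : (ProEtS.epsPull X).Additive := Functor.additive_of_preserves_binary_products _
        rw [map_zero]; exact (ProEtS.epsPull X).map_zero _ _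
      map_add' := fun r s => by
        haveI : PreservesColimitsOfSize.{0, 0} (ProEtS.epsPull X) := (ProEtS.epsAdj X).leftAdjoint_preservesColimits
        haveI : (ProEtS.epsPull X).Additive := Functor.additive_of_preserves_binary_products _
        rw [map_add]; exact (ProEtS.epsPull X).map_add }
  let G : EtModW.ModP Λ X := ofAb A ρ
  have hG : (ProEtS.epsPull X).essImage ((UP Λ).obj G) := ⟨_, ⟨Iso.refl A⟩⟩
  haveI := isIso_counit_of_toAb hG
  let e' : M ≅ (epsPushMod Λ).obj G :=
    { hom := homMk e.hom fun r => ((ProEtS.epsAdj X).unit.naturality (smulAb M r))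
      inv := homMk e.inv fun r => by
        rw [Iso.eq_inv_comp, ← Category.assoc, Iso.comp_inv_eq]
        exact (((ProEtS.epsAdj X).unit.naturality (smulAb M r))).symm
      hom_inv_id := toAb_map_injective e.hom_inv_id
      inv_hom_id := toAb_map_injective e.inv_hom_id }
  haveI : IsIso ((epsModAdj Λ).unit.app ((epsPushMod Λ).obj G)) := by
    have h := (epsModAdj Λ).right_triangle_components G
    haveI : IsIso ((epsPushMod Λ).map ((epsModAdj Λ).counit.app G)) := Functor.map_isIso _ _
    refine ⟨(epsPushMod Λ).map ((epsModAdj Λ).counit.app G), h, ?_⟩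
    exact (cancel_mono ((epsPushMod Λ).map ((epsModAdj Λ).counit.app G))).1
      ((Category.assoc _ _ _).trans ((congrArg (fun k => (epsPushMod Λ).map ((epsModAdj Λ).counit.app G) ≫ k) h).trans
        ((Category.comp_id _).trans (Category.id_comp _).symm)))
  refine ⟨?_, ⟨(UE Λ).obj M, ⟨(UP Λ).mapIso ((asIso ((epsModAdj Λ).counit.app G)).symm ≪≫
    (EtModW.epsPullMod Λ X).mapIso e'.symm)⟩⟩⟩
  rw [show (epsModAdj Λ).unit.app M = e'.hom ≫ (epsModAdj Λ).unit.app ((epsPushMod Λ).obj G) ≫
    (epsPushMod Λ).map ((EtModW.epsPullMod Λ X).map e'.inv) by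
      rw [(epsModAdj Λ).unit_naturality, e'.hom_inv_id_assoc]]
  exact IsIso.comp_isIso' e'.isIso_hom (IsIso.comp_isIso' this
    ((epsPushMod Λ).mapIso ((EtModW.epsPullMod Λ X).mapIso e'.symm)).isIso_hom)

theorem essImage_iff (G : EtModW.ModP Λ X) :
    (EtModW.epsPullMod Λ X).essImage G ↔ (ProEtS.epsPull X).essImage ((UP Λ).obj G) := by
  refine ⟨fun ⟨M, ⟨e⟩⟩ => Functor.essImage.ofIso ((UP Λ).mapIso e) (isIso_unit_mod M).2, fun h => ?_⟩
  haveI := isIso_counit_of_toAb h
  exact ⟨_, ⟨asIso ((epsModAdj Λ).counit.app G)⟩⟩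

end Groth.Agent.EtModLib
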