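import Groth.Agent.EtModLib.ARStalk
import Groth.Agent.EtModLib.EpsMod
import Mathlib.RingTheory.Artinian.Module

/-! pulled-back systems of locally constant sheaves of finite length satisfy Mittag-Leffler -/

universe u

open CategoryTheory CategoryTheory.Limits Opposite ARSys AlgebraicGeometry

noncomputable section

set_option backward.isDefEq.respectTransparency false
set_option backward.isDefEq.respectTransparency.types false

namespace Groth.Agent.EtModLib

variable {Λ : Type (u + 1)} [CommRing Λ] {X : Scheme.{u}}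

theorem exists_stable_stalk {I : Ideal Λ} (hI : ∀ n, IsArtinianRing (Λ ⧸ I ^ (n + 1)))
    {F : PS (EtModW.Mod Λ X)} (hk : TermKilled I F) (n : ℕ) {Ω : Type u} [Field Ω] [IsSepClosed Ω]
    (ξ : Spec (CommRingCat.of Ω) ⟶ X) [Module.Finite Λ ((EtModW.stalk Λ ξ).obj (F.obj (op n)))] :
    ∃ r, ∀ a, n + r ≤ a → ∀ (ha : n ≤ a) m (hm : n ≤ m) x,
      ∃ y, ((EtModW.stalk Λ ξ).map (tr F ha)).hom x = ((EtModW.stalk Λ ξ).map (tr F hm)).hom y := by
  obtain ⟨_, _, -⟩ := linear_stalk (Λ := Λ) ξ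
  let M : Type (u + 1) := (EtModW.stalk Λ ξ).obj (F.obj (op n))
  have hkM := killedBy_map (EtModW.stalk Λ ξ) (hk n)
  have hann : Module.IsTorsionBySet Λ M (I ^ (n + 1) : Ideal Λ) := fun x a =>
    LinearMap.congr_fun (congrArg ModuleCat.Hom.hom (hkM a a.2)) x
  haveI : IsArtinian Λ M := by
    letI := hann.module
    haveI := hI n
    haveI : IsScalarTower Λ (Λ ⧸ I ^ (n + 1)) M := hann.isScalarTower
    haveI : Module.Finite (Λ ⧸ I ^ (n + 1)) M := Module.Finite.of_restrictScalars_finite Λ _ _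
    haveI : IsArtinian (Λ ⧸ I ^ (n + 1)) M := inferInstance
    exact isArtinian_of_surjective_algebraMap (R := Λ ⧸ I ^ (n + 1)) (S := Λ) Ideal.Quotient.mk_surjective
  let R : ℕ →o (Submodule Λ M)ᵒᵈ := ⟨fun k => OrderDual.toDual
      (LinearMap.range ((EtModW.stalk Λ ξ).map (tr F (Nat.le_add_right n k))).hom),
    fun a b h => by
      show LinearMap.range _ ≤ LinearMap.range _
      rintro _ ⟨z, rfl⟩
      refine ⟨((EtModW.stalk Λ ξ).map (tr F (show n + a ≤ n + b by omega))).hom z, ?_⟩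
      rw [← LinearMap.comp_apply, ← ModuleCat.hom_comp, ← Functor.map_comp, ARLib.tr_tr]⟩
  obtain ⟨r, hr⟩ := IsArtinian.monotone_stabilizes R
  refine ⟨r, fun a har ha m hm x => ?_⟩
  obtain ⟨k, rfl⟩ := Nat.exists_eq_add_of_le ha
  obtain ⟨l, rfl⟩ := Nat.exists_eq_add_of_le hm
  have h1 : R k ≤ R (max l r) := by
    rw [← hr _ (le_max_right l r), ← hr k (by omega)]
  have hsub : OrderDual.ofDual (R k) ≤ OrderDual.ofDual (R l) := by
    refine le_trans ?_ (R.monotone (le_max_left l r))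
    rw [← hr k (by omega)]
    exact le_of_eq (hr _ (le_max_right l r))
  obtain ⟨y, hy⟩ := hsub ⟨x, rfl⟩
  exact ⟨y, hy.symm⟩

theorem isML_of_locConst [IsNoetherian X] {I : Ideal Λ} (hI : ∀ n, IsArtinianRing (Λ ⧸ I ^ (n + 1)))
    {F : PS (EtModW.Mod Λ X)} (hk : TermKilled I F) (hF : ∀ n : ℕ, EtModW.IsFTLocConst Λ (F.obj (op n))) (n : ℕ) :
    ∃ r, ∀ a, n + r ≤ a → ∀ (ha : n ≤ a) m (hm : n ≤ m),
      tr F ha ≫ cokernel.π (tr F hm) = 0 := by
  classical
  have hfin : (irreducibleComponents X).Finite := TopologicalSpace.NoetherianSpace.finite_irreducibleComponents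
  have hgen : ∀ Z ∈ irreducibleComponents X, ∃ g : X, IsGenericPoint g Z := fun Z hZ =>
    QuasiSober.sober hZ.1 (isClosed_of_mem_irreducibleComponents Z hZ)
  choose g hg using hgen
  choose K hK₁ hK₂ ξ hξ using fun x : X => EtFound.exists_geomPoint x
  letI := hK₁
  haveI := hK₂
  haveI : ∀ x m, Module.Finite Λ ((EtModW.stalk Λ (ξ x)).obj (F.obj (op m))) := fun x m =>
    finite_stalk_of_isFTLocConst (hF m) (ξ x)
  choose r hr using fun x => exists_stable_stalk hI hk n (ξ x)
  refine ⟨hfin.toFinset.attach.sup fun Z => r (g Z.1 (hfin.mem_toFinset.1 Z.2)), fun a har ha m hm => ?_⟩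
  refine hom_eq_zero_of_stalks _ fun Ω _ _ ζ c => ?_
  let x := ζ.base (default : Spec (CommRingCat.of Ω))
  have hZ : irreducibleComponent x ∈ hfin.toFinset :=
    hfin.mem_toFinset.2 (irreducibleComponent_mem_irreducibleComponents x)
  let γ := g _ (hfin.mem_toFinset.1 hZ)
  obtain ⟨e⟩ := sameSys_of_specializes hF ((hg _ (hfin.mem_toFinset.1 hZ)).specializes mem_irreducibleComponent)
    Ω _ inferInstance ζ (K γ) _ inferInstance (ξ γ) rfl (hξ γ)
  obtain ⟨y, hy⟩ := hr γ a (le_trans (Nat.add_le_add_left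
    (Finset.le_sup (f := fun Z => r (g Z.1 (hfin.mem_toFinset.1 Z.2))) (Finset.mem_attach _ ⟨_, hZ⟩)) n) har)
    ha m hm (e.hom.app (op a) c)
  obtain ⟨d, hd⟩ := (e.app (op m)).toLinearEquiv.surjective y
  have hcd : ((EtModW.stalk Λ ζ).map (tr F ha)).hom c = ((EtModW.stalk Λ ζ).map (tr F hm)).hom d := by
    apply (e.app (op n)).toLinearEquiv.injective
    have h1 := NatTrans.naturality_apply e.hom (homOfLE ha).op c
    have h2 := NatTrans.naturality_apply e.hom (homOfLE hm).op d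
    exact h1.trans ((hy.trans (congrArg _ hd.symm)).trans h2.symm)
  rw [Functor.map_comp, ModuleCat.hom_comp, LinearMap.comp_apply, hcd]
  exact stalk_zero_apply (S := ShortComplex.mk (tr F hm) _ (cokernel.condition _)) ζ d

end Groth.Agent.EtModLib

namespace Groth.Agent.EtModLib

theorem isML_map {C : Type*} [Category C] [Abelian C] {D : Type*} [Category D] [Abelian D] (G : C ⥤ D)
    [G.PreservesEpimorphisms] {F : PS C} (h : ∀ n, ∃ r, ∀ a, n + r ≤ a → ∀ (ha : n ≤ a) m (hm : n ≤ m),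
      tr F ha ≫ cokernel.π (tr F hm) = 0) : IsML (F ⋙ G) := fun n => by
  obtain ⟨r, hr⟩ := h n
  have key : ∀ s, r ≤ s → ∀ l, imageSubobject (shiftMap (F ⋙ G) s n) ≤ imageSubobject (shiftMap (F ⋙ G) l n) :=
    fun s hs l => by
    have hex := (ShortComplex.mk _ _ (cokernel.condition (tr F (Nat.le_add_right n l)))).exact_of_g_is_cokernel
      (cokernelIsCokernel _)
    obtain ⟨T, π, hπ, y, hy⟩ := hex.exact_up_to_refinements (tr F (Nat.le_add_right n s))
      (hr (n + s) (by omega) _ _ _)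
    refine (ARLib.imageSubobject_le_iff _ _).2 ⟨G.obj T, G.map π, inferInstance, G.map y, ?_⟩
    exact (G.map_comp _ _).symm.trans ((congrArg G.map hy).trans (G.map_comp _ _))
  exact ⟨r, fun s hs => le_antisymm (key s hs r) (key r le_rfl s)⟩

end Groth.Agent.EtModLib
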