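import Groth.Agent.EtModLib.ClosedPushEps
import Groth.Agent.EtModLib.ExactAb
import Groth.Agent.EtFound.JContGen
import Groth.Agent.EtFound.Strata
import Groth.Agent.S0743

/-! being pulled back from the etale site is local for stratifications -/

universe u

open CategoryTheory CategoryTheory.Limits AlgebraicGeometry Opposite TopologicalSpace

noncomputable section

set_option backward.isDefEq.respectTransparency false
set_option backward.isDefEq.respectTransparency.types false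

namespace Groth.Agent.EtModLib

open ProEtLib

theorem isCompact_of_constructible {T : Type*} [TopologicalSpace T] [CompactSpace T] [QuasiSeparatedSpace T]
    {E : Set T} (hE : Topology.IsConstructible E) : IsCompact E := by
  obtain ⟨S, hS, hS1, hS2⟩ := EtFound.exists_opens_determining hE
  let A : Set (Set T) → Set T := fun R => ⋂₀ R ∩ ⋂₀ ((·ᶜ) '' (S \ R))
  have hEq : E = ⋃ R ∈ {R | R ⊆ S ∧ A R ⊆ E}, A R := by
    refine Set.Subset.antisymm (fun x hx => ?_) (Set.iUnion₂_subset fun R hR => hR.2)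
    refine Set.mem_biUnion (x := {U ∈ S | x ∈ U}) ⟨fun U hU => hU.1, fun y hy => ?_⟩ ?_
    · refine (hS2 x y fun U hU => ⟨fun h => hy.1 U ⟨hU, h⟩, fun h => by_contra fun h' => ?_⟩).1 hx
      exact hy.2 _ ⟨U, ⟨hU, fun hh => h' hh.2⟩, rfl⟩ h
    · refine ⟨fun U hU => hU.2, ?_⟩
      rintro _ ⟨U, hU, rfl⟩
      exact fun h => hU.2 ⟨hU.1, h⟩
  rw [hEq]
  refine ((hS.finite_subsets).subset fun R hR => hR.1).isCompact_biUnion fun R hR => ?_
  refine IsCompact.inter_right (?_ : IsCompact (⋂₀ R)) (isClosed_sInter ?_)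
  · have hfin : R.Finite := hS.subset hR.1
    have : IsOpen (⋂₀ R) ∧ IsCompact (⋂₀ R) := by
      have hsub : ∀ U ∈ R, IsOpen U ∧ IsRetrocompact U := fun U hU => hS1 U (hR.1 hU)
      clear hR
      induction R, hfin using Set.Finite.induction_on_subset with
      | empty => simp [isCompact_univ]
      | @insert U R' hU _ _ ih =>
        rw [Set.sInter_insert]
        have hU' := hsub U (Set.mem_insert U R')
        obtain ⟨h1, h2⟩ := ih fun V hV => hsub V (Set.mem_insert_of_mem U hV)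
        exact ⟨hU'.1.inter h1, hU'.2 h2 h1⟩
    exact this.2
  · rintro _ ⟨U, hU, rfl⟩
    exact (hS1 U hU.1).1.isClosed_compl

variable {X : Scheme.{u}}

/-- pulled back from the etale site -/
def InIm (F : ProEtS.AbP X) : Prop :=
  haveI := ProEtLib.epsCont X
  (ProEtS.epsPull X).essImage F

theorem InIm.of_iso {F G : ProEtS.AbP X} (e : F ≅ G) (h : InIm F) : InIm G :=
  Functor.essImage.ofIso e h

theorem inIm_weakSerre :
    (∀ {F G : ProEtS.AbP X} (φ : F ⟶ G), InIm F → InIm G → InIm (kernel φ) ∧ InIm (cokernel φ)) ∧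
      ∀ {S : ShortComplex (ProEtS.AbP X)}, S.ShortExact → InIm S.X₁ → InIm S.X₃ → InIm S.X₂ := by
  haveI := ProEtLib.epsCont X
  haveI := isWeakSerre_top (X := X)
  haveI := ProEtLib.isWeakSerre_essImage (X := X) (fun _ : EtCoh.Ab X => True)
  let P : ObjectProperty (ProEtS.AbP X) := fun F => ∃ A : EtCoh.Ab X, True ∧ Nonempty ((ProEtS.epsPull X).obj A ≅ F)
  have h1 : ∀ {F : ProEtS.AbP X}, InIm F → P F := fun ⟨A, h⟩ => ⟨A, trivial, h⟩
  have h2 : ∀ {F : ProEtS.AbP X}, P F → InIm F := fun ⟨A, _, h⟩ => ⟨A, h⟩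
  exact ⟨fun {F G} φ hF hG => ⟨h2 (P.prop_of_isLimit_kernelFork (k := KernelFork.ofι (kernel.ι φ) (kernel.condition φ))
      (kernelIsKernel φ) (h1 hF) (h1 hG)),
    h2 (P.prop_of_isColimit_cokernelCofork (k := CokernelCofork.ofπ (cokernel.π φ) (cokernel.condition φ))
      (cokernelIsCokernel φ) (h1 hF) (h1 hG))⟩,
    fun {S} hS h h' => h2 (P.prop_X₂_of_shortExact hS (h1 h) (h1 h'))⟩

theorem InIm.pull {Y : Scheme.{u}} (g : Y ⟶ X) [ProEtS.PCont g] {F : ProEtS.AbP X} (h : InIm F) :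
    InIm ((ProEtS.pullP g).obj F) := by
  haveI := ProEtLib.epsCont X
  haveI := ProEtLib.epsCont Y
  obtain ⟨A, ⟨e⟩⟩ := h
  exact ⟨_, ⟨((epsPullCompIso g).app A).symm ≪≫ (ProEtS.pullP g).mapIso e⟩⟩

theorem nonempty_pullP_comp {Y Z : Scheme.{u}} (g : Z ⟶ Y) (f : Y ⟶ X) [ProEtS.PCont g] [ProEtS.PCont f]
    [ProEtS.PCont (g ≫ f)] (F : ProEtS.AbP X) :
    Nonempty ((ProEtS.pullP (g ≫ f)).obj F ≅ (ProEtS.pullP g).obj ((ProEtS.pullP f).obj F)) := by
  let e : ProEtS.bcP (g ≫ f) ≅ ProEtS.bcP f ⋙ ProEtS.bcP g := MorphismProperty.Over.pullbackComp g f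
  haveI := Functor.isContinuous_comp (ProEtS.bcP f) (ProEtS.bcP g) (Scheme.ProEt.topology X)
    (Scheme.ProEt.topology Y) (Scheme.ProEt.topology Z)
  let r : ProEtS.pushP g ⋙ ProEtS.pushP f ≅ ProEtS.pushP (g ≫ f) :=
    Functor.sheafPushforwardContinuousComp' e.symm AddCommGrpCat.{u + 1} _ (Scheme.ProEt.topology Y) _
  exact ⟨(Adjunction.leftAdjointUniq (ProEtS.pullPushAdjP (g ≫ f))
    (((ProEtS.pullPushAdjP f).comp (ProEtS.pullPushAdjP g)).ofNatIsoRight r)).app F⟩

/-- restriction along an open immersion is inverse image -/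
def restrPullIso {U : Scheme.{u}} (j : U ⟶ X) [IsOpenImmersion j] [ProEtS.JPCont j] [ProEtS.PCont j] :
    ProEtS.restrP j ≅ ProEtS.pullP j :=
  Adjunction.leftAdjointUniq
    ((MorphismProperty.Over.mapPullbackAdj (@WeaklyEtale) ⊤ j inferInstance trivial : ProEtS.compP j ⊣ ProEtS.bcP j)
      |>.sheafPushforwardContinuous (E := AddCommGrpCat.{u + 1}) (Scheme.ProEt.topology U) (Scheme.ProEt.topology X))
    (ProEtS.pullPushAdjP j)

theorem inIm_extZero {U : Scheme.{u}} (j : U ⟶ X) [IsOpenImmersion j] [ProEtS.JPCont j] {G : ProEtS.AbP U}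
    (h : InIm G) : InIm ((ProEtS.extZeroP j).obj G) := by
  haveI := ProEtLib.epsCont X
  haveI := ProEtLib.epsCont U
  haveI : EtShriek.JCont j := EtFound.jCont j
  obtain ⟨A, ⟨e⟩⟩ := h
  obtain ⟨c⟩ := Groth.Agent.S0743.result j A
  exact ⟨_, ⟨c ≪≫ (ProEtS.extZeroP j).mapIso e⟩⟩

theorem inIm_push {Z : Scheme.{u}} (i : Z ⟶ X) [IsClosedImmersion i] [ProEtS.PCont i]
    (hr : IsRetrocompact (Set.range i.base)ᶜ) {G : ProEtS.AbP Z} (h : InIm G) :
    InIm ((ProEtS.pushP i).obj G) := by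
  haveI := ProEtLib.epsCont X
  haveI := ProEtLib.epsCont Z
  obtain ⟨A, ⟨e⟩⟩ := h
  obtain ⟨α⟩ := exists_epsPull_push_iso i hr
  exact ⟨_, ⟨α.app A ≪≫ (ProEtS.pushP i).mapIso e⟩⟩

theorem inIm_glue {U Z : Scheme.{u}} (j : U ⟶ X) [IsOpenImmersion j] [QuasiCompact j] (i : Z ⟶ X) [IsClosedImmersion i]
    [ProEtS.PCont j] [ProEtS.PCont i]
    (hc : Set.range j.base = (Set.range i.base)ᶜ) {F : ProEtS.AbP X}
    (hU : InIm ((ProEtS.pullP j).obj F)) (hZ : InIm ((ProEtS.pullP i).obj F)) : InIm F := by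
  haveI := jPCont j
  obtain ⟨hz, hex⟩ := CI.shortExact i j hc F
  exact inIm_weakSerre.2 hex (inIm_extZero j (hU.of_iso ((restrPullIso j).app F).symm))
    (inIm_push i (CI.retrocompact i j hc) hZ)

theorem hom_eq_zero_of_restr {ι : Type u} (O : ι → X.Opens) (hO : ∀ x : X, ∃ a, x ∈ O a)
    [∀ a, ProEtS.JPCont (O a).ι] {F G : ProEtS.AbP X} (φ : F ⟶ G)
    (h : ∀ a, (ProEtS.restrP (O a).ι).map φ = 0) : φ = 0 := by
  refine Sheaf.hom_ext (NatTrans.ext (funext fun W => AddCommGrpCat.hom_ext (AddMonoidHom.ext fun x => ?_)))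
  let P : ι → W.unop.left.Opens := fun a => W.unop.hom ⁻¹ᵁ O a
  refine ((isSheaf_iff_isSheaf_of_type _ _).1
    ((Presheaf.isSheaf_iff_isSheaf_forget (Scheme.ProEt.topology X) G.obj (forget AddCommGrpCat.{u + 1})).1 G.2)
    _ (opens_mem_topology W.unop P fun w => hO (W.unop.hom.base w))).isSeparatedFor.ext ?_
  rintro W₀ k ⟨W₁, b, g', ⟨a⟩, rfl⟩
  show G.obj.map (b ≫ opHom W.unop (P a)).op (φ.hom.app W x) = G.obj.map (b ≫ opHom W.unop (P a)).op 0
  rw [op_comp, Functor.map_comp, ConcreteCategory.comp_apply, ConcreteCategory.comp_apply, map_zero]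
  refine congrArg _ ?_
  rw [← NatTrans.naturality_apply φ.hom (opHom W.unop (P a)).op x]
  generalize F.obj.map (opHom W.unop (P a)).op x = z
  let W' := opObj W.unop (P a)
  have hr : Set.range W'.hom.base ⊆ Set.range (O a).ι.base := by
    rintro _ ⟨w, rfl⟩
    rw [Scheme.Opens.range_ι]
    exact w.2
  let l := IsOpenImmersion.lift (O a).ι W'.hom hr
  haveI : WeaklyEtale W'.hom := W'.prop
  haveI : WeaklyEtale (l ≫ (O a).ι) := (IsOpenImmersion.lift_fac (O a).ι W'.hom hr).symm ▸ ‹WeaklyEtale W'.hom›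
  haveI : WeaklyEtale l := WeaklyEtale.of_comp l (O a).ι
  let V : (O a).toScheme.ProEt := Scheme.ProEt.mk l
  let e : (ProEtS.compP (O a).ι).obj V ≅ W' :=
    MorphismProperty.Over.isoMk (Iso.refl W'.left) ((Category.id_comp _).trans (IsOpenImmersion.lift_fac (O a).ι W'.hom hr).symm)
  have hb : φ.hom.app (op ((ProEtS.compP (O a).ι).obj V)) (F.obj.map e.hom.op z) = 0 :=
    congrArg (fun t : (ProEtS.restrP (O a).ι).obj F ⟶ (ProEtS.restrP (O a).ι).obj G => t.hom.app (op V) (F.obj.map e.hom.op z)) (h a)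
  rw [NatTrans.naturality_apply φ.hom] at hb
  have := congrArg (G.obj.map e.inv.op) hb
  rw [map_zero, ← ConcreteCategory.comp_apply, ← Functor.map_comp, ← op_comp, Iso.inv_hom_id, op_id,
    CategoryTheory.Functor.map_id, ConcreteCategory.id_apply] at this
  exact this

theorem inIm_sigma {ι : Type u} (G : ι → ProEtS.AbP X) (h : ∀ a, InIm (G a)) : InIm (∐ G) := by
  haveI := ProEtLib.epsCont X
  choose A e using h
  haveI : (ProEtS.epsPull X).IsLeftAdjoint := (ProEtS.epsAdj X).isLeftAdjoint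
  exact ⟨∐ A, ⟨PreservesCoproduct.iso (ProEtS.epsPull X) A ≪≫ Sigma.mapIso fun a => (e a).some⟩⟩

theorem inIm_of_local {ι : Type u} (O : ι → X.Opens) (hO : ∀ x : X, ∃ a, x ∈ O a)
    [∀ a, ProEtS.PCont (O a).ι] {F : ProEtS.AbP X} (hF : ∀ a, InIm ((ProEtS.pullP (O a).ι).obj F)) : InIm F := by
  haveI := fun a => jPCont (O a).ι
  let S : ProEtS.AbP X → ProEtS.AbP X := fun G => ∐ fun a => (ProEtS.extZeroP (O a).ι).obj ((ProEtS.restrP (O a).ι).obj G)
  let π : ∀ G, S G ⟶ G := fun G => Sigma.desc fun a => (ProEtS.extZeroPAdj (O a).ι).counit.app G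
  have hπ : ∀ G, Epi (π G) := fun G => by
    refine Preadditive.epi_of_cancel_zero _ fun {N} g hg => hom_eq_zero_of_restr O hO g fun a => ?_
    haveI : (ProEtS.restrP (O a).ι).Additive := ⟨rfl⟩
    have h1 := congrArg (Sigma.ι (fun a => (ProEtS.extZeroP (O a).ι).obj ((ProEtS.restrP (O a).ι).obj G)) a ≫ ·) hg
    rw [Sigma.ι_desc_assoc, comp_zero] at h1
    have h2 := congrArg ((ProEtS.extZeroPAdj (O a).ι).homEquiv _ _) h1
    rw [Adjunction.homEquiv_naturality_right, Adjunction.homEquiv_unit, Adjunction.right_triangle_components,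
      Category.id_comp, Adjunction.homEquiv_unit, Functor.map_zero, comp_zero] at h2
    exact h2
  have hS : ∀ G, (∀ a, InIm ((ProEtS.pullP (O a).ι).obj G)) → InIm (S G) := fun G hG =>
    inIm_sigma _ fun a => inIm_extZero (O a).ι ((hG a).of_iso ((restrPullIso (O a).ι).app G).symm)
  have hK : ∀ a, InIm ((ProEtS.pullP (O a).ι).obj (kernel (π F))) := fun a => by
    haveI := CI.pullP_preservesFiniteLimits (O a).ι
    haveI : (ProEtS.pullP (O a).ι).Additive := (ProEtS.pullPushAdjP (O a).ι).left_adjoint_additive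
    exact (inIm_weakSerre.1 ((ProEtS.pullP (O a).ι).map (π F)) ((hS F hF).pull _) (hF a)).1.of_iso
      (PreservesKernel.iso (ProEtS.pullP (O a).ι) (π F)).symm
  haveI := hπ F
  haveI := hπ (kernel (π F))
  exact (inIm_weakSerre.1 (π (kernel (π F)) ≫ kernel.ι (π F)) (hS _ hK) (hS F hF)).2.of_iso
    (cokernelEpiComp _ _ ≪≫ (cokernelIsCokernel (kernel.ι (π F))).coconePointUniqueUpToIso
      (Abelian.epiIsCokernelOfKernel (KernelFork.ofι (kernel.ι (π F)) (kernel.condition (π F))) (kernelIsKernel (π F))))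

theorem inIm_of_pieces : ∀ (n : ℕ) {Y : Scheme.{u}} [CompactSpace Y] [QuasiSeparatedSpace Y] (F : ProEtS.AbP Y)
    (O O' : Fin n → Y.Opens), (∀ k, IsCompact (O k : Set Y)) → (∀ k, IsCompact (O' k : Set Y)) →
    (∀ y : Y, ∃ k, y ∈ O k ∧ y ∉ O' k) →
    (∀ k, ∃ (T : Scheme.{u}) (g : T ⟶ Y) (_ : IsImmersion g) (_ : ProEtS.PCont g),
      Set.range g.base = (O k : Set Y) \ O' k ∧ InIm ((ProEtS.pullP g).obj F)) → InIm F
  | 0, Y, _, _, F, O, O', _, _, hcov, _ =>
    let Z : PEmpty.{u + 1} → Y.Opens := fun a => a.elim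
    haveI : ∀ a, ProEtS.PCont (Z a).ι := fun a => a.elim
    inIm_of_local Z (fun y => (hcov y).choose.elim0) fun a => a.elim
  | n + 1, Y, _, _, F, O, O', hO, hO', hcov, hT => by
    have hqc : ∀ V : Y.Opens, IsCompact (V : Set Y) → QuasiCompact V.ι ∧ CompactSpace V.toScheme ∧ QuasiSeparatedSpace V.toScheme := by
      intro V hV
      have h1 : QuasiCompact V.ι := ⟨fun W hWo hW => by
        refine V.ι.isOpenEmbedding.isInducing.isCompact_iff.2 ?_
        rw [Set.image_preimage_eq_inter_range, Scheme.Opens.range_ι]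
        exact hW.inter_of_isOpen hV hWo V.2⟩
      exact ⟨h1, isCompact_iff_compactSpace.1 hV, quasiSeparatedSpace_of_quasiSeparated V.ι⟩
    -- transport of the pieces other than the first
    have step : ∀ {Y' : Scheme.{u}} (f : Y' ⟶ Y) [QuasiCompact f] [ProEtS.PCont f] [CompactSpace Y'] [QuasiSeparatedSpace Y'],
        (∀ y : Y', f.base y ∉ (O 0 : Set Y) \ O' 0) → InIm ((ProEtS.pullP f).obj F) := by
      intro Y' f _ _ _ _ hf
      refine inIm_of_pieces n _ (fun k => f ⁻¹ᵁ O k.succ) (fun k => f ⁻¹ᵁ O' k.succ)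
        (fun k => IsCompact.preimage_of_isOpen (s := (O k.succ : Set Y)) f.isSpectralMap (hO k.succ) (O k.succ).2)
        (fun k => IsCompact.preimage_of_isOpen (s := (O' k.succ : Set Y)) f.isSpectralMap (hO' k.succ) (O' k.succ).2) (fun y => ?_) fun k => ?_
      · obtain ⟨k, hk⟩ := hcov (f.base y)
        cases k using Fin.cases with
        | zero => exact absurd hk (hf y)
        | succ k => exact ⟨k, hk⟩
      · obtain ⟨T, g, hg, _, hr, hI⟩ := hT k.succ
        haveI := pCont (pullback.fst f g)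
        haveI := pCont (pullback.snd f g)
        haveI := pCont (pullback.fst f g ≫ f)
        haveI := pCont (pullback.snd f g ≫ g)
        refine ⟨pullback f g, pullback.fst f g, MorphismProperty.pullback_fst _ _ hg, inferInstance, ?_, ?_⟩
        · rw [Scheme.Pullback.range_fst, hr]; rfl
        obtain ⟨e₁⟩ := nonempty_pullP_comp (pullback.fst f g) f F
        obtain ⟨e₂⟩ := nonempty_pullP_comp (pullback.snd f g) g F
        refine (hI.pull (pullback.snd f g)).of_iso (e₂.symm ≪≫ ?_ ≪≫ e₁)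
        exact eqToIso (by congr 2 <;> first | exact pullback.condition.symm | exact proof_irrel_heq _ _)
    obtain ⟨hj, hjc, hjq⟩ := hqc (O 0) (hO 0)
    haveI := hj; haveI := hjc; haveI := hjq
    let j := (O 0).ι
    haveI := pCont j
    obtain ⟨Z, i, hi, hir⟩ := EtFound.exists_immersion_range (O 0).2.isClosed_compl.isLocallyClosed
    haveI := hi
    haveI : IsClosedImmersion i := .of_isPreimmersion _ (hir ▸ (O 0).2.isClosed_compl)
    haveI : CompactSpace Z := QuasiCompact.compactSpace_of_compactSpace i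
    haveI : QuasiSeparatedSpace Z := quasiSeparatedSpace_of_quasiSeparated i
    haveI := pCont i
    refine inIm_glue j i (by rw [Scheme.Opens.range_ι, hir, compl_compl]; rfl) ?_
      (step i fun z hz => (hir.le ⟨z, rfl⟩) hz.1)
    -- inside the first open
    let O'' : (O 0).toScheme.Opens := j ⁻¹ᵁ O' 0
    have hO'' : IsCompact (O'' : Set (O 0).toScheme) := IsCompact.preimage_of_isOpen (s := (O' 0 : Set Y)) j.isSpectralMap (hO' 0) (O' 0).2
    obtain ⟨hc'⟩ := (⟨isCompact_iff_compactSpace.1 hO''⟩ : Nonempty (CompactSpace O''.toScheme))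
    haveI := hc'
    haveI : QuasiCompact O''.ι := ⟨fun W hWo hW => by
      refine O''.ι.isOpenEmbedding.isInducing.isCompact_iff.2 ?_
      rw [Set.image_preimage_eq_inter_range, Scheme.Opens.range_ι]
      exact hW.inter_of_isOpen hO'' hWo O''.2⟩
    haveI : QuasiSeparatedSpace O''.toScheme := quasiSeparatedSpace_of_quasiSeparated O''.ι
    haveI := pCont O''.ι
    obtain ⟨T, g, hg, _, hr, hI⟩ := hT 0
    let i' := pullback.fst j g
    haveI : IsImmersion i' := MorphismProperty.pullback_fst _ _ hg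
    have hr' : Set.range i'.base = (O'' : Set (O 0).toScheme)ᶜ := by
      rw [Scheme.Pullback.range_fst, hr]
      ext y
      exact ⟨fun h => h.2, fun h => ⟨y.2, h⟩⟩
    haveI : IsClosedImmersion i' := .of_isPreimmersion _ (hr' ▸ O''.2.isClosed_compl)
    haveI := pCont i'
    haveI := pCont (pullback.snd j g)
    haveI := pCont (pullback.fst j g ≫ j)
    haveI := pCont (pullback.snd j g ≫ g)
    haveI := pCont (O''.ι ≫ j)
    refine inIm_glue O''.ι i' (by rw [Scheme.Opens.range_ι, hr', compl_compl]) ?_ ?_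
    · obtain ⟨e⟩ := nonempty_pullP_comp O''.ι j F
      exact (step (O''.ι ≫ j) fun y hy => hy.2 (y : O''.toScheme).2).of_iso e
    · obtain ⟨e₁⟩ := nonempty_pullP_comp i' j F
      obtain ⟨e₂⟩ := nonempty_pullP_comp (pullback.snd j g) g F
      refine (hI.pull (pullback.snd j g)).of_iso (e₂.symm ≪≫ ?_ ≪≫ e₁)
      exact eqToIso (by congr 2 <;> first | exact pullback.condition.symm | exact proof_irrel_heq _ _)

end Groth.Agent.EtModLib
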