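import Groth.Agent.EtModLib.ModPieces
import Groth.Prelude.Def_SixF2
import Groth.Agent.EtFound.ExtZeroConstr

/-! extensions by zero of constructible sheaves of modules -/

universe u

open CategoryTheory CategoryTheory.Limits AlgebraicGeometry Opposite Topology

noncomputable section

set_option backward.isDefEq.respectTransparency false
set_option backward.isDefEq.respectTransparency.types false

namespace Groth.Agent.EtModLib

open EtFound hiding IsPiece adaptedStrata_of_cover exists_piece_of_good isConstructible_of_pieces bijective_germ_congr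

variable {Λ : Type (u + 1)} [CommRing Λ] {U X : Scheme.{u}} (f : U ⟶ X) [AlgebraicGeometry.Etale f]

/-- stalks of extensions by zero are sums over the points -/
theorem bijective_extZeroMod_sum [EtShriek.JCont f] {Ω : Type u} [Field Ω] [IsSepClosed Ω]
    (ξ : Spec (CommRingCat.of Ω) ⟶ X) (F : EtModW.Mod Λ U) {κ : Type*} [Fintype κ] (e : κ → PtsOver f ξ)
    (he : Function.Bijective e) :
    Function.Bijective fun x : (∀ k, (EtModW.stalk Λ (e k).1).obj F) =>
      ∑ k, extZeroι f ξ F (e k) (x k) := by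
  classical
  haveI := hasProducts_modules Λ
  let St : PtsOver f ξ → ModuleCat.{u + 1} Λ := fun z => (EtModW.stalk Λ z.1).obj F
  letI := Fintype.ofBijective e he
  let hc := extZeroCofanIsColimit f ξ F
  let m := hc.desc (Cofan.mk (ModuleCat.of Λ (∀ z, St z)) fun z =>
    ModuleCat.ofHom (LinearMap.single Λ (fun z => St z) z))
  have hm : ∀ z (x : St z), m (extZeroι f ξ F z x) = Pi.single z x := fun z x =>
    ConcreteCategory.congr_hom (hc.fac _ ⟨z⟩) x
  let φ : (∀ z, St z) → (EtModW.stalk Λ ξ).obj ((EtSix.extZeroMod Λ f).obj F) := fun x => ∑ z, extZeroι f ξ F z (x z)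
  have hφ : Function.Bijective φ := by
    refine ⟨fun x x' h => ?_, fun c => ⟨m c, ?_⟩⟩
    · have h' := congrArg m h
      simp only [φ, map_sum, hm] at h'
      rwa [Finset.univ_sum_single, Finset.univ_sum_single] at h'
    · have hid : m ≫ ModuleCat.ofHom (∑ z, (extZeroι f ξ F z).hom.comp (LinearMap.proj (φ := fun z => St z) z)) = 𝟙 _ := by
        refine hc.hom_ext fun z => ModuleCat.hom_ext (LinearMap.ext fun x => ?_)
        change (∑ z', (extZeroι f ξ F z').hom.comp (LinearMap.proj (φ := fun z => St z) z'))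
          (m (extZeroι f ξ F z.as x)) = extZeroι f ξ F z.as x
        rw [hm, LinearMap.sum_apply, Finset.sum_eq_single z.as]
        · show (extZeroι f ξ F z.as).hom (Pi.single (M := fun z => St z) z.as x z.as) = _
          rw [Pi.single_eq_same]
        · intro b _ hb
          show (extZeroι f ξ F b).hom (Pi.single (M := fun z => St z) z.as x b) = 0
          rw [Pi.single_eq_of_ne hb, map_zero]
        · simp
      refine Eq.trans ?_ (ConcreteCategory.congr_hom hid c)
      show ∑ z, _ = (∑ z, (extZeroι f ξ F z).hom.comp (LinearMap.proj (φ := fun z => St z) z)) (m c)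
      rw [LinearMap.sum_apply]
      rfl
  let E := Equiv.ofBijective e he
  refine Eq.mp (congrArg Function.Bijective (funext fun x => ?_)) (hφ.comp (Equiv.piCongrLeft (fun z => St z) E).bijective)
  show ∑ z, _ = _
  rw [← E.sum_comp]
  refine Finset.sum_congr rfl fun k _ => congrArg (extZeroι f ξ F (e k)) ?_
  exact Equiv.piCongrLeft_apply_apply (fun z => St z) E x k

/-- extensions by zero of constructible sheaves have constructible pieces through all points -/
theorem exists_piece_extZeroMod [IsNoetherianRing Λ] [EtShriek.JCont f] [QuasiCompact f] [QuasiSeparated f]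
    {F : EtModW.Mod Λ U} (hF : EtModW.IsConstructible Λ F) {V : X.Opens} (hV : IsAffineOpen V) (y : X) (hyV : y ∈ V) :
    ∃ E : Set X, y ∈ E ∧ IsPiece ((EtSix.extZeroMod Λ f).obj F) E ∧
      IsConstructible ((Subtype.val : ↥(V : Set X) → X) ⁻¹' E) := by
  classical
  haveI := hasProducts_modules Λ
  obtain ⟨Ω, _, _, ξ, rfl⟩ := exists_geomPoint y
  haveI := finite_ptsOver f ξ
  haveI := Fintype.ofFinite (PtsOver f ξ)
  have hB : ∀ a : PtsOver f ξ, ∃ B : U.Opens, IsAffineOpen B ∧ a.1.base (default : Spec (CommRingCat.of Ω)) ∈ B :=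
    fun a => by
      obtain ⟨B, hB, ha, -⟩ := exists_isAffineOpen_mem_and_subset (U := (⊤ : U.Opens))
        (x := a.1.base (default : Spec (CommRingCat.of Ω))) trivial
      exact ⟨B, hB, ha⟩
  choose B hBa haB using hB
  choose E Wa wa S haE hEc hS hSb using fun a : PtsOver f ξ => exists_sections_stratum hF (hBa a) a.1 (haB a)
  obtain ⟨⟨W, w⟩, hWw⟩ := IsCofiltered.inf_objs_exists (C := (Scheme.pointSmallEtale ξ).fiber.Elements)
    (Finset.univ.image fun a : PtsOver f ξ =>
      (Scheme.pointSmallEtale ξ).fiber.elementsMk ((EtShriek.compEtale f).obj (Wa a)) (extLiftPt a (Wa a) (wa a)))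
  have hr : ∀ a, ∃ r : W ⟶ (EtShriek.compEtale f).obj (Wa a),
      (Scheme.pointSmallEtale ξ).fiber.map r w = extLiftPt a (Wa a) (wa a) := fun a => by
    obtain ⟨g⟩ := hWw (Finset.mem_image_of_mem _ (Finset.mem_univ a))
    exact ⟨g.1, g.2⟩
  choose r hr using hr
  haveI : AlgebraicGeometry.Etale W.hom := W.prop
  let σ : ∀ a, W.left ⟶ U := fun a => ((r a).left : W.left ⟶ (Wa a).left) ≫ (Wa a).hom
  have hσ : ∀ a, σ a ≫ f = W.hom := fun a => (Category.assoc _ _ _).trans (MorphismProperty.Over.w (r a))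
  let wl : Spec (CommRingCat.of Ω) ⟶ W.left := w.left
  have hσw : ∀ a, wl ≫ σ a = a.1 := fun a => by
    refine (Category.assoc _ _ _).symm.trans ?_
    have h := congrArg CommaMorphism.left (hr a)
    exact (congrArg (· ≫ (Wa a).hom) h).trans (CategoryTheory.Over.w (wa a))
  -- the sections
  let G := (EtSix.extZeroMod Λ f).obj F
  let l : ∀ a, S a →ₗ[Λ] G.obj.obj (op W) := fun a =>
    ((((EtShriek.compEtale f).sheafAdjunctionContinuous (ModuleCat.{u + 1} Λ) U.smallEtaleTopology
      X.smallEtaleTopology).unit.app F).hom.app (op (Wa a)) ≫ G.obj.map (r a).op).hom ∘ₗ (S a).subtype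
  haveI : ∀ a, Module.Finite Λ (S a) := fun a => Module.Finite.iff_fg.2 (hS a)
  let L : (∀ a, S a) →ₗ[Λ] G.obj.obj (op W) := ∑ a, (l a) ∘ₗ LinearMap.proj (φ := fun a => S a) a
  have hfg : (LinearMap.range L).FG := Module.Finite.iff_fg.1 inferInstance
  have hσp : ∀ a, (σ a).base (ptOf w) = a.1.base (default : Spec (CommRingCat.of Ω)) := fun a =>
    (Scheme.Hom.comp_apply _ _ _).symm.trans (congrArg (fun h : Spec (CommRingCat.of Ω) ⟶ U => h.base default) (hσw a))
  let O₀ : W.left.Opens := ⟨(W.hom ⁻¹ᵁ V : W.left.Opens) ∩ ⋂ a, (σ a).base ⁻¹' (B a : Set U),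
    (W.hom ⁻¹ᵁ V).2.inter (isOpen_iInter_of_finite fun a => (B a).2.preimage (σ a).continuous)⟩
  obtain ⟨A, hA, hwA, hAO⟩ := exists_isAffineOpen_mem_and_subset (U := O₀) (x := ptOf w)
    ⟨show W.hom.base (ptOf w) ∈ V from Set.mem_of_eq_of_mem (hom_ptOf w) hyV,
      Set.mem_iInter.2 fun a => show (σ a).base (ptOf w) ∈ B a from (hσp a).symm ▸ haB a⟩
  have hAV : A ≤ W.hom ⁻¹ᵁ V := fun x hx => (hAO hx).1
  have hAB : ∀ a, A ≤ (σ a) ⁻¹ᵁ B a := fun a x hx => Set.mem_iInter.1 (hAO hx).2 a
  let val : ↥(A : Set W.left) → W.left := Subtype.val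
  haveI : IsAffine A.toScheme := hA
  haveI : CompactSpace ↥(A : Set W.left) := isCompact_iff_compactSpace.1 hA.isCompact
  haveI : QuasiSeparatedSpace ↥(A : Set W.left) :=
    (isQuasiSeparated_iff_quasiSeparatedSpace _ A.2).1 hA.isQuasiSeparated
  haveI : PrespectralSpace ↥(A : Set W.left) := A.2.isOpenEmbedding_subtypeVal.prespectralSpace
  -- coincidence loci
  let Δ := pullback.diagonal f
  let τ : ∀ _ : {p : PtsOver f ξ × PtsOver f ξ // p.1 ≠ p.2}, W.left ⟶ pullback f f := fun p =>
    pullback.lift (σ p.1.1) (σ p.1.2) ((hσ _).trans (hσ _).symm)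
  have hEc' : ∀ p, IsConstructible (val ⁻¹' ((τ p).base ⁻¹' Set.range Δ.base)) := fun p => by
    let t : A.toScheme ⟶ pullback f f := A.ι ≫ τ p
    haveI : QuasiCompact (pullback.fst t Δ) := MorphismProperty.pullback_fst _ _ (inferInstanceAs (QuasiCompact Δ))
    haveI : CompactSpace ↥(pullback t Δ) := QuasiCompact.compactSpace_of_compactSpace (pullback.fst t Δ)
    have hc : IsCompact (Set.range (pullback.fst t Δ).base) := isCompact_range (pullback.fst t Δ).continuous
    have he : Set.range (pullback.fst t Δ).base = val ⁻¹' ((τ p).base ⁻¹' Set.range Δ.base) := by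
      rw [Scheme.Pullback.range_fst]
      ext q
      exact Iff.of_eq (congrArg (· ∈ Set.range Δ.base) (Scheme.Hom.comp_apply A.ι (τ p) q))
    rw [he] at hc
    have ho : IsOpen (val ⁻¹' ((τ p).base ⁻¹' Set.range Δ.base)) :=
      (Δ.isOpenEmbedding.isOpen_range.preimage (τ p).continuous).preimage continuous_subtype_val
    exact (IsCompact.isRetrocompact hc ho).isConstructible ho
  -- the covering locus
  let P := pullback W.hom f
  let pr : P ⟶ W.left := pullback.fst W.hom f
  haveI : AlgebraicGeometry.Etale pr := MorphismProperty.pullback_fst _ _ ‹AlgebraicGeometry.Etale f›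
  haveI : QuasiCompact pr := MorphismProperty.pullback_fst _ _ ‹QuasiCompact f›
  haveI : QuasiSeparated pr := MorphismProperty.pullback_fst _ _ ‹QuasiSeparated f›
  let sec : PtsOver f ξ → (W.left ⟶ P) := fun a => pullback.lift (𝟙 _) (σ a) ((Category.id_comp _).trans (hσ a).symm)
  have hsec : ∀ a, sec a ≫ pr = 𝟙 _ := fun a => pullback.lift_fst _ _ _
  have hoi : ∀ a, IsOpenImmersion (sec a) := fun a => by
    have : AlgebraicGeometry.Etale (sec a) := EtCoh.etaleMP.of_postcomp (W' := EtCoh.etaleMP) (sec a) pr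
      (inferInstanceAs (AlgebraicGeometry.Etale pr))
      (show AlgebraicGeometry.Etale (sec a ≫ pr) from (hsec a).symm ▸ inferInstance)
    have : Mono (sec a) := mono_of_mono_fac (hsec a)
    exact IsOpenImmersion.of_flat_of_mono (sec a)
  let bad : Set W.left := pr.base '' (⋃ a, Set.range (sec a).base)ᶜ
  have hbad : IsConstructible (val ⁻¹' bad) := by
    refine EtFound.isConstructible_image_over' pr hA ?_
    let O := pr ⁻¹ᵁ A
    haveI : CompactSpace ↥(O : Set P) := isCompact_iff_compactSpace.1 (pr.isCompact_preimage hA.isCompact)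
    haveI : QuasiSeparatedSpace ↥(O : Set P) :=
      quasiSeparatedSpace_of_quasiSeparated (pr ∣_ A)
    haveI : PrespectralSpace ↥(O : Set P) := O.2.isOpenEmbedding_subtypeVal.prespectralSpace
    rw [Set.preimage_compl, Set.preimage_iUnion]
    refine (IsConstructible.iUnion fun a => ?_).compl
    have := hoi a
    have e : (Subtype.val : ↥(O : Set P) → P) ⁻¹' Set.range (sec a).base =
        Subtype.val ⁻¹' ((sec a).base '' (A : Set W.left)) := by
      ext q
      refine ⟨?_, fun ⟨x, _, hx⟩ => ⟨x, hx⟩⟩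
      rintro ⟨x, hx⟩
      refine ⟨x, ?_, hx⟩
      have h1 : pr.base q.1 ∈ A := q.2
      rw [← hx, ← Scheme.Hom.comp_apply, hsec a] at h1
      exact h1
    rw [e]
    have ho : IsOpen ((Subtype.val : ↥(O : Set P) → P) ⁻¹' ((sec a).base '' (A : Set W.left))) :=
      ((sec a).isOpenEmbedding.isOpenMap _ A.2).preimage continuous_subtype_val
    refine (IsCompact.isRetrocompact ?_ ho).isConstructible ho
    rw [IsInducing.subtypeVal.isCompact_iff, Set.image_preimage_eq_of_subset]
    · exact hA.isCompact.image (sec a).continuous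
    · rintro _ ⟨x, hx, rfl⟩
      refine ⟨⟨(sec a).base x, ?_⟩, rfl⟩
      show pr.base ((sec a).base x) ∈ A
      rw [← Scheme.Hom.comp_apply, hsec a]
      exact hx
  let Good : Set ↥(A : Set W.left) := ((⋂ p, (val ⁻¹' ((τ p).base ⁻¹' Set.range Δ.base))ᶜ) ∩ (val ⁻¹' bad)ᶜ) ∩
    ⋂ a, val ⁻¹' ((σ a).base ⁻¹' E a)
  refine exists_piece_of_good hV w hA hAV hwA (LinearMap.range L) hfg (Good := Good)
    (((IsConstructible.iInter fun p => (hEc' p).compl).inter hbad.compl).inter
      (IsConstructible.iInter fun a => isConstructible_preimage_affine (σ a) hA (hBa a) (hAB a) (hEc a))) ?_ ?_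
  · refine ⟨⟨Set.mem_iInter.2 fun p => ?_, ?_⟩, Set.mem_iInter.2 fun a => ?_⟩
    · intro hq
      refine p.2 (Subtype.ext ?_)
      obtain ⟨l, hl⟩ : ∃ l : Spec (CommRingCat.of Ω) ⟶ U, l ≫ Δ = wl ≫ τ p := by
        refine ⟨IsOpenImmersion.lift Δ (wl ≫ τ p) ?_, IsOpenImmersion.lift_fac _ _ _⟩
        rintro _ ⟨x, rfl⟩
        rw [Subsingleton.elim (α := Spec (CommRingCat.of Ω)) x default, Scheme.Hom.comp_apply]
        exact hq
      have h1 := congrArg (· ≫ pullback.fst f f) hl
      have h2 := congrArg (· ≫ pullback.snd f f) hl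
      simp only [Category.assoc, Δ, τ, pullback.diagonal_fst, pullback.diagonal_snd, Category.comp_id,
        pullback.lift_fst, pullback.lift_snd] at h1 h2
      exact (hσw _).symm.trans (h1.symm.trans (h2.trans (hσw _)))
    · rintro ⟨q, hq, hqw⟩
      let P' : W.left.Etale := Scheme.Etale.mk pr
      obtain ⟨v, hv⟩ := Scheme.pointSmallEtaleFiberObjToPreimage_surjective wl rfl P' ⟨q, hqw⟩
      let vl : Spec (CommRingCat.of Ω) ⟶ P := v.left
      have hvfst : vl ≫ pr = wl := CategoryTheory.Over.w v
      have hvq : vl.base (default : Spec (CommRingCat.of Ω)) = q := congrArg Subtype.val hv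
      have hsnd : (vl ≫ pullback.snd W.hom f) ≫ f = ξ := (Category.assoc _ _ _).trans
        ((congrArg (vl ≫ ·) pullback.condition.symm).trans ((Category.assoc _ _ _).symm.trans
          ((congrArg (· ≫ W.hom) hvfst).trans (CategoryTheory.Over.w w))))
      let a : PtsOver f ξ := ⟨_, hsnd⟩
      have e : vl = wl ≫ sec a := pullback.hom_ext
        (hvfst.trans (((congrArg (wl ≫ ·) (hsec a)).trans (Category.comp_id _)).symm.trans (Category.assoc _ _ _).symm))
        ((hσw a).symm.trans ((congrArg (wl ≫ ·) (pullback.lift_snd _ _ _).symm).trans (Category.assoc _ _ _).symm))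
      refine hq (Set.mem_iUnion.2 ⟨a, wl.base default, ?_⟩)
      rw [← Scheme.Hom.comp_apply, ← e]
      exact hvq
    · show (σ a).base (ptOf w) ∈ E a
      exact (hσp a).symm ▸ haE a
  intro k _ _ η z ⟨q, ⟨⟨hqE, hqB⟩, hqS⟩, hqz⟩
  let zl : Spec (CommRingCat.of k) ⟶ W.left := z.left
  let v : ∀ a, (Scheme.pointSmallEtale η).fiber.obj ((EtShriek.compEtale f).obj (Wa a)) := fun a =>
    (Scheme.pointSmallEtale η).fiber.map (r a) z
  let Y : PtsOver f ξ → PtsOver f η := fun a => projPt (Wa a) (v a)
  have hYv : ∀ a, (Y a).1 = zl ≫ σ a := fun a => Category.assoc zl _ _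
  have hY : Function.Bijective Y := by
    refine ⟨fun a b hab => by_contra fun hne => Set.mem_iInter.1 hqE ⟨(a, b), hne⟩ ?_, fun y' => ?_⟩
    · have e : zl ≫ σ a = zl ≫ σ b := (hYv a).symm.trans ((congrArg Subtype.val hab).trans (hYv b))
      have e' : zl ≫ τ ⟨(a, b), hne⟩ = (zl ≫ σ a) ≫ Δ := pullback.hom_ext
        ((Category.assoc _ _ _).trans ((congrArg (zl ≫ ·) (pullback.lift_fst _ _ _)).trans
          (((congrArg ((zl ≫ σ a) ≫ ·) (pullback.diagonal_fst f)).trans (Category.comp_id _)).symm.trans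
            (Category.assoc _ _ _).symm)))
        ((Category.assoc _ _ _).trans ((congrArg (zl ≫ ·) (pullback.lift_snd _ _ _)).trans
          (e.symm.trans (((congrArg ((zl ≫ σ a) ≫ ·) (pullback.diagonal_snd f)).trans (Category.comp_id _)).symm.trans
            (Category.assoc _ _ _).symm))))
      refine ⟨(zl ≫ σ a).base (default : Spec (CommRingCat.of k)), ?_⟩
      show Δ.base _ = (τ _).base (val q)
      rw [← Scheme.Hom.comp_apply, ← e']
      exact (Scheme.Hom.comp_apply _ _ _).trans (congrArg (τ _).base hqz.symm)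
    · let M : Spec (CommRingCat.of k) ⟶ P := pullback.lift zl y'.1 ((CategoryTheory.Over.w z).trans y'.2.symm)
      have hM : M.base (default : Spec (CommRingCat.of k)) ∈ ⋃ a, Set.range (sec a).base := by
        by_contra h
        refine hqB ⟨_, h, ?_⟩
        exact (Scheme.Hom.comp_apply _ _ _).symm.trans ((congrArg (fun r : Spec (CommRingCat.of k) ⟶ W.left =>
          r.base (default : Spec (CommRingCat.of k))) (pullback.lift_fst _ _ _)).trans hqz.symm)
      obtain ⟨a, ha⟩ := Set.mem_iUnion.1 hM
      have := hoi a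
      have hr : Set.range M.base ⊆ Set.range (sec a).base := by
        rintro _ ⟨x, rfl⟩
        rw [Subsingleton.elim (α := Spec (CommRingCat.of k)) x default]
        exact ha
      have h1 := IsOpenImmersion.lift_fac (sec a) M hr
      have h2 := congrArg (· ≫ pr) h1
      simp only [Category.assoc, hsec, Category.comp_id] at h2
      have h3 : IsOpenImmersion.lift (sec a) M hr = zl := h2.trans (pullback.lift_fst _ _ _)
      rw [h3] at h1
      refine ⟨a, Subtype.ext ((hYv a).trans ?_)⟩
      exact (((congrArg (zl ≫ ·) (pullback.lift_snd _ _ _).symm).trans (Category.assoc _ _ _).symm).trans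
        (congrArg (· ≫ pullback.snd W.hom f) h1)).trans (pullback.lift_snd _ _ _)
  haveI := Fintype.ofBijective Y hY
  let g : ∀ a, S a → (EtModW.stalk Λ (Y a).1).obj F := fun a s =>
    germ (Y a).1 (projElt (Wa a) (v a)) F s.1
  have hYE : ∀ a, (Wa a).hom.base (ptOf (projElt (Wa a) (v a))) ∈ E a := fun a => by
    refine Set.mem_of_eq_of_mem ?_ (Set.mem_iInter.1 hqS a)
    refine (hom_ptOf _).trans ((congrArg (fun h : Spec (CommRingCat.of k) ⟶ U => h.base default) (hYv a)).trans ?_)
    exact (Scheme.Hom.comp_apply _ _ _).trans (congrArg (σ a).base hqz.symm)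
  have hg : Function.Bijective fun c : (∀ a, S a) => fun a => g a (c a) :=
    ⟨fun c c' h => funext fun a => (hSb a k (Y a).1 _ (hYE a)).1 (congrFun h a), fun x => by
      choose c hc using fun a => (hSb a k (Y a).1 _ (hYE a)).2 (x a)
      exact ⟨c, funext hc⟩⟩
  let T := fun t : LinearMap.range L => germ η z G t.1
  have hL : ∀ a (s : S a), germ η z G (l a s) = extZeroι f η F (Y a) (g a s) := fun a s => by
    refine (germ_map η (r a) z G _).trans ?_
    refine Eq.trans ?_ (ConcreteCategory.congr_hom (extZeroι_germ f η F (Y a) (Wa a) (projElt (Wa a) (v a))) s.1).symm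
    show _ = germ η (extLiftPt (Y a) (Wa a) (projElt (Wa a) (v a))) G _
    rw [extLiftPt_projElt]
    rfl
  have hT : Function.Bijective (T ∘ L.rangeRestrict) := by
    refine Eq.mp (congrArg Function.Bijective (funext fun c => ?_)) ((bijective_extZeroMod_sum f η F Y hY).comp hg)
    show ∑ a, _ = germ η z G (L c)
    rw [LinearMap.sum_apply, map_sum]
    exact Finset.sum_congr rfl fun a _ => (hL a (c a)).symm
  exact ⟨Function.Injective.of_comp_right hT.1 L.surjective_rangeRestrict, Function.Surjective.of_comp hT.2⟩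

/-- extensions by zero of constructible sheaves of modules along quasi-compact quasi-separated etale morphisms -/
theorem isConstructible_extZeroMod [IsNoetherianRing Λ] [EtShriek.JCont f] [QuasiCompact f] [QuasiSeparated f]
    {F : EtModW.Mod Λ U} (hF : EtModW.IsConstructible Λ F) :
    EtModW.IsConstructible Λ ((EtSix.extZeroMod Λ f).obj F) :=
  isConstructible_of_pieces fun _ hV y hy => exists_piece_extZeroMod f hF hV y hy

end Groth.Agent.EtModLib
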