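import Groth.Prelude.Def_EtMod2
import Groth.Agent.EtFound.LocConst
import Groth.Agent.EtFound.FLCAb
import Groth.Agent.EtFound.Stalk
import Mathlib.RingTheory.Noetherian.Basic

/-! Locally constant sheaves of modules of finite type, in terms of submodules of sections. -/

universe u

open CategoryTheory CategoryTheory.Limits AlgebraicGeometry Opposite

noncomputable section

set_option backward.isDefEq.respectTransparency false
set_option backward.isDefEq.respectTransparency.types false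

namespace Groth.Agent.EtModLib

open EtFound

variable {Λ : Type (u + 1)} [CommRing Λ] {X : Scheme.{u}}

instance preservesFilteredColimits_forget :
    PreservesFilteredColimitsOfSize.{u, u} (forget (ModuleCat.{u + 1} Λ)) :=
  preservesFilteredColimitsOfSize_of_univLE.{u + 1, u + 1, u, u} _

/-- The germ of a section, as a linear map. -/
abbrev germ {Ω : Type u} [Field Ω] [IsSepClosed Ω] (ξ : Spec (CommRingCat.of Ω) ⟶ X) {U : X.Etale}
    (z : (Scheme.pointSmallEtale ξ).fiber.obj U) (F : EtModW.Mod Λ X) :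
    F.obj.obj (op U) →ₗ[Λ] (EtModW.stalk Λ ξ).obj F :=
  ((Scheme.pointSmallEtale ξ).toPresheafFiber U z F.obj).hom

theorem germ_map {Ω : Type u} [Field Ω] [IsSepClosed Ω] (ξ : Spec (CommRingCat.of Ω) ⟶ X) {U V : X.Etale}
    (g : V ⟶ U) (z : (Scheme.pointSmallEtale ξ).fiber.obj V) (F : EtModW.Mod Λ X) (x : F.obj.obj (op U)) :
    germ ξ z F (F.obj.map g.op x) = germ ξ ((Scheme.pointSmallEtale ξ).fiber.map g z) F x :=
  (Scheme.pointSmallEtale ξ).toPresheafFiber_w_apply g z F.obj x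

theorem germ_app {Ω : Type u} [Field Ω] [IsSepClosed Ω] (ξ : Spec (CommRingCat.of Ω) ⟶ X) {U : X.Etale}
    (z : (Scheme.pointSmallEtale ξ).fiber.obj U) {F G : EtModW.Mod Λ X} (f : F ⟶ G) (x : F.obj.obj (op U)) :
    ((EtModW.stalk Λ ξ).map f).hom (germ ξ z F x) = germ ξ z G (f.hom.app (op U) x) :=
  (Scheme.pointSmallEtale ξ).toPresheafFiber_naturality_apply f.hom U z x

theorem exists_germ {Ω : Type u} [Field Ω] [IsSepClosed Ω] (ξ : Spec (CommRingCat.of Ω) ⟶ X)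
    {F : EtModW.Mod Λ X} (c : (EtModW.stalk Λ ξ).obj F) :
    ∃ (V : X.Etale) (v : (Scheme.pointSmallEtale ξ).fiber.obj V) (x : F.obj.obj (op V)), germ ξ v F x = c :=
  (Scheme.pointSmallEtale ξ).toPresheafFiber_jointly_surjective c

theorem germ_eq_iff {Ω : Type u} [Field Ω] [IsSepClosed Ω] (ξ : Spec (CommRingCat.of Ω) ⟶ X) {U : X.Etale}
    (z : (Scheme.pointSmallEtale ξ).fiber.obj U) (F : EtModW.Mod Λ X) (x y : F.obj.obj (op U)) :
    germ ξ z F x = germ ξ z F y ↔ ∃ (V : X.Etale) (g : V ⟶ U) (v : (Scheme.pointSmallEtale ξ).fiber.obj V),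
      (Scheme.pointSmallEtale ξ).fiber.map g v = z ∧ F.obj.map g.op x = F.obj.map g.op y :=
  (Scheme.pointSmallEtale ξ).toPresheafFiber_eq_iff' U z x y

section Exact

theorem injective_stalk {F G : EtModW.Mod Λ X} (f : F ⟶ G) [Mono f] {Ω : Type u} [Field Ω] [IsSepClosed Ω]
    (ξ : Spec (CommRingCat.of Ω) ⟶ X) : Function.Injective ((EtModW.stalk Λ ξ).map f).hom := by
  haveI : Presheaf.IsLocallyInjective X.smallEtaleTopology f.hom := by
    haveI : Mono f.hom := (sheafToPresheaf _ _).map_mono f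
    exact Presheaf.isLocallyInjective_of_injective _ _ fun U =>
      ConcreteCategory.injective_of_mono_of_preservesPullback (f.hom.app U)
  exact (Scheme.pointSmallEtale ξ).toPresheafFiber_map_injective f.hom

theorem surjective_stalk {F G : EtModW.Mod Λ X} (f : F ⟶ G) [Epi f] {Ω : Type u} [Field Ω] [IsSepClosed Ω]
    (ξ : Spec (CommRingCat.of Ω) ⟶ X) : Function.Surjective ((EtModW.stalk Λ ξ).map f).hom := by
  haveI : Presheaf.IsLocallySurjective X.smallEtaleTopology f.hom :=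
    (Sheaf.isLocallySurjective_iff_epi' _ f).2 inferInstance
  exact (Scheme.pointSmallEtale ξ).toPresheafFiber_map_surjective f.hom

theorem injective_app {F G : EtModW.Mod Λ X} (f : F ⟶ G) [Mono f] (U : X.Etale) :
    Function.Injective (f.hom.app (op U)) := by
  haveI : Mono f.hom := (sheafToPresheaf _ _).map_mono f
  exact ConcreteCategory.injective_of_mono_of_preservesPullback (f.hom.app (op U))

theorem exists_app_eq {S : ShortComplex (EtModW.Mod Λ X)} (hS : S.Exact) [Mono S.f] (U : X.Etale)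
    (x : S.X₂.obj.obj (op U)) (hx : S.g.hom.app (op U) x = 0) : ∃ k, S.f.hom.app (op U) k = x := by
  let Γ := sheafToPresheaf X.smallEtaleTopology (ModuleCat.{u + 1} Λ) ⋙ (evaluation _ _).obj (op U)
  have h := hS.map_of_mono_of_preservesKernel Γ inferInstance inferInstance
  rw [ShortComplex.moduleCat_exact_iff] at h
  exact h x hx

theorem exact_stalk {S : ShortComplex (EtModW.Mod Λ X)} (hS : S.Exact) {Ω : Type u} [Field Ω] [IsSepClosed Ω]
    (ξ : Spec (CommRingCat.of Ω) ⟶ X) (c : (EtModW.stalk Λ ξ).obj S.X₂)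
    (hc : ((EtModW.stalk Λ ξ).map S.g).hom c = 0) :
    ∃ d, ((EtModW.stalk Λ ξ).map S.f).hom d = c := by
  haveI : Epi (kernel.lift S.g S.f S.zero) := hS.epi_kernelLift
  suffices h : ∃ t, ((EtModW.stalk Λ ξ).map (kernel.ι S.g)).hom t = c by
    obtain ⟨t, ht⟩ := h
    obtain ⟨d, rfl⟩ := surjective_stalk (kernel.lift S.g S.f S.zero) ξ t
    refine ⟨d, ?_⟩
    rw [← ht]
    show _ = (((EtModW.stalk Λ ξ).map (kernel.lift S.g S.f S.zero) ≫ (EtModW.stalk Λ ξ).map (kernel.ι S.g))).hom d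
    rw [← Functor.map_comp, kernel.lift_ι]
  obtain ⟨V, v, x, rfl⟩ := exists_germ ξ c
  rw [germ_app, ← map_zero (germ ξ v S.X₃)] at hc
  obtain ⟨W, g, w, hw, hg⟩ := (germ_eq_iff ξ v _ _ _).1 hc
  rw [map_zero] at hg
  obtain ⟨k, hk⟩ := exists_app_eq (S := ShortComplex.mk (kernel.ι S.g) S.g (kernel.condition _))
    (ShortComplex.exact_of_f_is_kernel _ (kernelIsKernel _)) W (S.X₂.obj.map g.op x)
    ((NatTrans.naturality_apply S.g.hom g.op x).trans hg)
  refine ⟨germ ξ w _ k, ?_⟩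
  rw [germ_app, hk, germ_map, hw]

theorem app_zero_apply {S : ShortComplex (EtModW.Mod Λ X)} (U : X.Etale) (x : S.X₁.obj.obj (op U)) :
    S.g.hom.app (op U) (S.f.hom.app (op U) x) = 0 :=
  congr(($(S.zero)).hom.app (op U) x)

theorem stalk_zero_apply {S : ShortComplex (EtModW.Mod Λ X)} {Ω : Type u} [Field Ω] [IsSepClosed Ω]
    (ξ : Spec (CommRingCat.of Ω) ⟶ X) (c : (EtModW.stalk Λ ξ).obj S.X₁) :
    ((EtModW.stalk Λ ξ).map S.g).hom (((EtModW.stalk Λ ξ).map S.f).hom c) = 0 := by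
  obtain ⟨V, v, x, rfl⟩ := exists_germ ξ c
  rw [germ_app, germ_app, app_zero_apply, map_zero]

end Exact

/-- A finitely generated module of sections inducing all geometric stalks over `U`. -/
def FTConst (F : EtModW.Mod Λ X) (U : X.Etale) (S : Submodule Λ (F.obj.obj (op U))) : Prop :=
  S.FG ∧ ∀ (Ω : Type u) [Field Ω] [IsAlgClosed Ω] (ξ : Spec (CommRingCat.of Ω) ⟶ X)
    (z : (Scheme.pointSmallEtale ξ).fiber.obj U), Function.Bijective fun s : S => germ ξ z F s.1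

theorem FTConst.eq_of_germ {F : EtModW.Mod Λ X} {U : X.Etale} {S : Submodule Λ (F.obj.obj (op U))}
    (h : FTConst F U S) {Ω : Type u} [Field Ω] [IsAlgClosed Ω] {ξ : Spec (CommRingCat.of Ω) ⟶ X}
    (z : (Scheme.pointSmallEtale ξ).fiber.obj U) {x y : F.obj.obj (op U)} (hx : x ∈ S) (hy : y ∈ S)
    (e : germ ξ z F x = germ ξ z F y) : x = y :=
  congrArg Subtype.val ((h.2 Ω ξ z).1 (a₁ := ⟨x, hx⟩) (a₂ := ⟨y, hy⟩) e)

theorem FTConst.exists_germ {F : EtModW.Mod Λ X} {U : X.Etale} {S : Submodule Λ (F.obj.obj (op U))}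
    (h : FTConst F U S) {Ω : Type u} [Field Ω] [IsAlgClosed Ω] {ξ : Spec (CommRingCat.of Ω) ⟶ X}
    (z : (Scheme.pointSmallEtale ξ).fiber.obj U) (c : (EtModW.stalk Λ ξ).obj F) :
    ∃ x ∈ S, germ ξ z F x = c := by
  obtain ⟨⟨x, hx⟩, rfl⟩ := (h.2 Ω ξ z).2 c
  exact ⟨x, hx, rfl⟩

theorem FTConst.restrict {F : EtModW.Mod Λ X} {U : X.Etale} {S : Submodule Λ (F.obj.obj (op U))}
    (h : FTConst F U S) {V : X.Etale} (g : V ⟶ U) : FTConst F V (S.map (F.obj.map g.op).hom) := by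
  refine ⟨h.1.map _, fun Ω _ _ ξ z => ⟨fun a b e => Subtype.ext ?_, fun c => ?_⟩⟩
  · obtain ⟨a₀, ha, ha'⟩ := a.2
    obtain ⟨b₀, hb, hb'⟩ := b.2
    rw [← ha', ← hb', h.eq_of_germ ((Scheme.pointSmallEtale ξ).fiber.map g z) ha hb]
    have e' : germ ξ z F a.1 = germ ξ z F b.1 := e
    rw [← ha', ← hb'] at e'
    exact (germ_map ξ g z F a₀).symm.trans (e'.trans (germ_map ξ g z F b₀))
  · obtain ⟨x, hx, rfl⟩ := h.exists_germ ((Scheme.pointSmallEtale ξ).fiber.map g z) c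
    exact ⟨⟨_, Submodule.mem_map_of_mem hx⟩, germ_map ξ g z F x⟩

theorem ftConst_range {F : EtModW.Mod Λ X} {U : X.Etale} {M : ModuleCat.{u + 1} Λ} [Module.Finite Λ M]
    {φ : M ⟶ F.obj.obj (op U)} (h : ConstBy F φ) : FTConst F U (LinearMap.range φ.hom) := by
  refine ⟨Module.Finite.iff_fg.1 inferInstance, fun Ω _ _ ξ z => ⟨fun a b e => Subtype.ext ?_, fun c => ?_⟩⟩
  · obtain ⟨a₀, ha⟩ := a.2
    obtain ⟨b₀, hb⟩ := b.2
    rw [← ha, ← hb]
    have e' : germ ξ z F a.1 = germ ξ z F b.1 := e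
    rw [← ha, ← hb] at e'
    exact congrArg φ.hom ((h Ω ξ z).1 e')
  · obtain ⟨m, hm⟩ := (h Ω ξ z).2 c
    exact ⟨⟨φ.hom m, m, rfl⟩, hm⟩

/-- The inclusion of a module of sections. -/
abbrev incl (F : EtModW.Mod Λ X) (U : X.Etale) (S : Submodule Λ (F.obj.obj (op U))) :
    ModuleCat.of Λ S ⟶ F.obj.obj (op U) := ModuleCat.ofHom S.subtype

theorem FTConst.constBy {F : EtModW.Mod Λ X} {U : X.Etale} {S : Submodule Λ (F.obj.obj (op U))}
    (h : FTConst F U S) : ConstBy F (incl F U S) := fun Ω _ _ ξ z => h.2 Ω ξ z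

theorem isFTLocConst_iff (F : EtModW.Mod Λ X) :
    EtModW.IsFTLocConst Λ F ↔ ∀ x : X, ∃ (U : X.Etale) (p : U.left), U.hom.base p = x ∧ ∃ S, FTConst F U S := by
  refine ⟨fun ⟨ι, U, hU, h⟩ x => ?_, fun h => ?_⟩
  · obtain ⟨i, p, hp⟩ := hU x
    obtain ⟨M, iM, mM, fM, ⟨e⟩⟩ := h i
    obtain ⟨φ, hφ⟩ := exists_constBy e
    exact ⟨U i, p, hp, _, ftConst_range hφ⟩
  · choose U p hp S hS using h
    refine ⟨X, U, fun x => ⟨x, p x, hp x⟩, fun x => ?_⟩
    exact ⟨S x, inferInstance, inferInstance, Module.Finite.iff_fg.2 (hS x).1,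
      nonempty_restr_iso_const (hS x).constBy⟩

theorem exists_common {F G : EtModW.Mod Λ X} (hF : EtModW.IsFTLocConst Λ F)
    (hG : EtModW.IsFTLocConst Λ G) (x : X) :
    ∃ (Ω : Type u) (_ : Field Ω) (_ : IsAlgClosed Ω) (ξ : Spec (CommRingCat.of Ω) ⟶ X) (U : X.Etale)
      (_ : (Scheme.pointSmallEtale ξ).fiber.obj U) (S : Submodule Λ (F.obj.obj (op U)))
      (R : Submodule Λ (G.obj.obj (op U))),
      ξ.base (default : Spec (CommRingCat.of Ω)) = x ∧ FTConst F U S ∧ FTConst G U R := by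
  obtain ⟨U₁, p₁, hp₁, S, hS⟩ := (isFTLocConst_iff F).1 hF x
  obtain ⟨U₂, p₂, hp₂, R, hR⟩ := (isFTLocConst_iff G).1 hG x
  obtain ⟨Ω, _, _, ξ, u₁, hu₁⟩ := exists_algClosed_point U₁ p₁
  have hξ : ξ.base (default : Spec (CommRingCat.of Ω)) = x :=
    (base_of_point u₁).symm.trans ((congrArg _ hu₁).trans hp₁)
  obtain ⟨u₂, -⟩ := Scheme.pointSmallEtaleFiberObjToPreimage_surjective ξ hξ U₂ ⟨p₂, hp₂⟩
  obtain ⟨⟨W, w⟩, ⟨a, -⟩, ⟨b, -⟩, -⟩ := IsCofilteredOrEmpty.cone_objs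
    ((Scheme.pointSmallEtale ξ).fiber.elementsMk U₁ u₁) ((Scheme.pointSmallEtale ξ).fiber.elementsMk U₂ u₂)
  exact ⟨Ω, inferInstance, inferInstance, ξ, W, w, _, _, hξ, hS.restrict a, hR.restrict b⟩

/-- Near a point, a map sends one module of sections into another one. -/
theorem exists_map_le {F G : EtModW.Mod Λ X} (φ : F ⟶ G) {Ω : Type u} [Field Ω] [IsAlgClosed Ω]
    {ξ : Spec (CommRingCat.of Ω) ⟶ X} {U : X.Etale} (u : (Scheme.pointSmallEtale ξ).fiber.obj U)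
    {P : Submodule Λ (F.obj.obj (op U))} {R : Submodule Λ (G.obj.obj (op U))} (hP : FTConst F U P)
    (hR : FTConst G U R) :
    ∃ (V : X.Etale) (g : V ⟶ U) (v : (Scheme.pointSmallEtale ξ).fiber.obj V),
      (Scheme.pointSmallEtale ξ).fiber.map g v = u ∧
      ∀ p ∈ P.map (F.obj.map g.op).hom, φ.hom.app (op V) p ∈ R.map (G.obj.map g.op).hom := by
  obtain ⟨n, s, hs⟩ := Submodule.fg_iff_exists_fin_generating_family.1 hP.1
  choose r hr hr' using fun i : Fin n => hR.exists_germ u (germ ξ u G (φ.hom.app (op U) (s i)))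
  obtain ⟨V, g, v, hv, hg⟩ := exists_forall_eq G.obj u (fun i : ULift.{u} (Fin n) => r i.down)
    (fun i => φ.hom.app (op U) (s i.down)) (fun i => hr' i.down)
  refine ⟨V, g, v, hv, fun p hp => ?_⟩
  suffices h : P.map (F.obj.map g.op).hom ≤ (R.map (G.obj.map g.op).hom).comap (φ.hom.app (op V)).hom from h hp
  rw [← hs, Submodule.map_span, Submodule.span_le]
  rintro _ ⟨_, ⟨i, rfl⟩, rfl⟩
  exact ⟨r i, hr i, ((NatTrans.naturality_apply φ.hom g.op (s i)).trans (hg ⟨i⟩).symm).symm⟩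

theorem isFTLocConst_kernel [IsNoetherianRing Λ] {S : ShortComplex (EtModW.Mod Λ X)} [Mono S.f] (hS : S.Exact)
    (h2 : EtModW.IsFTLocConst Λ S.X₂) (h3 : EtModW.IsFTLocConst Λ S.X₃) : EtModW.IsFTLocConst Λ S.X₁ := by
  rw [isFTLocConst_iff]
  intro x
  obtain ⟨Ω, _, _, ξ, U, u, P, R, hξ, hP, hR⟩ := exists_common h2 h3 x
  obtain ⟨V, g, v, hv, hle⟩ := exists_map_le S.g u hP hR
  have hP' := hP.restrict g
  have hR' := hR.restrict g
  let i := (S.f.hom.app (op V)).hom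
  have hi : Function.Injective i := injective_app S.f V
  refine ⟨V, _, (base_of_point v).trans hξ, (P.map (S.X₂.obj.map g.op).hom).comap i, ?_, fun Ω' _ _ ζ z => ?_⟩
  · refine Submodule.fg_of_fg_map_injective i hi ?_
    rw [Submodule.map_comap_eq]
    exact Submodule.FG.of_le hP'.1 inf_le_right
  · refine ⟨fun a b e => Subtype.ext (hi (hP'.eq_of_germ z a.2 b.2 ?_)), fun c => ?_⟩
    · show germ ζ z S.X₂ (S.f.hom.app (op V) a.1) = germ ζ z S.X₂ (S.f.hom.app (op V) b.1)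
      rw [← germ_app, ← germ_app]
      exact congrArg _ e
    · obtain ⟨s, hs, hsc⟩ := hP'.exists_germ z (((EtModW.stalk Λ ζ).map S.f).hom c)
      have h0 : S.g.hom.app (op V) s = 0 := hR'.eq_of_germ z (hle s hs) (Submodule.zero_mem _) (by
        rw [← germ_app, hsc, stalk_zero_apply, map_zero])
      obtain ⟨k, rfl⟩ := exists_app_eq hS V s h0
      exact ⟨⟨k, hs⟩, injective_stalk S.f ζ ((germ_app ζ z S.f k).trans hsc)⟩

theorem isFTLocConst_cokernel {S : ShortComplex (EtModW.Mod Λ X)} [Epi S.g] (hS : S.Exact)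
    (h1 : EtModW.IsFTLocConst Λ S.X₁) (h2 : EtModW.IsFTLocConst Λ S.X₂) : EtModW.IsFTLocConst Λ S.X₃ := by
  rw [isFTLocConst_iff]
  intro x
  obtain ⟨Ω, _, _, ξ, U, u, P, R, hξ, hP, hR⟩ := exists_common h1 h2 x
  obtain ⟨V, g, v, hv, hle⟩ := exists_map_le S.f u hP hR
  have hP' := hP.restrict g
  have hR' := hR.restrict g
  refine ⟨V, _, (base_of_point v).trans hξ, (R.map (S.X₂.obj.map g.op).hom).map (S.g.hom.app (op V)).hom,
    hR'.1.map _, fun Ω' _ _ ζ z => ⟨fun a b e => Subtype.ext ?_, fun q => ?_⟩⟩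
  · obtain ⟨t, ht, ht'⟩ := a.2
    obtain ⟨t', ht₂, ht₂'⟩ := b.2
    have h0 : ((EtModW.stalk Λ ζ).map S.g).hom (germ ζ z S.X₂ (t - t')) = 0 := by
      rw [germ_app, map_sub, map_sub, sub_eq_zero]
      show germ ζ z S.X₃ ((S.g.hom.app (op V)).hom t) = germ ζ z S.X₃ ((S.g.hom.app (op V)).hom t')
      rw [ht', ht₂']
      exact e
    obtain ⟨y, hy⟩ := exact_stalk hS ζ _ h0
    obtain ⟨p, hp, rfl⟩ := hP'.exists_germ z y
    rw [germ_app] at hy
    have e2 := hR'.eq_of_germ z (hle p hp) (Submodule.sub_mem _ ht ht₂) hy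
    have e3 : (S.g.hom.app (op V)).hom (S.f.hom.app (op V) p) = 0 := app_zero_apply V p
    rw [e2, map_sub, sub_eq_zero, ht', ht₂'] at e3
    exact e3
  · obtain ⟨y, rfl⟩ := surjective_stalk S.g ζ q
    obtain ⟨t, ht, rfl⟩ := hR'.exists_germ z y
    exact ⟨⟨_, Submodule.mem_map_of_mem ht⟩, (germ_app ζ z S.g t).symm⟩

theorem exists_lift_sections {F G : EtModW.Mod Λ X} (φ : F ⟶ G) [Epi φ] {Ω : Type u} [Field Ω] [IsSepClosed Ω]
    {ξ : Spec (CommRingCat.of Ω) ⟶ X} {U : X.Etale} (u : (Scheme.pointSmallEtale ξ).fiber.obj U) :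
    ∀ {n : ℕ} (r : Fin n → G.obj.obj (op U)), ∃ (V : X.Etale) (g : V ⟶ U)
      (v : (Scheme.pointSmallEtale ξ).fiber.obj V) (e : Fin n → F.obj.obj (op V)),
      (Scheme.pointSmallEtale ξ).fiber.map g v = u ∧ ∀ i, φ.hom.app (op V) (e i) = G.obj.map g.op (r i)
  | 0, _ => ⟨U, 𝟙 U, u, Fin.elim0, by simp, fun i => i.elim0⟩
  | n + 1, r => by
    let Φ := Scheme.pointSmallEtale ξ
    obtain ⟨V, g, v, e, hv, he⟩ := exists_lift_sections φ u (fun i : Fin n => r i.castSucc)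
    obtain ⟨q, hq⟩ := surjective_stalk φ ξ (germ ξ v G (G.obj.map g.op (r (Fin.last n))))
    obtain ⟨W, w, e₁, rfl⟩ := exists_germ ξ q
    rw [germ_app] at hq
    obtain ⟨⟨T, t⟩, ⟨a, ha⟩, ⟨b, hb⟩, -⟩ := IsCofilteredOrEmpty.cone_objs
      (Φ.fiber.elementsMk V v) (Φ.fiber.elementsMk W w)
    obtain ⟨a', ha'⟩ : ∃ a' : T ⟶ V, Φ.fiber.map a' t = v := ⟨a, ha⟩
    obtain ⟨b', hb'⟩ : ∃ b' : T ⟶ W, Φ.fiber.map b' t = w := ⟨b, hb⟩
    rw [← ha', ← hb', ← germ_map, ← germ_map] at hq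
    obtain ⟨T', c, t', ht', hc⟩ := (germ_eq_iff ξ t _ _ _).1 hq
    refine ⟨T', c ≫ a' ≫ g, t', Fin.snoc (fun i => F.obj.map (c ≫ a').op (e i)) (F.obj.map (c ≫ b').op e₁),
      by rw [Functor.map_comp_apply, Functor.map_comp_apply, ht', ha', hv], fun i => ?_⟩
    induction i using Fin.lastCases with
    | last =>
      rw [Fin.snoc_last, NatTrans.naturality_apply φ.hom]
      simp only [op_comp, Functor.map_comp, ConcreteCategory.comp_apply] at hc ⊢
      exact hc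
    | cast i =>
      rw [Fin.snoc_castSucc, NatTrans.naturality_apply φ.hom, he i]
      simp only [op_comp, Functor.map_comp, ConcreteCategory.comp_apply]

theorem isFTLocConst_extension [IsNoetherianRing Λ] {S : ShortComplex (EtModW.Mod Λ X)} (hS : S.ShortExact)
    (h1 : EtModW.IsFTLocConst Λ S.X₁) (h3 : EtModW.IsFTLocConst Λ S.X₃) : EtModW.IsFTLocConst Λ S.X₂ := by
  have := hS.mono_f
  have := hS.epi_g
  rw [isFTLocConst_iff]
  intro x
  obtain ⟨Ω, _, _, ξ, U, u, P, R, hξ, hP, hR⟩ := exists_common h1 h3 x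
  obtain ⟨n, r, hr⟩ := Submodule.fg_iff_exists_fin_generating_family.1 hR.1
  obtain ⟨V₀, g₀, v₀, e₀, hv₀, he₀⟩ := exists_lift_sections S.g u r
  -- relations among the generators
  let T : (Fin n → Λ) →ₗ[Λ] S.X₃.obj.obj (op U) := Fintype.linearCombination Λ r
  obtain ⟨m, l, hl⟩ := Submodule.fg_iff_exists_fin_generating_family.1
    (IsNoetherian.noetherian (LinearMap.ker T))
  let E₀ : (Fin n → Λ) →ₗ[Λ] S.X₂.obj.obj (op V₀) := Fintype.linearCombination Λ e₀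
  have hg₀ : ∀ a, (S.g.hom.app (op V₀)).hom (E₀ a) = (S.X₃.obj.map g₀.op).hom (T a) := fun a => by
    simp only [E₀, T, Fintype.linearCombination_apply, map_sum, map_smul]
    exact Finset.sum_congr rfl fun i _ => congrArg (a i • ·) (he₀ i)
  have hP₀ := hP.restrict g₀
  have hc : ∀ j : Fin m, ∃ c ∈ P.map (S.X₁.obj.map g₀.op).hom,
      germ ξ v₀ S.X₂ (S.f.hom.app (op V₀) c) = germ ξ v₀ S.X₂ (E₀ (l j)) := fun j => by
    have h0 : T (l j) = 0 := LinearMap.mem_ker.1 (hl ▸ Submodule.subset_span ⟨j, rfl⟩)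
    obtain ⟨y, hy⟩ := exact_stalk hS.exact ξ (germ ξ v₀ S.X₂ (E₀ (l j))) (by
      rw [germ_app]
      show germ ξ v₀ S.X₃ ((S.g.hom.app (op V₀)).hom _) = 0
      rw [hg₀, h0, map_zero, map_zero])
    obtain ⟨c, hc, rfl⟩ := hP₀.exists_germ v₀ y
    exact ⟨c, hc, (germ_app ξ v₀ S.f c).symm.trans hy⟩
  choose c hcP hc using hc
  obtain ⟨V, g, v, hv, hcg⟩ := exists_forall_eq S.X₂.obj v₀ (fun j : ULift.{u} (Fin m) => S.f.hom.app (op V₀) (c j.down))
    (fun j => E₀ (l j.down)) (fun j => hc j.down)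
  let P' := (P.map (S.X₁.obj.map g₀.op).hom).map (S.X₁.obj.map g.op).hom
  have hP' : FTConst S.X₁ V P' := hP₀.restrict g
  have hR' : FTConst S.X₃ V ((R.map (S.X₃.obj.map g₀.op).hom).map (S.X₃.obj.map g.op).hom) :=
    (hR.restrict g₀).restrict g
  let i : S.X₁.obj.obj (op V) →ₗ[Λ] S.X₂.obj.obj (op V) := (S.f.hom.app (op V)).hom
  let E : (Fin n → Λ) →ₗ[Λ] S.X₂.obj.obj (op V) := (S.X₂.obj.map g.op).hom ∘ₗ E₀
  have hgE : ∀ a, (S.g.hom.app (op V)).hom (E a) = (S.X₃.obj.map g.op).hom ((S.X₃.obj.map g₀.op).hom (T a)) := fun a => by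
    rw [← hg₀]
    exact NatTrans.naturality_apply S.g.hom g.op (E₀ a)
  have hker : ∀ a, T a = 0 → E a ∈ P'.map i := fun a ha => by
    suffices h : LinearMap.ker T ≤ (P'.map i).comap E from h (LinearMap.mem_ker.2 ha)
    rw [← hl, Submodule.span_le]
    rintro _ ⟨j, rfl⟩
    exact ⟨_, Submodule.mem_map_of_mem (hcP j),
      (NatTrans.naturality_apply S.f.hom g.op (c j)).trans (hcg ⟨j⟩)⟩
  refine ⟨V, _, (base_of_point v).trans hξ, P'.map i ⊔ LinearMap.range E,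
    (hP'.1.map i).sup (Module.Finite.iff_fg.1 inferInstance), fun Ω' _ _ ζ z => ?_⟩
  have hinj : ∀ s ∈ P'.map i ⊔ LinearMap.range E, germ ζ z S.X₂ s = 0 → s = 0 := by
    intro s hs h0
    obtain ⟨y, hy, w, ⟨a, rfl⟩, rfl⟩ := Submodule.mem_sup.1 hs
    obtain ⟨p, hp, rfl⟩ := hy
    have e2 : (S.g.hom.app (op V)).hom (i p + E a) = (S.X₃.obj.map g.op).hom ((S.X₃.obj.map g₀.op).hom (T a)) := by
      rw [map_add, hgE, show (S.g.hom.app (op V)).hom (i p) = 0 from app_zero_apply V p, zero_add]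
    have hTR : T a ∈ R := by
      rw [← hr]
      exact (Fintype.range_linearCombination Λ (v := r)).le ⟨a, rfl⟩
    have e3 : (S.X₃.obj.map g.op).hom ((S.X₃.obj.map g₀.op).hom (T a)) = 0 :=
      hR'.eq_of_germ z (Submodule.mem_map_of_mem (Submodule.mem_map_of_mem hTR)) (Submodule.zero_mem _) (by
        rw [← e2, map_zero]
        exact (germ_app ζ z S.g _).symm.trans ((congrArg _ h0).trans (map_zero _)))
    have e4 : T a = 0 := hR.eq_of_germ u hTR (Submodule.zero_mem _) (by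
      have h4 : germ ξ v S.X₃ ((S.X₃.obj.map g.op).hom ((S.X₃.obj.map g₀.op).hom (T a))) = 0 := by rw [e3, map_zero]
      rw [map_zero, ← hv₀, ← germ_map, ← hv, ← germ_map]
      exact h4)
    obtain ⟨p', hp', hp''⟩ := hker a e4
    rw [← hp'', ← map_add] at h0 ⊢
    have h5 : germ ζ z S.X₁ (p + p') = 0 := injective_stalk S.f ζ
      ((germ_app ζ z S.f _).trans (h0.trans (map_zero _).symm))
    rw [hP'.eq_of_germ z (Submodule.add_mem _ hp hp') (Submodule.zero_mem _) (h5.trans (map_zero _).symm), map_zero]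
  refine ⟨fun a b e => Subtype.ext (sub_eq_zero.1 (hinj _ (Submodule.sub_mem _ a.2 b.2) ?_)), fun q => ?_⟩
  · rw [map_sub, sub_eq_zero]
    exact e
  · obtain ⟨_, ⟨_, ⟨t, ht, rfl⟩, rfl⟩, ht'⟩ := hR'.exists_germ z (((EtModW.stalk Λ ζ).map S.g).hom q)
    rw [← hr] at ht
    obtain ⟨a, ha⟩ := (Fintype.range_linearCombination Λ (v := r)).ge ht
    obtain ⟨y, hy⟩ := exact_stalk hS.exact ζ (q - germ ζ z S.X₂ (E a)) (by
      rw [map_sub, sub_eq_zero, germ_app, ← ht']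
      show _ = germ ζ z S.X₃ ((S.g.hom.app (op V)).hom (E a))
      rw [hgE, show T a = t from ha])
    obtain ⟨p, hp, rfl⟩ := hP'.exists_germ z y
    refine ⟨⟨i p + E a, Submodule.add_mem_sup ⟨p, hp, rfl⟩ ⟨a, rfl⟩⟩, ?_⟩
    show germ ζ z S.X₂ (i p + E a) = q
    rw [map_add, show germ ζ z S.X₂ (i p) = _ from (germ_app ζ z S.f p).symm.trans hy, sub_add_cancel]

theorem exists_linearMap_model {F G : EtModW.Mod Λ X} (φ : F ⟶ G) (hF : EtModW.IsFTLocConst Λ F)
    (hG : EtModW.IsFTLocConst Λ G) :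
    ∃ (ι : Type u) (U : ι → X.Etale), EtCoh.Covers U ∧ ∀ i, ∃ (M N : Type (u + 1)) (_ : AddCommGroup M) (_ : AddCommGroup N)
      (_ : Module Λ M) (_ : Module Λ N) (h : M →ₗ[Λ] N)
      (α : EtModW.restr Λ F (U i) ≅ (constantSheaf (X.smallEtaleTopology.over (U i)) (ModuleCat.{u + 1} Λ)).obj (ModuleCat.of Λ M))
      (β : EtModW.restr Λ G (U i) ≅ (constantSheaf (X.smallEtaleTopology.over (U i)) (ModuleCat.{u + 1} Λ)).obj (ModuleCat.of Λ N)),
      (X.smallEtaleTopology.overPullback (ModuleCat.{u + 1} Λ) (U i)).map φ ≫ β.hom =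
        α.hom ≫ (constantSheaf (X.smallEtaleTopology.over (U i)) (ModuleCat.{u + 1} Λ)).map (ModuleCat.ofHom h) := by
  have key : ∀ x : X, ∃ (U : X.Etale) (p : U.left), U.hom.base p = x ∧ ∃ (S : Submodule Λ (F.obj.obj (op U)))
      (R : Submodule Λ (G.obj.obj (op U))), FTConst F U S ∧ FTConst G U R ∧
        ∀ s ∈ S, φ.hom.app (op U) s ∈ R := fun x => by
    obtain ⟨Ω, _, _, ξ, U, u, P, R, hξ, hP, hR⟩ := exists_common hF hG x
    obtain ⟨V, g, v, hv, hle⟩ := exists_map_le φ u hP hR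
    exact ⟨V, _, (base_of_point v).trans hξ, _, _, hP.restrict g, hR.restrict g, hle⟩
  choose U p hp S R hS hR hle using key
  refine ⟨X, U, fun x => ⟨x, p x, hp x⟩, fun x => ?_⟩
  let h : S x →ₗ[Λ] R x := LinearMap.codRestrict (R x) ((φ.hom.app (op (U x))).hom ∘ₗ (S x).subtype) fun s => hle x s.1 s.2
  haveI := isIso_constMap (hS x).constBy
  haveI := isIso_constMap (hR x).constBy
  refine ⟨S x, R x, inferInstance, inferInstance, inferInstance, inferInstance, h,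
    (asIso (constMap (incl F (U x) (S x)))).symm, (asIso (constMap (incl G (U x) (R x)))).symm, ?_⟩
  have e := constMap_natural (φ := incl F (U x) (S x)) (ψ := incl G (U x) (R x)) φ (ModuleCat.ofHom h) rfl
  simp only [Iso.symm_hom, asIso_inv]
  rw [IsIso.eq_inv_comp, ← Category.assoc, IsIso.comp_inv_eq]
  exact e

end Groth.Agent.EtModLib
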