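import Groth.Agent.EtFound.Cospec
import Groth.Agent.EtFound.DescentConstr
import Mathlib.AlgebraicGeometry.Morphisms.Flat

/-! finite local constancy descends along flat surjective morphisms -/

universe u

open CategoryTheory CategoryTheory.Limits AlgebraicGeometry Opposite Topology TopologicalSpace

namespace Groth.Agent.EtFound

set_option backward.isDefEq.respectTransparency.types false

variable {X : Scheme.{u}}

/-- stalks of finite locally constant sheaves are finite -/
theorem finite_stalk_of_flc {F : EtCoh.Ab X} (hF : EtCoh.IsFiniteLocallyConstant F) {Ω : Type u} [Field Ω]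
    [IsSepClosed Ω] (ξ : Spec (CommRingCat.of Ω) ⟶ X) : Finite ((EtCoh.stalk ξ).obj F) := by
  obtain ⟨U, p, hp, S, hS⟩ := (isFiniteLocallyConstant_iff _).1 hF (ξ.base (default : Spec (CommRingCat.of Ω)))
  obtain ⟨z, -⟩ := Scheme.pointSmallEtaleFiberObjToPreimage_surjective ξ rfl U ⟨p, hp⟩
  have := hS.1
  exact Finite.of_equiv _ (Equiv.ofBijective _ (hS.bijective z))

/-- invariance of germ bijectivity under generisation gives finite local constancy -/
theorem isFiniteLocallyConstant_of_step [IsLocallyNoetherian X] {F : EtCoh.Ab X}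
    (hfin : ∀ (Ω : Type u) [Field Ω] [IsSepClosed Ω] (ξ : Spec (CommRingCat.of Ω) ⟶ X), Finite ((EtCoh.stalk ξ).obj F))
    (step : ∀ (U : X.Etale) (S : AddSubgroup (F.obj.obj (op U))), Finite S →
      ∀ {k : Type u} [Field k] [IsSepClosed k] {η : Spec (CommRingCat.of k) ⟶ X}
      (z : (Scheme.pointSmallEtale η).fiber.obj U) {k' : Type u} [Field k'] [IsSepClosed k'] {η' : Spec (CommRingCat.of k') ⟶ X}
      (z' : (Scheme.pointSmallEtale η').fiber.obj U), ptOf z' ⤳ ptOf z →
      ((Function.Bijective fun s : S => (Scheme.pointSmallEtale η).toPresheafFiber U z F.obj s.1) ↔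
        Function.Bijective fun s : S => (Scheme.pointSmallEtale η').toPresheafFiber U z' F.obj s.1)) :
    EtCoh.IsFiniteLocallyConstant F := by
  rw [isFiniteLocallyConstant_iff]
  intro x
  obtain ⟨Ω, _, _, ξ, rfl⟩ := exists_geomPoint x
  have := hfin Ω ξ
  obtain ⟨U, u, l, hl⟩ := exists_stalk_sections (F := F) ξ
  have : AlgebraicGeometry.Etale U.hom := U.prop
  haveI : IsLocallyNoetherian U.left := by
    let g : U.left ⟶ X := U.hom
    have : AlgebraicGeometry.Etale g := U.prop
    exact LocallyOfFiniteType.isLocallyNoetherian g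
  obtain ⟨W, hpW, hW⟩ := exists_open_components (C := (Set.univ : Set U.left)) isClosed_univ (ptOf u)
  have hfinS : Finite l.range := Finite.of_surjective l.rangeRestrict l.rangeRestrict_surjective
  have hu : Function.Bijective fun s : l.range => (Scheme.pointSmallEtale ξ).toPresheafFiber U u F.obj s.1 :=
    ⟨fun ⟨_, a, rfl⟩ ⟨_, b, rfl⟩ e => Subtype.ext (congrArg l ((hl a).symm.trans (e.trans (hl b)))),
      fun c => ⟨⟨l c, c, rfl⟩, hl c⟩⟩
  let U' : X.Etale := Scheme.Etale.mk (W.ι ≫ U.hom)
  let r : U' ⟶ U := MorphismProperty.Over.homMk W.ι rfl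
  refine ⟨U', (⟨ptOf u, hpW⟩ : W.toScheme), (Scheme.Hom.comp_apply _ _ _).trans (hom_ptOf u),
    l.range.map (F.obj.map r.op).hom, ?_, fun k _ _ ζ z => ?_⟩
  · exact Finite.of_surjective (fun s : l.range => (⟨F.obj.map r.op s.1, AddSubgroup.mem_map_of_mem _ s.2⟩ :
      l.range.map (F.obj.map r.op).hom)) fun ⟨_, s, hs, rfl⟩ => ⟨⟨s, hs⟩, rfl⟩
  let zU := (Scheme.pointSmallEtale ζ).fiber.map r z
  have hzW : ptOf zU ∈ W := (ptOf_map r z).symm ▸ (ptOf z).2
  obtain ⟨g, -, hgp, hgq⟩ := hW _ hzW (Set.mem_univ _)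
  obtain ⟨L, _, _, θ, w, hw⟩ := exists_algClosed_point U g
  have hb := (step U l.range hfinS zU w ((specializes_of_eq hw).trans hgq)).2
    ((step U l.range hfinS u w ((specializes_of_eq hw).trans hgp)).1 hu)
  let e : l.range → l.range.map (F.obj.map r.op).hom := fun s => ⟨F.obj.map r.op s.1, AddSubgroup.mem_map_of_mem _ s.2⟩
  have he : Function.Surjective e := fun ⟨_, s, hs, rfl⟩ => ⟨⟨s, hs⟩, rfl⟩
  let T := fun t : l.range.map (F.obj.map r.op).hom => (Scheme.pointSmallEtale ζ).toPresheafFiber U' z F.obj t.1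
  have hT : Function.Bijective (T ∘ e) := by
    refine Eq.mp (congrArg Function.Bijective (funext fun s => ?_)) hb
    exact ((Scheme.pointSmallEtale ζ).toPresheafFiber_w_apply r z F.obj s.1).symm
  exact ⟨Function.Injective.of_comp_right hT.1 he, Function.Surjective.of_comp hT.2⟩

/-- finite local constancy descends along flat surjective morphisms -/
theorem isFiniteLocallyConstant_of_flat_pull {Y : Scheme.{u}} [IsLocallyNoetherian X] (p : Y ⟶ X) [Flat p]
    [Surjective p] {F : EtCoh.Ab X} (h : EtCoh.IsFiniteLocallyConstant ((EtCoh.pull p).obj F)) :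
    EtCoh.IsFiniteLocallyConstant F := by
  refine isFiniteLocallyConstant_of_step (fun Ω _ _ ξ => ?_) fun U S hS k _ _ η z k' _ _ η' z' hzz => ?_
  · obtain ⟨y, hy⟩ := p.surjective (ξ.base (default : Spec (CommRingCat.of Ω)))
    obtain ⟨k, _, _, w, hw⟩ := exists_geomPoint y
    have := finite_stalk_of_flc h w
    obtain ⟨c⟩ := nonempty_stalk_equiv F (w ≫ p) ξ
      ((Scheme.Hom.comp_apply _ _ _).trans ((congrArg p.base hw).trans hy))
    exact @Finite.of_equiv _ _ this (((stalkPullIso p w).app F).addCommGroupIsoToAddEquiv.toEquiv.trans c)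
  obtain ⟨y, hy⟩ := p.surjective (U.hom.base (ptOf z))
  obtain ⟨v, hv, -⟩ := Scheme.Pullback.exists_preimage_pullback (f := U.hom) (g := p) (ptOf z) y hy.symm
  obtain ⟨v', hv', hv''⟩ := Flat.generalizingMap (pullback.fst U.hom p) (hv.symm ▸ hzz : ptOf z' ⤳ _)
  obtain ⟨K, _, _, θ, w, hw⟩ := exists_algClosed_point ((EtCoh.bc p).obj U) v
  obtain ⟨K', _, _, θ', w', hw'⟩ := exists_algClosed_point ((EtCoh.bc p).obj U) v'
  have hww : ptOf w' ⤳ ptOf w := (specializes_of_eq hw').trans (hv'.trans (specializes_of_eq hw.symm))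
  obtain ⟨φ, hφ⟩ := exists_pointHom θ θ' w w' hww
  let a := (((EtCoh.bc p).sheafAdjunctionContinuous AddCommGrpCat.{u + 1} X.smallEtaleTopology
    Y.smallEtaleTopology).unit.app F).hom.app (op U)
  have key : ∀ {L : Type u} [Field L] [IsSepClosed L] (θ : Spec (CommRingCat.of L) ⟶ Y)
      (w : (Scheme.pointSmallEtale θ).fiber.obj ((EtCoh.bc p).obj U)),
      ((Function.Bijective fun s : S =>
          (Scheme.pointSmallEtale (θ ≫ p)).toPresheafFiber U (bcFiberEquiv p θ U w) F.obj s.1) ↔
        Function.Bijective fun s : S =>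
          (Scheme.pointSmallEtale θ).toPresheafFiber ((EtCoh.bc p).obj U) w ((EtCoh.pull p).obj F).obj (a s.1)) := by
    intro L _ _ θ w
    let i := ((sheafFiberPullIso (A := AddCommGrpCat.{u + 1}) p θ).app F).symm
    have hi : Function.Bijective i.hom := i.addCommGroupIsoToAddEquiv.bijective
    refine (Function.Bijective.of_comp_iff' hi _).symm.trans ?_
    refine (congrArg Function.Bijective (funext fun s : S => ?_)).to_iff
    exact ConcreteCategory.congr_hom (sheafFiberPullIso_germ p θ F U w) s.1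
  have hp : ∀ {L : Type u} [Field L] [IsSepClosed L] {θ : Spec (CommRingCat.of L) ⟶ Y}
      (w : (Scheme.pointSmallEtale θ).fiber.obj ((EtCoh.bc p).obj U)),
      ptOf (bcFiberEquiv p θ U w) = (pullback.fst U.hom p).base (ptOf w) :=
    fun w => Scheme.Hom.comp_apply _ _ _
  have hz : ptOf (bcFiberEquiv p θ U w) = ptOf z := (hp w).trans ((congrArg _ hw).trans hv)
  have hz' : ptOf (bcFiberEquiv p θ' U w') = ptOf z' := (hp w').trans ((congrArg _ hw').trans hv'')
  refine Iff.trans ⟨bijective_germ_congr S _ _ hz.symm, bijective_germ_congr S _ _ hz⟩ ?_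
  refine Iff.trans ?_ ⟨bijective_germ_congr S _ _ hz', bijective_germ_congr S _ _ hz'.symm⟩
  refine (key θ w).trans (Iff.trans ?_ (key θ' w').symm)
  refine (Function.Bijective.of_comp_iff' (bijective_sheafFiber h φ) _).symm.trans ?_
  refine (congrArg Function.Bijective (funext fun s : S => ?_)).to_iff
  exact (sheafFiber_germ φ _ w (a s.1)).trans (by rw [hφ])

end Groth.Agent.EtFound
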