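import Groth.Agent.S6700
import Mathlib.RingTheory.Flat.Basic
import Groth.Agent.EtModLib.Linear

/-! stalks of finite sums of extensions by zero of `Λ` are flat -/

universe u

open CategoryTheory CategoryTheory.Limits AlgebraicGeometry Opposite

noncomputable section

set_option backward.isDefEq.respectTransparency false
set_option backward.isDefEq.respectTransparency.types false

namespace Groth.Agent.EtModLib.FlatSum

open Groth.Agent.EtModLib

attribute [local instance] CategoryTheory.Abelian.hasFiniteBiproducts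

variable {Λ : Type (u + 1)} [CommRing Λ] {X : Scheme.{u}} {Ω : Type u} [Field Ω] [IsSepClosed Ω]

theorem flat_pi {ι : Type*} [Finite ι] (M : ι → Type (u + 1)) [∀ i, AddCommGroup (M i)] [∀ i, Module Λ (M i)]
    [∀ i, Module.Flat Λ (M i)] : Module.Flat Λ (∀ i, M i) := by
  classical
  haveI := Fintype.ofFinite ι
  exact Module.Flat.of_linearEquiv (DirectSum.linearEquivFunOnFintype Λ ι M).symm

theorem flat_of_iso {M N : ModuleCat.{u + 1} Λ} (e : M ≅ N) [Module.Flat Λ M] : Module.Flat Λ N :=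
  Module.Flat.of_linearEquiv e.toLinearEquiv.symm

theorem flat_stalk_constΛ (ξ : Spec (CommRingCat.of Ω) ⟶ X) :
    Module.Flat Λ ((EtModW.stalk Λ ξ).obj (EtSix.constΛ Λ X)) := by
  let z : (Scheme.pointSmallEtale ξ).fiber.obj (EtCoh.top X) := CategoryTheory.Over.homMk ξ (Category.comp_id _)
  let φ := (toSheafify X.smallEtaleTopology ((Functor.const X.Etaleᵒᵖ).obj (ModuleCat.of Λ Λ))).app (op (EtCoh.top X)) ≫
    (Scheme.pointSmallEtale ξ).toPresheafFiber (EtCoh.top X) z (EtSix.constΛ Λ X).obj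
  have h := EtFound.toSheafify_const_germ_bijective ξ (ModuleCat.{u + 1} Λ) (ModuleCat.of Λ Λ) (EtCoh.top X) z
  haveI : IsIso φ := (ConcreteCategory.isIso_iff_bijective φ).2 h
  haveI : Module.Flat Λ (ModuleCat.of Λ Λ) := (inferInstance : Module.Flat Λ Λ)
  exact flat_of_iso (M := ModuleCat.of Λ Λ) (asIso φ)

theorem flat_stalk_extZero {U : Scheme.{u}} (j : U ⟶ X) [AlgebraicGeometry.Etale j] [QuasiCompact j]
    [EtShriek.JCont j] (ξ : Spec (CommRingCat.of Ω) ⟶ X) :
    Module.Flat Λ ((EtModW.stalk Λ ξ).obj ((EtSix.extZeroMod Λ j).obj (EtSix.constΛ Λ U))) := by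
  classical
  haveI := EtFound.finite_ptsOver j ξ
  haveI := Fintype.ofFinite (EtFound.PtsOver j ξ)
  have hb := bijective_extZeroMod_sum j ξ (EtSix.constΛ Λ U) (id : EtFound.PtsOver j ξ → EtFound.PtsOver j ξ)
    Function.bijective_id
  haveI : ∀ z : EtFound.PtsOver j ξ, Module.Flat Λ ((EtModW.stalk Λ z.1).obj (EtSix.constΛ Λ U)) :=
    fun z => flat_stalk_constΛ z.1
  haveI := flat_pi (Λ := Λ) fun z : EtFound.PtsOver j ξ => ((EtModW.stalk Λ z.1).obj (EtSix.constΛ Λ U) : Type (u + 1))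
  let L : (∀ z : EtFound.PtsOver j ξ, ((EtModW.stalk Λ z.1).obj (EtSix.constΛ Λ U) : Type (u + 1))) →ₗ[Λ]
      ((EtModW.stalk Λ ξ).obj ((EtSix.extZeroMod Λ j).obj (EtSix.constΛ Λ U)) : Type (u + 1)) :=
    ∑ z, (EtFound.extZeroι j ξ (EtSix.constΛ Λ U) z).hom ∘ₗ LinearMap.proj z
  have hL : Function.Bijective L := by
    refine Eq.mp (congrArg Function.Bijective ?_) hb
    funext x
    simp [L]
  exact Module.Flat.of_linearEquiv (LinearEquiv.ofBijective L hL).symm

theorem flat_stalk_isSum {M : EtModW.Mod Λ X} [QuasiSeparatedSpace X] (h : S6700.IsSum Λ M)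
    (ξ : Spec (CommRingCat.of Ω) ⟶ X) : Module.Flat Λ ((EtModW.stalk Λ ξ).obj M) := by
  obtain ⟨m, U, j, hj, hU, he⟩ := h
  haveI : ∀ k, EtShriek.JCont (j k) := fun k => EtFound.jCont (j k)
  obtain ⟨e⟩ := he
  haveI : ∀ k, Module.Flat Λ ((EtModW.stalk Λ ξ).obj ((EtSix.extZeroMod Λ (j k)).obj (EtSix.constΛ Λ (U k)))) := by
    intro k
    haveI : QuasiCompact (j k ≫ X.toSpecΓ) := (HasAffineProperty.iff_of_isAffine (P := @QuasiCompact)).mpr inferInstance
    haveI : QuasiCompact (j k) := QuasiCompact.of_comp (j k) X.toSpecΓ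
    exact flat_stalk_extZero (j k) ξ
  let S := EtModW.stalk Λ ξ
  obtain ⟨-, hS, -⟩ := linear_stalk (Λ := Λ) ξ
  haveI : S.Additive := hS
  haveI : PreservesFiniteBiproducts S := Functor.preservesFiniteBiproductsOfAdditive S
  haveI := flat_pi (Λ := Λ) fun k => (S.obj ((EtSix.extZeroMod Λ (j k)).obj (EtSix.constΛ Λ (U k))) : Type (u + 1))
  let e' : S.obj M ≅ ModuleCat.of Λ (∀ k, (S.obj ((EtSix.extZeroMod Λ (j k)).obj (EtSix.constΛ Λ (U k))) : Type (u + 1))) :=
    S.mapIso (e ≪≫ (biproduct.isoCoproduct _).symm) ≪≫ S.mapBiproduct _ ≪≫ ModuleCat.biproductIsoPi _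
  exact flat_of_iso e'.symm

end Groth.Agent.EtModLib.FlatSum
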