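import Groth.Agent.EtModLib.SmulLin
import Mathlib

/-! sheaf pullback of modules has the pullback of the abelian sheaf as underlying abelian sheaf -/

universe u

open CategoryTheory CategoryTheory.Limits Opposite

noncomputable section

set_option backward.isDefEq.respectTransparency false
set_option backward.isDefEq.respectTransparency.types false

namespace Groth.Agent.EtModLib

variable {C D : Type (u + 1)} [Category.{u} C] [Category.{u} D] (F : C ⥤ D)
  {J : GrothendieckTopology C} {K : GrothendieckTopology D} [F.IsContinuous J K]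
  {Λ : Type (u + 1)} [CommRing Λ]
  [J.HasSheafCompose (forget₂ (ModuleCat.{u + 1} Λ) AddCommGrpCat.{u + 1})]
  [K.HasSheafCompose (forget₂ (ModuleCat.{u + 1} Λ) AddCommGrpCat.{u + 1})]

/-- the comparison map of left adjoints on underlying abelian sheaves is invertible -/
theorem isIso_comparison
    {L : Sheaf J (ModuleCat.{u + 1} Λ) ⥤ Sheaf K (ModuleCat.{u + 1} Λ)}
    (adj : L ⊣ F.sheafPushforwardContinuous (ModuleCat.{u + 1} Λ) J K)
    {L' : Sheaf J AddCommGrpCat.{u + 1} ⥤ Sheaf K AddCommGrpCat.{u + 1}} [L'.Additive]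
    (adj' : L' ⊣ F.sheafPushforwardContinuous AddCommGrpCat.{u + 1} J K) (M : Sheaf J (ModuleCat.{u + 1} Λ)) :
    IsIso ((adj'.homEquiv _ _).symm ((toAb J Λ).map (adj.unit.app M)) :
      L'.obj ((toAb J Λ).obj M) ⟶ (toAb K Λ).obj (L.obj M)) := by
  let R := F.sheafPushforwardContinuous (ModuleCat.{u + 1} Λ) J K
  let R' := F.sheafPushforwardContinuous AddCommGrpCat.{u + 1} J K
  let τ : ∀ M, L'.obj ((toAb J Λ).obj M) ⟶ (toAb K Λ).obj (L.obj M) := fun M =>
    (adj'.homEquiv _ _).symm ((toAb J Λ).map (adj.unit.app M))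
  show IsIso (τ M)
  let A := L'.obj ((toAb J Λ).obj M)
  let ρ : Λ →+* End A :=
    { toFun := fun r => L'.map (smulAb M r)
      map_one' := by rw [map_one]; exact L'.map_id _
      map_mul' := fun r s => by rw [map_mul]; exact L'.map_comp _ _
      map_zero' := by rw [map_zero]; exact L'.map_zero _ _
      map_add' := fun r s => by rw [map_add]; exact L'.map_add }
  let G : Sheaf K (ModuleCat.{u + 1} Λ) := ofAb A ρ
  let η : M ⟶ R.obj G := homMk (adj'.unit.app _) fun r => adj'.unit.naturality (smulAb M r)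
  let t : L.obj M ⟶ G := (adj.homEquiv _ _).symm η
  have hs : ∀ r, smulAb G r ≫ τ M = τ M ≫ smulAb (L.obj M) r := fun r => by
    apply (adj'.homEquiv _ _).injective
    refine (adj'.homEquiv_naturality_left (smulAb M r) (τ M)).trans ?_
    rw [adj'.homEquiv_naturality_right, Equiv.apply_symm_apply]
    exact smulAb_natural (adj.unit.app M) r
  let s : G ⟶ L.obj M := homMk (τ M) hs
  have hunit : adj.unit.app M ≫ R.map t = η :=
    (adj.homEquiv_unit ..).symm.trans (Equiv.apply_symm_apply _ _)
  refine ⟨(toAb K Λ).map t, ?_, ?_⟩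
  · apply (adj'.homEquiv _ _).injective
    rw [adj'.homEquiv_naturality_right, Equiv.apply_symm_apply]
    refine ((toAb J Λ).map_comp (adj.unit.app M) (R.map t)).symm.trans ?_
    exact (congrArg (toAb J Λ).map hunit).trans ((adj'.homEquiv_unit ..).trans
      ((congrArg (adj'.unit.app _ ≫ ·) (R'.map_id _)).trans (Category.comp_id _))).symm
  · refine ((toAb K Λ).map_comp t s).symm.trans ((congrArg (toAb K Λ).map ?_).trans ((toAb K Λ).map_id _))
    apply (adj.homEquiv _ _).injective
    rw [adj.homEquiv_naturality_right, Equiv.apply_symm_apply]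
    refine Eq.trans (toAb_map_injective ?_) ((adj.homEquiv_unit ..).trans
      ((congrArg (adj.unit.app _ ≫ ·) (R.map_id _)).trans (Category.comp_id _))).symm
    exact ((adj'.homEquiv_unit ..).symm).trans (Equiv.apply_symm_apply _ _)

theorem exists_toAb_leftAdjoint_iso
    {L : Sheaf J (ModuleCat.{u + 1} Λ) ⥤ Sheaf K (ModuleCat.{u + 1} Λ)}
    (adj : L ⊣ F.sheafPushforwardContinuous (ModuleCat.{u + 1} Λ) J K)
    {L' : Sheaf J AddCommGrpCat.{u + 1} ⥤ Sheaf K AddCommGrpCat.{u + 1}} [L'.Additive]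
    (adj' : L' ⊣ F.sheafPushforwardContinuous AddCommGrpCat.{u + 1} J K) :
    Nonempty (toAb J Λ ⋙ L' ≅ L ⋙ toAb K Λ) := by
  let R := F.sheafPushforwardContinuous (ModuleCat.{u + 1} Λ) J K
  let R' := F.sheafPushforwardContinuous AddCommGrpCat.{u + 1} J K
  let τ : ∀ M, L'.obj ((toAb J Λ).obj M) ⟶ (toAb K Λ).obj (L.obj M) := fun M =>
    (adj'.homEquiv _ _).symm ((toAb J Λ).map (adj.unit.app M))
  have key : ∀ M, IsIso (τ M) := fun M => isIso_comparison F adj adj' M
  refine ⟨NatIso.ofComponents (fun M => @asIso _ _ _ _ (τ M) (key M)) fun {M N} f => ?_⟩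
  apply (adj'.homEquiv _ _).injective
  show adj'.homEquiv _ _ (L'.map ((toAb J Λ).map f) ≫ τ N) = adj'.homEquiv _ _ (τ M ≫ (toAb K Λ).map (L.map f))
  rw [adj'.homEquiv_naturality_left, adj'.homEquiv_naturality_right, Equiv.apply_symm_apply, Equiv.apply_symm_apply]
  exact ((toAb J Λ).map_comp _ _).symm.trans ((congrArg (toAb J Λ).map (adj.unit.naturality f)).trans
    ((toAb J Λ).map_comp _ _))

end Groth.Agent.EtModLib
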