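import Groth.Agent.EtModLib.ConstrOps
import Groth.Agent.EtFound.Crit

/-! constructible pieces for sheaves of modules -/

universe u

open CategoryTheory CategoryTheory.Limits AlgebraicGeometry Opposite Topology TopologicalSpace

noncomputable section

set_option backward.isDefEq.respectTransparency false
set_option backward.isDefEq.respectTransparency.types false

namespace Groth.Agent.EtModLib

open EtFound hiding IsPiece adaptedStrata_of_cover

variable {Λ : Type (u + 1)} [CommRing Λ] {X : Scheme.{u}}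

/-- a constructible good locus upstairs contains the preimage of a constructible stratum near the point -/
theorem exists_stratum_of_good {V : X.Opens} (hV : IsAffineOpen V) {U : X.Etale} {Ω : Type u} [Field Ω]
    [IsSepClosed Ω] {ξ : Spec (CommRingCat.of Ω) ⟶ X} (u : (Scheme.pointSmallEtale ξ).fiber.obj U)
    {A : U.left.Opens} (hA : IsAffineOpen A) (hAV : A ≤ U.hom ⁻¹ᵁ V) (hpA : ptOf u ∈ A)
    {Good : Set ↥(A : Set U.left)} (hGood : IsConstructible Good) (hpGood : (⟨ptOf u, hpA⟩ : ↥(A : Set U.left)) ∈ Good) :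
    ∃ (E : Set X) (W : U.left.Opens), IsLocallyClosed E ∧ ξ.base (default : Spec (CommRingCat.of Ω)) ∈ E ∧
      IsConstructible ((Subtype.val : ↥(V : Set X) → X) ⁻¹' E) ∧ E ⊆ U.hom.base '' (W : Set U.left) ∧
      ∀ q ∈ W, U.hom.base q ∈ E → ∃ a ∈ Good, a.1 = q := by
  have : AlgebraicGeometry.Etale U.hom := U.prop
  have : CompactSpace ↥(A : Set U.left) := isCompact_iff_compactSpace.1 hA.isCompact
  have : QuasiSeparatedSpace ↥(A : Set U.left) :=
    (isQuasiSeparated_iff_quasiSeparatedSpace _ A.2).1 hA.isQuasiSeparated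
  have : PrespectralSpace ↥(A : Set U.left) := A.2.isOpenEmbedding_subtypeVal.prespectralSpace
  have : QuasiSober ↥(A : Set U.left) := A.2.isOpenEmbedding_subtypeVal.quasiSober
  have : CompactSpace ↥(V : Set X) := isCompact_iff_compactSpace.1 hV.isCompact
  have : QuasiSeparatedSpace ↥(V : Set X) := (isQuasiSeparated_iff_quasiSeparatedSpace _ V.2).1 hV.isQuasiSeparated
  have : PrespectralSpace ↥(V : Set X) := V.2.isOpenEmbedding_subtypeVal.prespectralSpace
  have : QuasiSober ↥(V : Set X) := V.2.isOpenEmbedding_subtypeVal.quasiSober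
  let val : ↥(A : Set U.left) → U.left := Subtype.val
  let π : ↥(A : Set U.left) → ↥(V : Set X) := fun a => ⟨U.hom.base a.1, hAV a.2⟩
  have hπ : Continuous π := (U.hom.continuous.comp continuous_subtype_val).subtype_mk _
  let p : ↥(A : Set U.left) := ⟨ptOf u, hpA⟩
  -- an open of `A` meeting the fibre only in the point
  have hfib : (π ⁻¹' {π p} \ {p}).Finite := by
    have : IsAffine A.toScheme := hA
    have : IsAffine V.toScheme := hV
    let f : A.toScheme ⟶ V.toScheme := Scheme.Hom.resLE U.hom V A hAV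
    have hf : LocallyQuasiFinite f := by
      rw [HasRingHomProperty.iff_appLE (P := @LocallyQuasiFinite)]
      intro U₀ W₀ e'
      have := HasRingHomProperty.appLE @AlgebraicGeometry.Etale f inferInstance U₀ W₀ e'
      algebraize [(f.appLE U₀.1 W₀.1 e').hom]
      exact (inferInstance : Algebra.QuasiFinite Γ(V.toScheme, U₀.1) Γ(A.toScheme, W₀.1))
    have : QuasiCompact f := (quasiCompact_iff_compactSpace f).2 inferInstance
    refine (f.finite_preimage_singleton (π p)).subset fun q hq => ?_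
    refine Set.mem_singleton_iff.2 (Subtype.ext ?_)
    refine Eq.trans ?_ (congrArg Subtype.val hq.1)
    show V.ι.base (f.base q) = U.hom.base q.1
    rw [← Scheme.Hom.comp_apply, Scheme.Hom.resLE_comp_ι]
    exact Scheme.Hom.comp_apply _ _ _
  have hsep : ∀ q ∈ π ⁻¹' {π p} \ {p}, ∃ O : Set ↥(A : Set U.left), IsOpen O ∧ p ∈ O ∧ q ∉ O := fun q hq => by
    by_contra h
    push Not at h
    have hs : val q ⤳ val p := (specializes_iff_forall_open.2 fun O hO hp => h O hO hp).map continuous_subtype_val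
    exact hq.2 (Subtype.ext (eq_of_specializes U hs (congrArg Subtype.val hq.1)))
  choose! O hO hpO hqO using hsep
  obtain ⟨O', hO', hO'c, hpO', hO'O⟩ := Groth.Agent.SpecLib.exists_qc (x := p)
    (O := ⋂ q ∈ π ⁻¹' {π p} \ {p}, O q) (Set.mem_iInter₂.2 hpO) (hfib.isOpen_biInter hO)
  -- some constructible neighbourhood of the point pulls back into the good locus
  obtain ⟨E, ⟨hEc, hElc, hyE⟩, hEgood⟩ : ∃ E : Set ↥(V : Set X),
      (IsConstructible E ∧ IsLocallyClosed E ∧ π p ∈ E) ∧ O' ∩ π ⁻¹' E ⊆ Good := by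
    by_contra hno
    push Not at hno
    let I := {E : Set ↥(V : Set X) // IsConstructible E ∧ IsLocallyClosed E ∧ π p ∈ E}
    haveI : Nonempty I := ⟨⟨Set.univ, IsConstructible.univ, isOpen_univ.isLocallyClosed, trivial⟩⟩
    have hpre : ∀ E : I, IsConstructible (π ⁻¹' E.1) := fun E => by
      have h1 : IsConstructible ((Subtype.val : ↥(V : Set X) → X) ⁻¹' (Subtype.val '' E.1)) := by
        rw [Set.preimage_image_eq _ Subtype.val_injective]
        exact E.2.1
      have h2 := isConstructible_preimage_affine U.hom hA hV hAV h1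
      refine Eq.mp (congrArg IsConstructible ?_) h2
      ext a
      exact ⟨fun ⟨b, hb, e⟩ => show π a ∈ E.1 from Set.mem_of_eq_of_mem (Subtype.ext e.symm : π a = b) hb, fun ha => ⟨π a, ha, rfl⟩⟩
    obtain ⟨q, hq⟩ := Groth.Agent.SpecLib.CC.nonempty_iInter (fun E : I => (O' ∩ π ⁻¹' E.1) \ Good)
      (fun E E' => ⟨⟨E.1 ∩ E'.1, E.2.1.inter E'.2.1, E.2.2.1.inter E'.2.2.1, E.2.2.2, E'.2.2.2⟩,
        fun a ha => ⟨⟨ha.1.1, ha.1.2.1⟩, ha.2⟩, fun a ha => ⟨⟨ha.1.1, ha.1.2.2⟩, ha.2⟩⟩)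
      (fun E => by
        obtain ⟨a, ha, ha'⟩ := Set.not_subset.1 (hno E.1 E.2)
        exact ⟨a, ha, ha'⟩)
      (fun E => ((Groth.Agent.SpecLib.cc_of_isOpen_isCompact hO' hO'c).inter (Groth.Agent.SpecLib.cons_clopen (hpre E)).1).inter
        (Groth.Agent.SpecLib.cons_clopen hGood.compl).1)
    rw [Set.mem_iInter] at hq
    have hq0 := hq (Classical.arbitrary I)
    have hqp : π q = π p := by
      by_contra hne
      obtain ⟨W, hW, hWc, hWne⟩ := Groth.Agent.SpecLib.exists_qc_separating hne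
      have hWC := (IsCompact.isRetrocompact hWc hW).isConstructible hW
      by_cases hy : π p ∈ W
      · exact hWne (iff_of_true (hq ⟨W, hWC, hW.isLocallyClosed, hy⟩).1.2 hy)
      · exact (hq ⟨Wᶜ, hWC.compl, hW.isClosed_compl.isLocallyClosed, hy⟩).1.2
          (by_contra fun hq' => hWne (iff_of_false hq' hy))
    by_cases hqe : q = p
    · exact hq0.2 (hqe ▸ hpGood)
    · exact hqO q ⟨hqp, hqe⟩ (Set.mem_iInter₂.1 (hO'O hq0.1.1) q ⟨hqp, hqe⟩)
  -- the stratum
  let W : U.left.Opens := ⟨val '' O', A.2.isOpenMap_subtype_val _ hO'⟩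
  let E' : Set X := Subtype.val '' E ∩ U.hom.base '' (W : Set U.left)
  have hlc : IsLocallyClosed E' :=
    (hElc.image IsInducing.subtypeVal (by rw [Subtype.range_coe]; exact V.2.isLocallyClosed)).inter
      (U.hom.isOpenMap (W : Set U.left) W.2).isLocallyClosed
  refine ⟨E', W, hlc, ⟨⟨π p, hyE, hom_ptOf u⟩, ptOf u, ⟨p, hpO', rfl⟩, hom_ptOf u⟩, ?_, Set.inter_subset_right, ?_⟩
  · have hc' : IsCompact (π '' O') := hO'c.image hπ
    have ho' : IsOpen (π '' O') := by
      have h1 : π '' O' = Subtype.val ⁻¹' (U.hom.base '' (W : Set U.left)) := by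
        ext b
        constructor
        · rintro ⟨a, ha, rfl⟩
          exact ⟨a.1, ⟨a, ha, rfl⟩, rfl⟩
        · rintro ⟨_, ⟨a, ha, rfl⟩, e⟩
          exact ⟨a, ha, Subtype.ext e⟩
      rw [h1]
      exact (U.hom.isOpenMap (W : Set U.left) W.2).preimage continuous_subtype_val
    refine Eq.mp (congrArg IsConstructible ?_) (hEc.inter ((IsCompact.isRetrocompact hc' ho').isConstructible ho'))
    ext b
    constructor
    · rintro ⟨hb, a, ha, rfl⟩
      exact ⟨⟨π a, hb, rfl⟩, a.1, ⟨a, ha, rfl⟩, rfl⟩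
    · rintro ⟨⟨b', hb', e⟩, _, ⟨a, ha, rfl⟩, e'⟩
      exact ⟨Subtype.ext e ▸ hb', a, ha, Subtype.ext e'⟩
  · rintro _ ⟨a, ha, rfl⟩ ⟨⟨b, hb, hbe⟩, -⟩
    exact ⟨a, hEgood ⟨ha, show π a ∈ E from (show b = π a from Subtype.ext hbe) ▸ hb⟩, rfl⟩

/-- constant germs over a set give constant germs for inverse images into it -/
theorem ftConst_pull {T : Scheme.{u}} (g : T ⟶ X) {F : EtModW.Mod Λ X} {U : X.Etale}
    (S : Submodule Λ (F.obj.obj (op U))) (hS : S.FG)
    (h : ∀ (k : Type u) [Field k] [IsAlgClosed k] (η : Spec (CommRingCat.of k) ⟶ X)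
      (z : (Scheme.pointSmallEtale η).fiber.obj U), U.hom.base (ptOf z) ∈ Set.range g.base →
        Function.Bijective fun s : S => germ η z F s.1) :
    ∃ S', FTConst ((EtModW.pull Λ g).obj F) ((EtCoh.bc g).obj U) S' := by
  haveI := hasProducts_modules Λ
  let m := (((EtCoh.bc g).sheafAdjunctionContinuous (ModuleCat.{u + 1} Λ) X.smallEtaleTopology
    T.smallEtaleTopology).unit.app F).hom.app (op U)
  let e : S → S.map m.hom := fun s => ⟨m s.1, Submodule.mem_map_of_mem s.2⟩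
  have he : Function.Surjective e := fun ⟨_, s, hs, rfl⟩ => ⟨⟨s, hs⟩, rfl⟩
  refine ⟨S.map m.hom, hS.map _, fun Ω _ _ ξ z => ?_⟩
  let i := ((sheafFiberPullIso (A := ModuleCat.{u + 1} Λ) g ξ).app F).symm
  have hi : Function.Bijective i.hom := i.toLinearEquiv.bijective
  have hp : U.hom.base (ptOf (bcFiberEquiv g ξ U z)) ∈ Set.range g.base :=
    ⟨ξ.base (default : Spec (CommRingCat.of Ω)), (Scheme.Hom.comp_apply _ _ _).symm.trans (hom_ptOf _).symm⟩
  have hb : Function.Bijective (i.hom ∘ fun s : S => germ (ξ ≫ g) (bcFiberEquiv g ξ U z) F s.1) :=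
    hi.comp (h Ω (ξ ≫ g) _ hp)
  let T' := fun t : S.map m.hom => germ ξ z ((EtModW.pull Λ g).obj F) t.1
  have hT : Function.Bijective (T' ∘ e) := by
    refine Eq.mp (congrArg Function.Bijective (funext fun s => ?_)) hb
    exact ConcreteCategory.congr_hom (sheafFiberPullIso_germ g ξ F U z) s.1
  exact ⟨Function.Injective.of_comp_right hT.1 he, Function.Surjective.of_comp hT.2⟩

/-- a module of sections inducing the stalks along a constructible neighbourhood of a point gives a piece -/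
theorem exists_piece_of_good {F : EtModW.Mod Λ X} {V : X.Opens} (hV : IsAffineOpen V) {U : X.Etale} {Ω : Type u} [Field Ω]
    [IsSepClosed Ω] {ξ : Spec (CommRingCat.of Ω) ⟶ X} (u : (Scheme.pointSmallEtale ξ).fiber.obj U)
    {A : U.left.Opens} (hA : IsAffineOpen A) (hAV : A ≤ U.hom ⁻¹ᵁ V) (hpA : ptOf u ∈ A)
    (S : Submodule Λ (F.obj.obj (op U))) (hS : S.FG)
    {Good : Set ↥(A : Set U.left)} (hGood : IsConstructible Good) (hpGood : (⟨ptOf u, hpA⟩ : ↥(A : Set U.left)) ∈ Good)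
    (hgood : ∀ {k : Type u} [Field k] [IsAlgClosed k] {η : Spec (CommRingCat.of k) ⟶ X}
      (z : (Scheme.pointSmallEtale η).fiber.obj U), (∃ a ∈ Good, a.1 = ptOf z) →
        Function.Bijective fun s : S => germ η z F s.1) :
    ∃ E : Set X, ξ.base (default : Spec (CommRingCat.of Ω)) ∈ E ∧ IsPiece F E ∧
      IsConstructible ((Subtype.val : ↥(V : Set X) → X) ⁻¹' E) := by
  obtain ⟨E, W, hlc, hξE, hEc, hEW, hWgood⟩ := exists_stratum_of_good hV u hA hAV hpA hGood hpGood
  obtain ⟨T, g, hg, hr⟩ := exists_immersion_range hlc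
  refine ⟨E, hξE, ⟨T, g, hg, hr, ?_⟩, hEc⟩
  have : AlgebraicGeometry.Etale U.hom := U.prop
  let U' : X.Etale := Scheme.Etale.mk (W.ι ≫ U.hom)
  let r : U' ⟶ U := MorphismProperty.Over.homMk W.ι rfl
  let e : S → S.map (F.obj.map r.op).hom := fun s => ⟨F.obj.map r.op s.1, Submodule.mem_map_of_mem s.2⟩
  have he : Function.Surjective e := fun ⟨_, s, hs, rfl⟩ => ⟨⟨s, hs⟩, rfl⟩
  obtain ⟨S', hS'⟩ := ftConst_pull g (S.map (F.obj.map r.op).hom) (hS.map _) fun k _ _ η z hz => by
    have h1 : W.ι.base (ptOf z) = ptOf ((Scheme.pointSmallEtale η).fiber.map r z) := (ptOf_map r z).symm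
    have hb := hgood ((Scheme.pointSmallEtale η).fiber.map r z)
      (hWgood _ (h1 ▸ (ptOf z).2) (h1 ▸ hr.le ((Scheme.Hom.comp_apply _ _ _).symm ▸ hz)))
    let T' := fun t : S.map (F.obj.map r.op).hom => germ η z F t.1
    have hT : Function.Bijective (T' ∘ e) := by
      refine Eq.mp (congrArg Function.Bijective (funext fun s => ?_)) hb
      exact (germ_map η r z F s.1).symm
    exact ⟨Function.Injective.of_comp_right hT.1 he, Function.Surjective.of_comp hT.2⟩
  refine (isFTLocConst_iff _).2 fun t => ?_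
  obtain ⟨q, hq, hqe⟩ := hEW (hr.le ⟨t, rfl⟩)
  obtain ⟨w, -, hw⟩ := Scheme.Pullback.exists_preimage_pullback (f := U'.hom) (g := g) (⟨q, hq⟩ : W.toScheme) t
    ((Scheme.Hom.comp_apply _ _ _).trans hqe)
  exact ⟨_, w, hw, S', hS'⟩

/-- constructibility from constructible pieces through all points -/
theorem isConstructible_of_pieces {F : EtModW.Mod Λ X} (h : ∀ (V : X.Opens), IsAffineOpen V → ∀ y : X, y ∈ V →
    ∃ E : Set X, y ∈ E ∧ IsPiece F E ∧ IsConstructible ((Subtype.val : ↥(V : Set X) → X) ⁻¹' E)) :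
    EtModW.IsConstructible Λ F := by
  intro V hV
  have : CompactSpace ↥(V : Set X) := isCompact_iff_compactSpace.1 hV.isCompact
  have : QuasiSeparatedSpace ↥(V : Set X) := (isQuasiSeparated_iff_quasiSeparatedSpace _ V.2).1 hV.isQuasiSeparated
  have : PrespectralSpace ↥(V : Set X) := V.2.isOpenEmbedding_subtypeVal.prespectralSpace
  have : QuasiSober ↥(V : Set X) := V.2.isOpenEmbedding_subtypeVal.quasiSober
  choose E hyE hE hEc using fun y : ↥(V : Set X) => h V hV y.1 y.2
  obtain ⟨t, ht⟩ := exists_finite_cover (fun y => Subtype.val ⁻¹' E y) hEc fun y => ⟨y, hyE y⟩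
  refine adaptedStrata_of_cover V.2.isLocallyClosed (fun k : t => E k.1) (fun k => hE _) (fun k => hEc _) fun x hx => ?_
  obtain ⟨k, hk, hxk⟩ := ht ⟨x, hx⟩
  exact Set.mem_iUnion.2 ⟨⟨k, hk⟩, hxk⟩

/-- bijectivity of germs is insensitive to extensions of the field -/
theorem bijective_germ_ext {F : EtModW.Mod Λ X} {U : X.Etale} (S : Submodule Λ (F.obj.obj (op U)))
    {k L : Type u} [Field k] [IsSepClosed k] [Field L] [IsSepClosed L] {η : Spec (CommRingCat.of k) ⟶ X}
    (z : (Scheme.pointSmallEtale η).fiber.obj U) (l : Spec (CommRingCat.of L) ⟶ Spec (CommRingCat.of k))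
    {θ : Spec (CommRingCat.of L) ⟶ X} (hθ : l ≫ η = θ) (w : (Scheme.pointSmallEtale θ).fiber.obj U)
    (hw : (w.left : Spec (CommRingCat.of L) ⟶ U.left) = l ≫ (z.left : Spec (CommRingCat.of k) ⟶ U.left)) :
    (Function.Bijective fun s : S => germ η z F s.1) ↔ Function.Bijective fun s : S => germ θ w F s.1 := by
  subst hθ
  let φ := (pointExtIso η l).hom
  let γ := (stalkExtIso (ModuleCat.{u + 1} Λ) η l).app F
  have hb : Function.Bijective γ.hom := γ.toLinearEquiv.bijective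
  have hwz : φ.hom.app U z = w := CategoryTheory.Over.OverMorphism.ext hw.symm
  refine (Function.Bijective.of_comp_iff' hb _).symm.trans (congrArg Function.Bijective (funext fun s : S => ?_)).to_iff
  show γ.hom ((Scheme.pointSmallEtale η).toPresheafFiber U z F.obj s.1) = _
  rw [← hwz]
  exact (ConcreteCategory.comp_apply _ _ _).symm.trans
    (ConcreteCategory.congr_hom ((Scheme.pointSmallEtale η).toPresheafFiber_presheafFiberDesc (P := F.obj)
      (fun W w => (Scheme.pointSmallEtale (l ≫ η)).toPresheafFiber W (φ.hom.app W w) F.obj)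
      (fun W W' f x => by rw [GrothendieckTopology.Point.toPresheafFiber_w, NatTrans.naturality_apply]) U z) s.1)

/-- bijectivity of germs only depends on the point -/
theorem bijective_germ_congr {F : EtModW.Mod Λ X} {U : X.Etale} (S : Submodule Λ (F.obj.obj (op U)))
    {k k' : Type u} [Field k] [IsSepClosed k] [Field k'] [IsSepClosed k'] {η : Spec (CommRingCat.of k) ⟶ X}
    {η' : Spec (CommRingCat.of k') ⟶ X} (z : (Scheme.pointSmallEtale η).fiber.obj U)
    (z' : (Scheme.pointSmallEtale η').fiber.obj U) (h : ptOf z = ptOf z') :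
    (Function.Bijective fun s : S => germ η z F s.1) ↔ Function.Bijective fun s : S => germ η' z' F s.1 := by
  obtain ⟨L, _, _, b, a, hab⟩ := exists_lift_extension (z.left : Spec (CommRingCat.of k) ⟶ U.left)
    (z'.left : Spec (CommRingCat.of k') ⟶ U.left) ⟨(default : Spec (CommRingCat.of k)), h⟩
  let θ : Spec (CommRingCat.of L) ⟶ X := (b ≫ (z.left : Spec (CommRingCat.of k) ⟶ U.left)) ≫ U.hom
  let w : (Scheme.pointSmallEtale θ).fiber.obj U :=
    CategoryTheory.Over.homMk (b ≫ (z.left : Spec (CommRingCat.of k) ⟶ U.left)) rfl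
  refine (bijective_germ_ext S z b ?_ w rfl).trans (bijective_germ_ext S z' a ?_ w hab.symm).symm
  · exact ((congrArg (b ≫ ·) (CategoryTheory.Over.w z)).symm.trans (Category.assoc _ _ _).symm)
  · refine ((congrArg (a ≫ ·) (CategoryTheory.Over.w z')).symm.trans ((Category.assoc _ _ _).symm.trans ?_))
    exact congrArg (· ≫ U.hom) hab

/-- finitely many stalk elements are germs of sections over one neighbourhood -/
theorem exists_germs {F : EtModW.Mod Λ X} {Ω : Type u} [Field Ω] [IsSepClosed Ω]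
    (ξ : Spec (CommRingCat.of Ω) ⟶ X) : ∀ {n : ℕ} (c : Fin n → (EtModW.stalk Λ ξ).obj F),
      ∃ (W : X.Etale) (w : (Scheme.pointSmallEtale ξ).fiber.obj W) (x : Fin n → F.obj.obj (op W)),
        ∀ i, germ ξ w F (x i) = c i
  | 0, _ => by
    obtain ⟨W, w, -, -⟩ := exists_germ ξ (0 : (EtModW.stalk Λ ξ).obj F)
    exact ⟨W, w, Fin.elim0, fun i => i.elim0⟩
  | n + 1, c => by
    obtain ⟨V, v, x, hx⟩ := exists_germs ξ (fun i : Fin n => c i.castSucc)
    obtain ⟨W, w, y, hy⟩ := exists_germ ξ (c (Fin.last n))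
    obtain ⟨⟨T, t⟩, ⟨a, ha⟩, ⟨b, hb⟩, -⟩ := IsCofilteredOrEmpty.cone_objs
      ((Scheme.pointSmallEtale ξ).fiber.elementsMk V v) ((Scheme.pointSmallEtale ξ).fiber.elementsMk W w)
    refine ⟨T, t, Fin.snoc (fun i => F.obj.map a.op (x i)) (F.obj.map b.op y), fun i => ?_⟩
    induction i using Fin.lastCases with
    | last =>
      rw [Fin.snoc_last, germ_map]
      exact (congrArg (fun p => germ ξ p F y) hb).trans hy
    | cast i =>
      rw [Fin.snoc_castSucc, germ_map]
      exact (congrArg (fun p => germ ξ p F (x i)) ha).trans (hx i)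

/-- a finitely presented stalk is given by sections near the point -/
theorem exists_stalk_submodule [IsNoetherianRing Λ] {F : EtModW.Mod Λ X} {Ω : Type u} [Field Ω] [IsSepClosed Ω]
    (ξ : Spec (CommRingCat.of Ω) ⟶ X) [Module.Finite Λ ((EtModW.stalk Λ ξ).obj F)] :
    ∃ (W : X.Etale) (w : (Scheme.pointSmallEtale ξ).fiber.obj W) (S : Submodule Λ (F.obj.obj (op W))),
      S.FG ∧ Function.Bijective fun s : S => germ ξ w F s.1 := by
  obtain ⟨n, c, hc⟩ := Submodule.fg_iff_exists_fin_generating_family.1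
    (Module.Finite.fg_top (R := Λ) (M := (EtModW.stalk Λ ξ).obj F))
  obtain ⟨W, w, x, hx⟩ := exists_germs ξ c
  let e : (Fin n → Λ) →ₗ[Λ] F.obj.obj (op W) := Fintype.linearCombination Λ x
  obtain ⟨m, r, hr⟩ := Submodule.fg_iff_exists_fin_generating_family.1
    (IsNoetherian.noetherian (LinearMap.ker (germ ξ w F ∘ₗ e)))
  obtain ⟨V, g, v, hv, hg⟩ := exists_forall_eq F.obj w (fun j : ULift.{u} (Fin m) => e (r j.down)) (fun _ => 0)
    (fun j => (LinearMap.mem_ker.1 (hr ▸ Submodule.subset_span ⟨j.down, rfl⟩ :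
      r j.down ∈ LinearMap.ker (germ ξ w F ∘ₗ e))).trans (map_zero (germ ξ w F)).symm)
  let e' : (Fin n → Λ) →ₗ[Λ] F.obj.obj (op V) := (F.obj.map g.op).hom ∘ₗ e
  have hgerm : ∀ y, germ ξ v F (e' y) = germ ξ w F (e y) := fun y =>
    (germ_map ξ g v F (e y)).trans (congrArg (fun p => germ ξ p F (e y)) hv)
  have hker : LinearMap.ker (germ ξ w F ∘ₗ e) ≤ LinearMap.ker e' := by
    rw [← hr, Submodule.span_le]
    rintro _ ⟨j, rfl⟩
    exact (hg ⟨j⟩).trans (map_zero (F.obj.map g.op).hom)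
  have hsurj : Function.Surjective (germ ξ w F ∘ₗ e) := by
    rw [← LinearMap.range_eq_top, eq_top_iff, ← hc, Submodule.span_le]
    rintro _ ⟨i, rfl⟩
    refine ⟨Pi.single i 1, ?_⟩
    simp [e, hx]
  refine ⟨V, v, LinearMap.range e', Module.Finite.iff_fg.1 inferInstance, ?_, fun q => ?_⟩
  · rintro ⟨_, a, rfl⟩ ⟨_, b, rfl⟩ h
    have h' : germ ξ w F (e a) = germ ξ w F (e b) := (hgerm a).symm.trans (h.trans (hgerm b))
    exact Subtype.ext (LinearMap.sub_mem_ker_iff.1 (hker (LinearMap.sub_mem_ker_iff.2 h')))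
  · obtain ⟨a, rfl⟩ := hsurj q
    exact ⟨⟨e' a, a, rfl⟩, hgerm a⟩

/-- near each point of a constructible sheaf finitely many sections give all stalks along a stratum -/
theorem exists_sections_stratum [IsNoetherianRing Λ] {F : EtModW.Mod Λ X} (hF : EtModW.IsConstructible Λ F)
    {V : X.Opens} (hV : IsAffineOpen V) {Ω : Type u} [Field Ω] [IsSepClosed Ω] (ξ : Spec (CommRingCat.of Ω) ⟶ X)
    (hξ : ξ.base (default : Spec (CommRingCat.of Ω)) ∈ V) :
    ∃ (E : Set X) (W : X.Etale) (_ : (Scheme.pointSmallEtale ξ).fiber.obj W) (S : Submodule Λ (F.obj.obj (op W))),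
      ξ.base (default : Spec (CommRingCat.of Ω)) ∈ E ∧ IsConstructible ((Subtype.val : ↥(V : Set X) → X) ⁻¹' E) ∧
      S.FG ∧ ∀ (k : Type u) [Field k] [IsAlgClosed k] (η : Spec (CommRingCat.of k) ⟶ X)
        (z : (Scheme.pointSmallEtale η).fiber.obj W), W.hom.base (ptOf z) ∈ E →
          Function.Bijective fun s : S => germ η z F s.1 := by
  haveI := hasProducts_modules Λ
  haveI := finite_stalk_of_isConstructible hF ξ
  obtain ⟨W₀, w₀, S, hS, hw₀⟩ := exists_stalk_submodule (F := F) ξ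
  obtain ⟨n, Es, hEs, hEc, hu⟩ := exists_pieces (hF V hV)
  obtain ⟨k₀, hk₀⟩ := Set.mem_iUnion.1 (hu.ge hξ)
  obtain ⟨T, g, hg, hr, hT⟩ := hEs k₀
  obtain ⟨t, ht⟩ := hr.ge hk₀
  obtain ⟨q, hq, hqt⟩ := Scheme.Pullback.exists_preimage_pullback (f := W₀.hom) (g := g) (ptOf w₀) t
    ((hom_ptOf w₀).trans ht.symm)
  obtain ⟨L, _, _, ζ, z, hz⟩ := exists_algClosed_point ((EtCoh.bc g).obj W₀) q
  obtain ⟨UT, p, hp, ST, hST⟩ := (isFTLocConst_iff _).1 hT t
  obtain ⟨uT, -⟩ := Scheme.pointSmallEtaleFiberObjToPreimage_surjective ζ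
    ((hom_ptOf z).symm.trans ((congrArg ((EtCoh.bc g).obj W₀).hom.base hz).trans hqt)) UT ⟨p, hp⟩
  obtain ⟨⟨C, c⟩, ⟨a, ha⟩, ⟨b, hb⟩, -⟩ := IsCofilteredOrEmpty.cone_objs
    ((Scheme.pointSmallEtale ζ).fiber.elementsMk _ z) ((Scheme.pointSmallEtale ζ).fiber.elementsMk UT uT)
  let G := (EtModW.pull Λ g).obj F
  let m := (((EtCoh.bc g).sheafAdjunctionContinuous (ModuleCat.{u + 1} Λ) X.smallEtaleTopology
    T.smallEtaleTopology).unit.app F).hom.app (op W₀)
  have hm : ∀ {L : Type u} [Field L] [IsSepClosed L] (ζ : Spec (CommRingCat.of L) ⟶ T)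
      (z : (Scheme.pointSmallEtale ζ).fiber.obj ((EtCoh.bc g).obj W₀)),
      (Function.Bijective fun s : S => germ ζ z G (m s.1)) ↔
        Function.Bijective fun s : S => germ (ζ ≫ g) (bcFiberEquiv g ζ W₀ z) F s.1 := by
    intro L _ _ ζ z
    let i := ((sheafFiberPullIso (A := ModuleCat.{u + 1} Λ) g ζ).app F).symm
    refine Iff.trans ?_ (Function.Bijective.of_comp_iff' (show Function.Bijective i.hom from i.toLinearEquiv.bijective) _)
    exact (congrArg Function.Bijective (funext fun s : S =>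
      (ConcreteCategory.congr_hom (sheafFiberPullIso_germ g ζ F W₀ z) s.1).symm)).to_iff
  have hp0 : ∀ {L : Type u} [Field L] [IsSepClosed L] (ζ : Spec (CommRingCat.of L) ⟶ T)
      (z : (Scheme.pointSmallEtale ζ).fiber.obj ((EtCoh.bc g).obj W₀)),
      ptOf (bcFiberEquiv g ζ W₀ z) = (pullback.fst W₀.hom g).base (ptOf z) :=
    fun ζ z => Scheme.Hom.comp_apply _ _ _
  have hbz : Function.Bijective fun s : S => germ ζ z G (m s.1) :=
    (hm ζ z).2 ((bijective_germ_congr S _ w₀ ((hp0 ζ z).trans ((congrArg _ hz).trans hq))).2 hw₀)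
  obtain ⟨N, s₀, hs₀⟩ := Submodule.fg_iff_exists_fin_generating_family.1 hS
  have hSC := hST.restrict b
  choose x hx hxg using fun i : Fin N => hSC.exists_germ c (germ ζ c G (G.obj.map a.op (m (s₀ i))))
  obtain ⟨C', c₁, c', hc', heq⟩ := exists_forall_eq G.obj c (fun i : ULift.{u} (Fin N) => G.obj.map a.op (m (s₀ i.down)))
    (fun i => x i.down) (fun i => (hxg i.down).symm)
  have hSC' := hSC.restrict c₁
  let α : S →ₗ[Λ] G.obj.obj (op C') := (G.obj.map (c₁ ≫ a).op).hom ∘ₗ m.hom ∘ₗ S.subtype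
  have hmap : ∀ y : F.obj.obj (op W₀), G.obj.map (c₁ ≫ a).op (m y) = G.obj.map c₁.op (G.obj.map a.op (m y)) := fun y => by
    rw [op_comp, Functor.map_comp, ConcreteCategory.comp_apply]
  have hα : ∀ s, α s ∈ ((ST.map (G.obj.map b.op).hom).map (G.obj.map c₁.op).hom) := fun s => by
    suffices h : S ≤ ((ST.map (G.obj.map b.op).hom).map (G.obj.map c₁.op).hom).comap
        ((G.obj.map (c₁ ≫ a).op).hom ∘ₗ m.hom) from h s.2
    rw [← hs₀, Submodule.span_le]
    rintro _ ⟨i, rfl⟩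
    exact ⟨x i, hx i, ((hmap (s₀ i)).trans (heq ⟨i⟩)).symm⟩
  have hαz : ∀ {L : Type u} [Field L] [IsSepClosed L] (ζ : Spec (CommRingCat.of L) ⟶ T)
      (d : (Scheme.pointSmallEtale ζ).fiber.obj C') (s : S),
      germ ζ d G (α s) = germ ζ ((Scheme.pointSmallEtale ζ).fiber.map (c₁ ≫ a) d) G (m s.1) :=
    fun ζ d s => germ_map ζ (c₁ ≫ a) d G (m s.1)
  let α' : S → ((ST.map (G.obj.map b.op).hom).map (G.obj.map c₁.op).hom) := fun s => ⟨α s, hα s⟩
  have hα' : Function.Bijective α' := by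
    refine (Function.Bijective.of_comp_iff' (hSC'.2 L ζ c') α').1 ?_
    refine Eq.mp (congrArg Function.Bijective (funext fun s : S => ?_)) hbz
    refine Eq.trans ?_ (hαz ζ c' s).symm
    refine congrArg (fun p => germ ζ p G (m s.1)) ?_
    rw [Functor.map_comp_apply, hc']
    exact ha.symm
  -- the open neighbourhood
  haveI : AlgebraicGeometry.Etale ((c₁ ≫ a).left : C'.left ⟶ _) :=
    EtCoh.etaleMP.of_postcomp (W' := EtCoh.etaleMP) _ ((EtCoh.bc g).obj W₀).hom ((EtCoh.bc g).obj W₀).prop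
      (show AlgebraicGeometry.Etale (_ ≫ _) by rw [MorphismProperty.Over.w (c₁ ≫ a)]; exact C'.prop)
  obtain ⟨O, hO, hOeq⟩ := (pullback.fst W₀.hom g).isEmbedding.isInducing.isOpen_iff.1
    ((c₁ ≫ a).left.isOpenMap.isOpen_range)
  let W₁ : W₀.left.Opens := ⟨O, hO⟩
  haveI : AlgebraicGeometry.Etale W₀.hom := W₀.prop
  let W' : X.Etale := Scheme.Etale.mk (W₁.ι ≫ W₀.hom)
  let r : W' ⟶ W₀ := MorphismProperty.Over.homMk W₁.ι rfl
  have hcq : ((c₁ ≫ a).left : C'.left ⟶ _).base (ptOf c') = q := by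
    refine (ptOf_map (c₁ ≫ a) c').symm.trans ((congrArg ptOf ?_).trans hz)
    rw [Functor.map_comp_apply, hc']
    exact ha
  have hw₁ : ptOf w₀ ∈ O := hq ▸ (hOeq.ge ⟨ptOf c', hcq⟩ : (pullback.fst W₀.hom g).base q ∈ O)
  obtain ⟨w', -⟩ := Scheme.pointSmallEtaleFiberObjToPreimage_surjective ξ rfl W'
    ⟨(⟨ptOf w₀, hw₁⟩ : W₁.toScheme), (Scheme.Hom.comp_apply _ _ _).trans (hom_ptOf w₀)⟩
  refine ⟨Es k₀, W', w', S.map (F.obj.map r.op).hom, hk₀, hEc k₀, hS.map _, fun K _ _ η y hy => ?_⟩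
  let y₀ := (Scheme.pointSmallEtale η).fiber.map r y
  have hy₀ : ptOf y₀ = W₁.ι.base (ptOf y) := ptOf_map r y
  obtain ⟨t', ht'⟩ := hr.ge hy
  obtain ⟨o, ho, -⟩ := Scheme.Pullback.exists_preimage_pullback (f := W₀.hom) (g := g) (ptOf y₀) t'
    (((congrArg W₀.hom.base hy₀).trans (Scheme.Hom.comp_apply _ _ _).symm).trans ht'.symm)
  have hoO : (pullback.fst W₀.hom g).base o ∈ O := ho.symm ▸ hy₀.symm ▸ (ptOf y).2
  obtain ⟨d₀, hd₀⟩ := hOeq.le hoO
  obtain ⟨M, _, _, θ, d, hd⟩ := exists_algClosed_point C' d₀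
  have hb : Function.Bijective fun s : S => germ θ d G (α s) :=
    (hSC'.2 M θ d).comp hα'
  have hb' : Function.Bijective fun s : S => germ η y₀ F s.1 := by
    refine (bijective_germ_congr S _ y₀ ?_).1 ((hm θ ((Scheme.pointSmallEtale θ).fiber.map (c₁ ≫ a) d)).1
      (Eq.mp (congrArg Function.Bijective (funext fun s : S => hαz θ d s)) hb))
    refine (hp0 θ _).trans ?_
    rw [ptOf_map]
    exact (congrArg (fun p => (pullback.fst W₀.hom g).base (((c₁ ≫ a).left : C'.left ⟶ _).base p)) hd).trans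
      ((congrArg _ hd₀).trans ho)
  let e : S → S.map (F.obj.map r.op).hom := fun s => ⟨F.obj.map r.op s.1, Submodule.mem_map_of_mem s.2⟩
  have he : Function.Surjective e := fun ⟨_, s, hs, rfl⟩ => ⟨⟨s, hs⟩, rfl⟩
  let T' := fun s : S.map (F.obj.map r.op).hom => germ η y F s.1
  have hT : Function.Bijective (T' ∘ e) := by
    refine Eq.mp (congrArg Function.Bijective (funext fun s => ?_)) hb'
    exact (germ_map η r y F s.1).symm
  exact ⟨Function.Injective.of_comp_right hT.1 he, Function.Surjective.of_comp hT.2⟩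

end Groth.Agent.EtModLib
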