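import Groth.Agent.EtModLib.PullMod
import Groth.Agent.EtModLib.PullAb
import Groth.Agent.EtFound.UnivInjPush
import Mathlib.AlgebraicGeometry.Morphisms.ClosedImmersion

/-! local constancy is detected on a surjective closed subscheme -/

universe u

open CategoryTheory CategoryTheory.Limits AlgebraicGeometry Opposite

noncomputable section

set_option backward.isDefEq.respectTransparency false
set_option backward.isDefEq.respectTransparency.types false

namespace Groth.Agent.EtModLib

open EtFound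

variable {Λ : Type (u + 1)} [CommRing Λ] {X Y : Scheme.{u}} (f : X ⟶ Y) [IsClosedImmersion f] [Surjective f]

theorem nonempty_pushPull_iso (F : EtModW.Mod Λ Y) :
    Nonempty (F ≅ (EtModW.push Λ f).obj ((EtModW.pull Λ f).obj F)) := by
  haveI : PreservesColimitsOfSize.{0, 0} (EtCoh.pull f) := (EtCoh.pullPushAdj f).leftAdjoint_preservesColimits
  haveI : PreservesFiniteLimits (EtCoh.pull f) := EtFound.pull_preservesFiniteLimits f
  haveI : (EtCoh.pull f).Additive := Functor.additive_of_preserves_binary_products _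
  obtain ⟨τ⟩ := exists_toAb_leftAdjoint_iso (EtCoh.bc f) (J := Y.smallEtaleTopology) (K := X.smallEtaleTopology)
    (Λ := Λ) (L := EtModW.pull Λ f) (L' := EtCoh.pull f)
    (Functor.sheafAdjunctionContinuous _ _ _ _) (EtCoh.pullPushAdj f)
  haveI : ∀ G, IsIso ((EtCoh.pullPushAdj f).unit.app G) := unit_isIso_of_surjective f
  haveI : IsIso (EtCoh.pullPushAdj f).unit := NatIso.isIso_of_isIso_app _
  let e : toAb Y.smallEtaleTopology Λ ≅ EtModW.pull Λ f ⋙ EtModW.push Λ f ⋙ toAb Y.smallEtaleTopology Λ :=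
    (Functor.rightUnitor _).symm ≪≫ Functor.isoWhiskerLeft _ (asIso (EtCoh.pullPushAdj f).unit) ≪≫
      (Functor.associator _ _ _).symm ≪≫ Functor.isoWhiskerRight τ (EtCoh.push f) ≪≫ Functor.associator _ _ _
  let φ := e.app F
  have hφ : ∀ r, smulAb F r ≫ φ.hom = φ.hom ≫ smulAb ((EtModW.push Λ f).obj ((EtModW.pull Λ f).obj F)) r := by
    intro r
    let m : F ⟶ F := r • 𝟙 F
    have hm : (toAb Y.smallEtaleTopology Λ).map m = smulAb F r := rfl
    rw [← hm]
    refine (e.hom.naturality m).trans (congrArg (φ.hom ≫ ·) ?_)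
    haveI := (preservesFiniteLimits_pull (Λ := Λ) f).2.2
    haveI : (EtModW.push Λ f).Linear Λ := ⟨fun {_ _} _ _ => rfl⟩
    haveI : (EtModW.pull Λ f).Linear Λ := by
      refine ⟨fun {A B} a c => (((EtCoh.bc f).sheafAdjunctionContinuous (ModuleCat.{u + 1} Λ) Y.smallEtaleTopology X.smallEtaleTopology).homEquiv _ _).injective ?_⟩
      rw [Adjunction.homEquiv_unit, Adjunction.homEquiv_unit]
      refine (((EtCoh.bc f).sheafAdjunctionContinuous (ModuleCat.{u + 1} Λ) Y.smallEtaleTopology X.smallEtaleTopology).unit_naturality _).trans ?_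
      rw [(EtModW.push Λ f).map_smul, Linear.comp_smul,
        ((EtCoh.bc f).sheafAdjunctionContinuous (ModuleCat.{u + 1} Λ) Y.smallEtaleTopology X.smallEtaleTopology).unit_naturality a]
      exact Linear.smul_comp _ _ _ c a _
    show (toAb Y.smallEtaleTopology Λ).map ((EtModW.push Λ f).map ((EtModW.pull Λ f).map (r • 𝟙 F))) = _
    rw [(EtModW.pull Λ f).map_smul, (EtModW.pull Λ f).map_id, (EtModW.push Λ f).map_smul, (EtModW.push Λ f).map_id]
    rfl
  exact ⟨⟨homMk φ.hom hφ, homMk φ.inv (fun r => by rw [Iso.eq_inv_comp, ← Category.assoc, Iso.comp_inv_eq, hφ]),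
    toAb_map_injective φ.hom_inv_id, toAb_map_injective φ.inv_hom_id⟩⟩

theorem exists_lift_algClosed {Ω : Type u} [Field Ω] (η : Spec (CommRingCat.of Ω) ⟶ Y) :
    ∃ ξ : Spec (CommRingCat.of Ω) ⟶ X, ξ ≫ f = η := by
  haveI : IsClosedImmersion (pullback.snd f η) := inferInstance
  haveI : Surjective (pullback.snd f η) := MorphismProperty.pullback_snd f η ‹Surjective f›
  haveI := isIso_of_isClosedImmersion_of_surjective (pullback.snd f η)
  exact ⟨inv (pullback.snd f η) ≫ pullback.fst f η, by rw [Category.assoc, pullback.condition, IsIso.inv_hom_id_assoc]⟩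

theorem isFTLocConst_of_closedImmersion {F : EtModW.Mod Λ Y}
    (h : EtModW.IsFTLocConst Λ ((EtModW.pull Λ f).obj F)) : EtModW.IsFTLocConst Λ F := by
  obtain ⟨e⟩ := nonempty_pushPull_iso f F
  refine isFTLocConst_of_iso e.symm ?_
  rw [isFTLocConst_iff]
  intro y
  obtain ⟨x, rfl⟩ := f.surjective y
  obtain ⟨U, p, rfl, S, hS⟩ := (isFTLocConst_iff _).1 h x
  haveI := hasProducts_modules Λ
  have hl : Liftable f := liftable_of_isClosedImmersion f
  obtain ⟨V, c, w, hw⟩ := hl U p
  have hS' := hS.restrict c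
  refine ⟨V, (pullback.fst V.hom f).base w, ?_, S.map (((EtModW.pull Λ f).obj F).obj.map c.op).hom, hS'.1, ?_⟩
  · have h1 := congrArg (fun q : pullback V.hom f ⟶ Y => q.base w) (pullback.condition (f := V.hom) (g := f))
    simp only [Scheme.Hom.comp_apply] at h1
    refine h1.trans (congrArg f.base ?_)
    rw [← hw]
    exact (congrArg (fun q : ((EtCoh.bc f).obj V).left ⟶ X => q.base w) (MorphismProperty.Over.w c)).symm.trans
      (Scheme.Hom.comp_apply _ _ _)
  intro Ω _ _ η z
  obtain ⟨ξ, rfl⟩ := exists_lift_algClosed f η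
  obtain ⟨t, rfl⟩ := (bcFiberEquiv f ξ V).surjective z
  let G := (EtModW.pull Λ f).obj F
  have hb := pushStalkMap_bijective' (A := ModuleCat.{u + 1} Λ) f hl (univEmb_of_isPreimmersion f) ξ G
  have hc : ∀ s, pushStalkMap (A := ModuleCat.{u + 1} Λ) f ξ G (germ (ξ ≫ f) (bcFiberEquiv f ξ V t) ((EtModW.push Λ f).obj G) s) =
      germ ξ t G s := fun s =>
    (ConcreteCategory.comp_apply _ _ s).symm.trans (ConcreteCategory.congr_hom (pushStalkMap_germ f ξ G V t) s)
  have hbij := hS'.2 Ω ξ t
  refine ⟨fun a b hab => hbij.1 ?_, fun q => ?_⟩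
  · exact (hc a.1).symm.trans ((congrArg _ hab).trans (hc b.1))
  · obtain ⟨s, hs⟩ := hbij.2 (pushStalkMap (A := ModuleCat.{u + 1} Λ) f ξ G q)
    exact ⟨s, hb.1 ((hc s.1).trans hs)⟩

end Groth.Agent.EtModLib
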