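import Groth.Agent.EtModLib.Linear
import Groth.Agent.EtModLib.AdicFunctor
import Groth.Agent.ARLib.Strict

/-! Nullity of an adic system up to translation, detected by the limits of its stalk systems. -/

universe w v u

open CategoryTheory CategoryTheory.Limits AlgebraicGeometry Opposite ARSys

noncomputable section

set_option backward.isDefEq.respectTransparency false
set_option backward.isDefEq.respectTransparency.types false

namespace Groth.Agent.EtModLib

theorem subsingleton_of_isZero_limit {R : Type (u + 1)} [Ring R] (Y : ℕᵒᵖ ⥤ ModuleCat.{u + 1} R)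
    (hY : ∀ n, Function.Surjective (Y.map (homOfLE n.le_succ : n ⟶ n + 1).op).hom) (h : IsZero (limit Y)) (n : ℕ) :
    Subsingleton (Y.obj (op n)) := by
  refine subsingleton_of_forall_eq 0 fun y => ?_
  -- extend `y` to a compatible family
  choose s hs using hY
  let e : ∀ m, n ≤ m → Y.obj (op m) := fun m h => Nat.leRecOn h (fun {k} z => s k z) y
  have he : ∀ m (h : n ≤ m), (Y.map (homOfLE m.le_succ).op).hom (e (m + 1) (h.trans m.le_succ)) = e m h :=
    fun m h => by
      simp only [e]
      rw [Nat.leRecOn_succ h]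
      exact hs m _
  let c : ∀ m, ModuleCat.of R R ⟶ Y.obj (op m) := fun m =>
    ModuleCat.ofHom (LinearMap.toSpanSingleton R _ (e (n + m) (Nat.le_add_right n m))) ≫
      Y.map (homOfLE (Nat.le_add_left m n)).op
  let π := NatTrans.ofOpSequence (F := (Functor.const ℕᵒᵖ).obj (ModuleCat.of R R)) (G := Y) c fun m => by
    refine (Category.id_comp _).trans (Eq.trans ?_ (Category.assoc _ _ _).symm)
    rw [← Y.map_comp]
    refine ModuleCat.hom_ext (LinearMap.ext_ring ?_)
    show (Y.map _).hom (LinearMap.toSpanSingleton R _ _ 1) = (Y.map _).hom (LinearMap.toSpanSingleton R _ _ 1)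
    rw [LinearMap.toSpanSingleton_apply_one, LinearMap.toSpanSingleton_apply_one, ← he (n + m) (Nat.le_add_right n m)]
    rw [← LinearMap.comp_apply, ← ModuleCat.hom_comp, ← Y.map_comp]
    rfl
  have h0 : limit.lift Y ⟨_, π⟩ = 0 := h.eq_of_tgt _ _
  have h1 := limit.lift_π (⟨_, π⟩ : Cone Y) (op n)
  rw [h0, zero_comp] at h1
  have h2 : c n = 0 := h1.symm
  have h3 : (Y.map (homOfLE (Nat.le_add_left n n)).op).hom (e (n + n) (Nat.le_add_right n n)) = 0 := by
    have := congr(($h2).hom (1 : R))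
    simpa [c] using this
  have key : ∀ d : ℕ, (Y.map (homOfLE (Nat.le_add_right n d)).op).hom (e (n + d) (Nat.le_add_right n d)) = y := by
    intro d
    induction d with
    | zero =>
      simp only [e, Nat.leRecOn_self]
      exact congr(($(Y.map_id (op n))).hom y)
    | succ d ih =>
      rw [← ih, ← he (n + d) (Nat.le_add_right n d), ← LinearMap.comp_apply, ← ModuleCat.hom_comp, ← Y.map_comp]
      rfl
  exact (key n).symm.trans h3

variable {Λ : Type (u + 1)} [CommRing Λ] {X : Scheme.{u}}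

theorem isZero_of_stalks {F : EtModW.Mod Λ X}
    (h : ∀ (Ω : Type u) [Field Ω] [IsSepClosed Ω] (x : Spec (CommRingCat.of Ω) ⟶ X),
      Subsingleton ((EtModW.stalk Λ x).obj F)) : IsZero F := by
  refine (IsZero.iff_id_eq_zero _).2 (Sheaf.hom_ext (NatTrans.ext (funext fun U => ModuleCat.hom_ext
    (LinearMap.ext fun s => ?_))))
  show s = 0
  have hsh : Presieve.IsSheaf X.smallEtaleTopology (F.obj ⋙ forget _) :=
    (isSheaf_iff_isSheaf_of_type _ _).1 ((Presheaf.isSheaf_iff_isSheaf_forget X.smallEtaleTopology F.obj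
      (forget (ModuleCat.{u + 1} Λ))).1 F.2)
  refine ((hsh _ (EtFound.equalizerSieve_mem_of_germs F.obj U.unop s 0 fun Ω _ _ ξ u => ?_)).isSeparatedFor).ext
    fun V g hg => hg
  exact (h Ω ξ).elim _ _

theorem isARNull_iff_stalk_limits [IsNoetherianRing Λ] (I : Ideal Λ) (F Y : PS (EtModW.Mod Λ X)) (v : Y ⟶ F)
    (hY : IsAdic I Y) (hv : IsARIso v) :
    IsARNull F ↔ ∀ (Ω : Type u) [Field Ω] [IsSepClosed Ω] (x : Spec (CommRingCat.of Ω) ⟶ X),
      IsZero (limit (F ⋙ EtModW.stalk Λ x)) := by
  refine ⟨fun hF Ω _ _ x => ?_, fun h => ?_⟩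
  · obtain ⟨r, hr⟩ := hF
    obtain ⟨_, _, _⟩ := linear_stalk (Λ := Λ) x
    refine (IsZero.iff_id_eq_zero _).2 (limit.hom_ext fun n => ?_)
    obtain ⟨n⟩ := n
    rw [Category.id_comp, zero_comp, ← limit.w (F ⋙ EtModW.stalk Λ x) (homOfLE (Nat.le_add_right n r)).op]
    show _ ≫ (EtModW.stalk Λ x).map (shiftMap F r n) = 0
    rw [hr n, Functor.map_zero, comp_zero]
  · have hz : ∀ n, IsZero (Y.obj (op n)) := fun n => isZero_of_stalks fun Ω _ _ x => by
      obtain ⟨_, _, _⟩ := linear_stalk (Λ := Λ) x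
      have hs := ARLib.isStrict_of_isAdic (isAdic_map (EtModW.stalk Λ x) (IsNoetherian.noetherian I) hY)
      haveI := ARLib.isIso_limMap _ (Functor.whiskerRight v (EtModW.stalk Λ x)) (isARIso_map _ hv)
      refine subsingleton_of_isZero_limit (Y ⋙ EtModW.stalk Λ x) (fun m => ?_)
        ((h Ω x).of_iso (asIso (limMap (Functor.whiskerRight v (EtModW.stalk Λ x))))) n
      haveI := hs m (m + 1) m.le_succ
      exact (ModuleCat.epi_iff_surjective _).1 this
    obtain ⟨r, hr⟩ := (ARLib.isARNull_cokernel_iff v).1 hv.2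
    refine (ARLib.isARNull_iff F).2 ⟨r, fun n m hnm hm => ?_⟩
    have := hr n m hnm hm _ (𝟙 (F.obj (op n))) (by rw [Category.comp_id]; exact (hz n).eq_of_src _ _)
    rwa [Category.comp_id] at this

end Groth.Agent.EtModLib
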