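import Groth.Agent.EtModLib.AdicStrata
import Groth.Agent.EtModLib.StalkNull
import Groth.Agent.EtFound.NoethACC

/-! constructible sheaves of modules over Noetherian schemes are Noetherian objects -/

universe u

open CategoryTheory CategoryTheory.Limits AlgebraicGeometry Opposite TopologicalSpace

noncomputable section

set_option backward.isDefEq.respectTransparency false
set_option backward.isDefEq.respectTransparency.types false

namespace Groth.Agent.EtModLib

open EtFound (exists_lift_point exists_generic_open exists_forall_eq exists_algClosed_point base_of_point exists_geomPoint isConstructible_preimage_affine)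

variable {Λ : Type (u + 1)} [CommRing Λ] {X : Scheme.{u}}

theorem germ_eq_zero_of_specializes {R : EtModW.Mod Λ X} {U : X.Etale} (s : R.obj.obj (op U))
    {Ω : Type u} [Field Ω] [IsSepClosed Ω] {ξ : Spec (CommRingCat.of Ω) ⟶ X} (u : (Scheme.pointSmallEtale ξ).fiber.obj U)
    {k : Type u} [Field k] [IsSepClosed k] {ζ : Spec (CommRingCat.of k) ⟶ X} (z : (Scheme.pointSmallEtale ζ).fiber.obj U)
    (h : (u.left : Spec (CommRingCat.of Ω) ⟶ U.left).base (default : Spec (CommRingCat.of Ω)) ⤳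
      (z.left : Spec (CommRingCat.of k) ⟶ U.left).base (default : Spec (CommRingCat.of k)))
    (h0 : germ ζ z R s = 0) : germ ξ u R s = 0 := by
  rw [← map_zero (germ ζ z R)] at h0
  obtain ⟨V, f, v, hv, hf⟩ := (germ_eq_iff ζ z _ _ _).1 h0
  rw [map_zero] at hf
  subst hv
  haveI : Etale f.left := EtFound.etale_left f
  obtain ⟨y₀, hy₀⟩ := h.mem_open f.left.isOpenMap.isOpen_range
    ⟨(v.left : Spec (CommRingCat.of k) ⟶ V.left).base (default : Spec (CommRingCat.of k)),
      (Scheme.Hom.comp_apply _ _ _).symm⟩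
  obtain ⟨v₀, hv₀, -⟩ := exists_lift_point f u y₀ hy₀
  rw [← hv₀, ← germ_map, hf, map_zero]

theorem hom_eq_zero_of_stalks {F G : EtModW.Mod Λ X} (φ : F ⟶ G)
    (h : ∀ (Ω : Type u) [Field Ω] [IsAlgClosed Ω] (ξ : Spec (CommRingCat.of Ω) ⟶ X) c,
      ((EtModW.stalk Λ ξ).map φ).hom c = 0) : φ = 0 := by
  refine Sheaf.hom_ext (NatTrans.ext (funext fun U => ModuleCat.hom_ext (LinearMap.ext fun s => ?_)))
  show φ.hom.app U s = 0
  have hsh : Presieve.IsSheaf X.smallEtaleTopology (G.obj ⋙ forget _) :=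
    (isSheaf_iff_isSheaf_of_type _ _).1 ((Presheaf.isSheaf_iff_isSheaf_forget X.smallEtaleTopology G.obj
      (forget (ModuleCat.{u + 1} Λ))).1 G.2)
  refine ((hsh _ (EtFound.equalizerSieve_mem_of_germs G.obj U.unop (φ.hom.app U s) 0 fun Ω _ _ ξ u => ?_)).isSeparatedFor).ext
    fun V g hg => hg
  show germ ξ u G _ = germ ξ u G 0
  rw [← germ_app, map_zero]
  obtain ⟨Ω', _, _, ξ', hξ'⟩ := exists_geomPoint (ξ.base (default : Spec (CommRingCat.of Ω)))
  obtain ⟨e⟩ := nonempty_stalk_iso (Λ := Λ) ξ ξ' hξ'.symm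
  refine (e.app _).toLinearEquiv.map_eq_zero_iff.1 ?_
  exact (NatTrans.naturality_apply e.hom φ _).trans (h Ω' ξ' _)

/-- at a generic point, out of a locally constant sheaf of finite type, kernels of an increasing family
stabilise and become constant -/
theorem exists_kernel_nhd [IsNoetherianRing Λ] [IsLocallyNoetherian X] {t : X} (ht : ∀ y, t ⤳ y)
    {F : EtModW.Mod Λ X} (hF : EtModW.IsFTLocConst Λ F) (Q : ℕ → EtModW.Mod Λ X) (π : ∀ m, F ⟶ Q m)
    (hmono : ∀ {a b : ℕ}, a ≤ b → ∀ (Ω : Type u) [Field Ω] [IsSepClosed Ω] (ξ : Spec (CommRingCat.of Ω) ⟶ X) c,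
      ((EtModW.stalk Λ ξ).map (π a)).hom c = 0 → ((EtModW.stalk Λ ξ).map (π b)).hom c = 0) :
    ∃ (N : ℕ) (V : X.Etale) (p : V.left), V.hom.base p = t ∧ (∃ S, FTConst (kernel (π N)) V S) ∧
      ∀ m (Ω : Type u) [Field Ω] [IsAlgClosed Ω] (ζ : Spec (CommRingCat.of Ω) ⟶ X)
        (_ : (Scheme.pointSmallEtale ζ).fiber.obj V) c,
        ((EtModW.stalk Λ ζ).map (π m)).hom c = 0 → ((EtModW.stalk Λ ζ).map (π N)).hom c = 0 := by
  obtain ⟨U, p, hp, S, hS⟩ := (isFTLocConst_iff F).1 hF t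
  obtain ⟨W, hpW, hW⟩ := exists_generic_open ht U hp
  obtain ⟨Ω, _, _, ξ, u, hu⟩ := exists_algClosed_point U p
  haveI := isNoetherian_of_fg_of_noetherian S hS.1
  let K : ℕ →o Submodule Λ S :=
    ⟨fun m => LinearMap.ker (((EtModW.stalk Λ ξ).map (π m)).hom ∘ₗ germ ξ u F ∘ₗ S.subtype),
      fun a b h s hs => hmono h Ω ξ _ hs⟩
  obtain ⟨N, hN⟩ := monotone_stabilizes_iff_noetherian.2 ‹IsNoetherian Λ S› K
  obtain ⟨n, g₀, hg₀⟩ := Submodule.fg_iff_exists_fin_generating_family.1 (IsNoetherian.noetherian (K N))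
  let g : Fin n → F.obj.obj (op U) := fun j => (g₀ j).1
  have hg : ∀ j, germ ξ u (Q N) ((π N).hom.app (op U) (g j)) = germ ξ u (Q N) 0 := fun j => by
    rw [← germ_app, map_zero]
    exact (hg₀ ▸ Submodule.subset_span ⟨j, rfl⟩ : g₀ j ∈ K N)
  obtain ⟨V₁, c₁, v₁, hv₁, hc₁⟩ := exists_forall_eq (Q N).obj u (fun j : ULift.{u} (Fin n) => (π N).hom.app (op U) (g j.down))
    (fun _ => 0) (fun j => hg j.down)
  let O : V₁.left.Opens := c₁.left ⁻¹ᵁ W
  haveI : Etale V₁.hom := V₁.prop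
  let V : X.Etale := Scheme.Etale.mk (O.ι ≫ V₁.hom)
  let c₂ : V ⟶ V₁ := MorphismProperty.Over.homMk O.ι rfl
  have hO : (v₁.left : Spec (CommRingCat.of Ω) ⟶ V₁.left).base (default : Spec (CommRingCat.of Ω)) ∈ O := by
    show c₁.left.base _ ∈ W
    refine Set.mem_of_eq_of_mem ?_ hpW
    rw [← hu, ← hv₁]
    exact (Scheme.Hom.comp_apply _ _ _).symm
  obtain ⟨v, hv, -⟩ := exists_lift_point c₂ v₁ ⟨_, hO⟩ rfl
  let c : V ⟶ U := c₂ ≫ c₁
  have hS' := hS.restrict c
  have hvan : ∀ s : S, s ∈ K N → (π N).hom.app (op V) (F.obj.map c.op s.1) = 0 := fun s hs => by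
    let T : S →ₗ[Λ] (Q N).obj.obj (op V) := ((π N).hom.app (op V)).hom ∘ₗ (F.obj.map c.op).hom ∘ₗ S.subtype
    suffices h : K N ≤ LinearMap.ker T from h hs
    rw [← hg₀, Submodule.span_le]
    rintro _ ⟨j, rfl⟩
    show (π N).hom.app (op V) (F.obj.map c.op (g j)) = 0
    rw [NatTrans.naturality_apply (π N).hom, show c.op = c₁.op ≫ c₂.op from rfl, Functor.map_comp,
      ConcreteCategory.comp_apply]
    exact (congrArg _ ((hc₁ ⟨j⟩).trans (map_zero _))).trans (map_zero _)
  have hgen : ∀ m (k : Type u) [Field k] [IsAlgClosed k] (ζ : Spec (CommRingCat.of k) ⟶ X)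
      (z : (Scheme.pointSmallEtale ζ).fiber.obj V) (s : S),
      ((EtModW.stalk Λ ζ).map (π m)).hom (germ ζ z F (F.obj.map c.op s.1)) = 0 → s ∈ K N := fun m k _ _ ζ z s hs => by
    have hz : (((Scheme.pointSmallEtale ζ).fiber.map c z).left : Spec (CommRingCat.of k) ⟶ U.left).base
        (default : Spec (CommRingCat.of k)) ∈ W := by
      have hmem : ((z.left : Spec (CommRingCat.of k) ⟶ V.left) ≫ c.left).base (default : Spec (CommRingCat.of k)) ∈ W := by
        rw [Scheme.Hom.comp_apply]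
        exact (z.left.base (default : Spec (CommRingCat.of k)) : O.toScheme).2
      exact hmem
    have h1 : germ ζ ((Scheme.pointSmallEtale ζ).fiber.map c z) (Q m) ((π m).hom.app (op U) s.1) = 0 := by
      rw [← germ_app, ← germ_map]
      exact hs
    have h2 : germ ξ u (Q m) ((π m).hom.app (op U) s.1) = 0 :=
      germ_eq_zero_of_specializes _ u _ (hu ▸ hW _ hz) h1
    have h3 : s ∈ K m := (germ_app ξ u (π m) s.1).trans h2
    exact (hN (max N m) (le_max_left N m)).ge (K.monotone (le_max_right N m) h3)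
  refine ⟨N, V, ((v.left : Spec (CommRingCat.of Ω) ⟶ V.left).base (default : Spec (CommRingCat.of Ω))), ?_, ?_, ?_⟩
  · refine (base_of_point v).trans ((base_of_point u).symm.trans ?_)
    rw [hu, hp]
  · let i := ((kernel.ι (π N)).hom.app (op V)).hom
    have hi : Function.Injective i := injective_app (kernel.ι (π N)) V
    let R : Submodule Λ (F.obj.obj (op V)) :=
      (K N).map ((F.obj.map c.op).hom ∘ₗ S.subtype)
    refine ⟨R.comap i, ?_, fun k _ _ ζ z => ⟨fun a b e => Subtype.ext (hi ?_), fun q => ?_⟩⟩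
    · refine Submodule.fg_of_fg_map_injective i hi ?_
      rw [Submodule.map_comap_eq]
      exact Submodule.FG.of_le ((IsNoetherian.noetherian (K N)).map _ : R.FG) inf_le_right
    · obtain ⟨sa, -, ha⟩ := a.2
      obtain ⟨sb, -, hb⟩ := b.2
      refine hS'.eq_of_germ z ⟨sa.1, sa.2, ha⟩ ⟨sb.1, sb.2, hb⟩ ?_
      exact (germ_app ζ z (kernel.ι (π N)) a.1).symm.trans ((congrArg _ e).trans (germ_app ζ z (kernel.ι (π N)) b.1))
    · obtain ⟨_, ⟨s, hs, rfl⟩, hsq⟩ := hS'.exists_germ z (((EtModW.stalk Λ ζ).map (kernel.ι (π N))).hom q)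
      have hsK : (⟨s, hs⟩ : S) ∈ K N := hgen N k ζ z ⟨s, hs⟩ (by
        show ((EtModW.stalk Λ ζ).map (π N)).hom (germ ζ z F (F.obj.map c.op s)) = 0
        rw [hsq]
        exact stalk_zero_apply (S := ShortComplex.mk (kernel.ι (π N)) (π N) (kernel.condition _)) ζ q)
      obtain ⟨d, hd⟩ := exists_app_eq (S := ShortComplex.mk (kernel.ι (π N)) (π N) (kernel.condition _))
        (ShortComplex.exact_of_f_is_kernel _ (kernelIsKernel _)) V (F.obj.map c.op s) (hvan ⟨s, hs⟩ hsK)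
      refine ⟨⟨d, ⟨⟨s, hs⟩, hsK, hd.symm⟩⟩, injective_stalk (kernel.ι (π N)) ζ ?_⟩
      exact (germ_app ζ z (kernel.ι (π N)) d).trans ((congrArg _ hd).trans hsq)
  · intro m k _ _ ζ z q hq
    obtain ⟨_, ⟨s, hs, rfl⟩, hsq⟩ := hS'.exists_germ z q
    subst hsq
    rw [germ_app]
    exact (congrArg (germ ζ z (Q N)) (hvan ⟨s, hs⟩ (hgen m k ζ z ⟨s, hs⟩ hq))).trans (map_zero _)

theorem exists_generic_piece {F : EtModW.Mod Λ X} (hF : EtModW.IsConstructible Λ F) (x : X) :
    ∃ V : X.Opens, x ∈ V ∧ IsPiece F ((V : Set X) ∩ closure {x}) := by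
  obtain ⟨U, hU, hxU, -⟩ := exists_isAffineOpen_mem_and_subset (U := (⊤ : X.Opens)) (x := x) trivial
  obtain ⟨n, E, hE, -, hu⟩ := exists_pieces (hF U hU)
  obtain ⟨k, hk⟩ := Set.mem_iUnion.1 (hu.ge hxU)
  obtain ⟨O, C, hO, hC, e⟩ := (hE k).isLocallyClosed
  rw [e] at hk
  exact ⟨⟨O, hO⟩, hk.1, (hE k).mono (fun y hy => e ▸ ⟨hy.1, closure_minimal (by simpa using hk.2) hC hy.2⟩)
    (hO.isLocallyClosed.inter isClosed_closure.isLocallyClosed)⟩

/-- a piece near every point along its closure gives constructibility -/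
theorem isConstructible_of_generic [IsLocallyNoetherian X] {F : EtModW.Mod Λ X}
    (h : ∀ x : X, ∃ V : X.Opens, x ∈ V ∧ IsPiece F ((V : Set X) ∩ closure {x})) : EtModW.IsConstructible Λ F := by
  intro U hU
  haveI : NoetherianSpace ↥(U : Set X) := by
    have : IsNoetherianRing Γ(X, U) := IsLocallyNoetherian.component_noetherian ⟨U, hU⟩
    exact noetherianSpace_of_isAffineOpen U hU
  have key : ∃ (n : ℕ) (E : Fin n → Set X), (∀ k, IsPiece F (E k) ∧ E k ⊆ U) ∧
      (Set.univ : Set ↥(U : Set X)) ⊆ Subtype.val ⁻¹' ⋃ k, E k := by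
    refine SpecLib.irred_induction (P := fun C : Set ↥(U : Set X) => ∃ (n : ℕ) (E : Fin n → Set X),
      (∀ k, IsPiece F (E k) ∧ E k ⊆ U) ∧ C ⊆ Subtype.val ⁻¹' ⋃ k, E k) ⟨0, Fin.elim0, fun k => k.elim0, by simp⟩
      (fun A B _ _ => ?_) (fun Y hY hirr ih => ?_) isClosed_univ
    · rintro ⟨n, E, hE, hA⟩ ⟨m, E', hE', hB⟩
      refine ⟨n + m, Fin.append E E', fun k => ?_, Set.union_subset (hA.trans ?_) (hB.trans ?_)⟩
      · refine Fin.addCases (fun i => ?_) (fun i => ?_) k
        · rw [Fin.append_left]; exact hE i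
        · rw [Fin.append_right]; exact hE' i
      · exact Set.preimage_mono (Set.iUnion_subset fun i => Set.subset_iUnion_of_subset (Fin.castAdd m i)
          (Fin.append_left E E' i).ge)
      · exact Set.preimage_mono (Set.iUnion_subset fun i => Set.subset_iUnion_of_subset (Fin.natAdd n i)
          (Fin.append_right E E' i).ge)
    · haveI : QuasiSober ↥(U : Set X) := U.isOpenEmbedding'.quasiSober
      have hx : IsGenericPoint hirr.genericPoint Y := by
        simpa [hY.closure_eq] using hirr.isGenericPoint_genericPoint_closure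
      obtain ⟨V, hxV, hV⟩ := h hirr.genericPoint.1
      let S := (V : Set X) ∩ (U : Set X) ∩ closure {hirr.genericPoint.1}
      have hS : IsPiece F S := hV.mono (fun y hy => ⟨hy.1.1, hy.2⟩)
        ((V.2.inter U.2).isLocallyClosed.inter isClosed_closure.isLocallyClosed)
      obtain ⟨n, E, hE, hEc⟩ := ih (Y ∩ (Subtype.val ⁻¹' (V : Set X))ᶜ)
        (hY.inter (V.2.preimage continuous_subtype_val).isClosed_compl)
        (Set.inter_subset_left.ssubset_of_ne fun e => (e.ge hx.mem).2 hxV)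
      refine ⟨n + 1, Fin.cons S E, fun k => ?_, fun y hy => ?_⟩
      · cases k using Fin.cases with
        | zero => exact ⟨hS, fun y hy => hy.1.2⟩
        | succ i => simpa using hE i
      · by_cases hyV : (y : X) ∈ V
        · refine Set.mem_iUnion.2 ⟨0, ⟨hyV, y.2⟩, ?_⟩
          exact ((hx.specializes hy).map continuous_subtype_val).mem_closure
        · obtain ⟨i, hi⟩ := Set.mem_iUnion.1 (hEc ⟨hy, hyV⟩)
          exact Set.mem_iUnion.2 ⟨i.succ, by simpa using hi⟩
  obtain ⟨n, E, hE, hcov⟩ := key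
  refine adaptedStrata_of_cover U.2.isLocallyClosed E (fun k => (hE k).1) (fun k => ?_)
    fun x hx => hcov (Set.mem_univ ⟨x, hx⟩)
  obtain ⟨O, C, hO, hC, e⟩ := (hE k).1.isLocallyClosed
  rw [e, Set.preimage_inter]
  exact (SpecLib.isConstructible_of_isOpen (hO.preimage continuous_subtype_val)).inter
    (SpecLib.isConstructible_of_isClosed (hC.preimage continuous_subtype_val))

theorem isConstructible_kernel_noeth [IsNoetherianRing Λ] [IsLocallyNoetherian X] {F Q : EtModW.Mod Λ X}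
    (hF : EtModW.IsConstructible Λ F) (π : F ⟶ Q) : EtModW.IsConstructible Λ (kernel π) := by
  refine isConstructible_of_generic fun x => ?_
  obtain ⟨V, hxV, T, g, hg, hr, hT⟩ := exists_generic_piece hF x
  haveI := hg
  haveI : IsLocallyNoetherian T := LocallyOfFiniteType.isLocallyNoetherian g
  obtain ⟨t, ht⟩ : x ∈ Set.range g.base := hr.ge ⟨hxV, subset_closure rfl⟩
  have htg : ∀ y, t ⤳ y := fun y => g.isEmbedding.isInducing.specializes_iff.1
    ((specializes_of_eq ht).trans (specializes_iff_mem_closure.2 ((hr.le ⟨y, rfl⟩).2)))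
  obtain ⟨N, W, p, hp, ⟨S, hS⟩, -⟩ := exists_kernel_nhd htg hT (fun _ => (EtModW.pull Λ g).obj Q)
    (fun _ => (EtModW.pull Λ g).map π) (fun _ _ _ _ _ _ h => h)
  haveI : Etale W.hom := W.prop
  let O : T.Opens := ⟨Set.range W.hom.base, W.hom.isOpenMap.isOpen_range⟩
  obtain ⟨O', hO', hOe⟩ := g.isEmbedding.isInducing.isOpen_iff.1 O.2
  have hrange : Set.range (O.ι ≫ g).base = O' ∩ (V : Set X) ∩ closure {x} := by
    rw [Scheme.Hom.comp_base, TopCat.coe_comp, Set.range_comp, Scheme.Opens.range_ι]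
    ext y
    constructor
    · rintro ⟨q, hq, rfl⟩
      exact ⟨⟨hOe.ge hq, (hr.le ⟨q, rfl⟩).1⟩, (hr.le ⟨q, rfl⟩).2⟩
    · rintro ⟨⟨h1, h2⟩, h3⟩
      obtain ⟨q, rfl⟩ := hr.ge ⟨h2, h3⟩
      exact ⟨q, hOe.le h1, rfl⟩
  refine ⟨⟨O', hO'⟩ ⊓ V, ⟨ht ▸ hOe.ge ⟨p, hp⟩, hxV⟩, O.toScheme, O.ι ≫ g, inferInstance, hrange, ?_⟩
  obtain ⟨_, _, _⟩ := preservesFiniteLimits_pull (Λ := Λ) g
  exact isFTLocConst_of_iso ((EtModW.pull Λ O.ι).mapIso (PreservesKernel.iso (EtModW.pull Λ g) π).symm ≪≫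
    ((pullCompMod O.ι g).app (kernel π)).symm) (isFTLocConst_pull_of_ftConst hS O subset_rfl)

theorem isConstructible_of_epi [IsNoetherianRing Λ] [IsLocallyNoetherian X] {F Q : EtModW.Mod Λ X}
    (hF : EtModW.IsConstructible Λ F) (π : F ⟶ Q) [Epi π] : EtModW.IsConstructible Λ Q :=
  isConstructible_of_iso
    ((cokernelIsCokernel (kernel.ι π)).coconePointUniqueUpToIso
      (Abelian.epiIsCokernelOfKernel (KernelFork.ofι (kernel.ι π) (kernel.condition π)) (kernelIsKernel π)))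
    (isConstructible_cokernel (kernel.ι π) (isConstructible_kernel_noeth hF π) hF)

theorem isNoetherianObject_of_isConstructible [IsNoetherianRing Λ] [IsNoetherian X] {F : EtModW.Mod Λ X}
    (hF : EtModW.IsConstructible Λ F) : IsNoetherianObject F := by
  rw [isNoetherianObject_iff_monotone_chain_condition]
  intro c
  let π : ∀ m, F ⟶ cokernel (c m).arrow := fun m => cokernel.π _
  let Good : Set X → ℕ → Prop := fun C N => ∀ m (k : Type u) [Field k] [IsAlgClosed k]
    (ζ : Spec (CommRingCat.of k) ⟶ X), ζ.base (default : Spec (CommRingCat.of k)) ∈ C → ∀ q,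
      ((EtModW.stalk Λ ζ).map (π m)).hom q = 0 → ((EtModW.stalk Λ ζ).map (π N)).hom q = 0
  have hmono : ∀ {a b : ℕ}, a ≤ b → ∀ (Ω : Type u) [Field Ω] [IsSepClosed Ω] (ξ : Spec (CommRingCat.of Ω) ⟶ X) q,
      ((EtModW.stalk Λ ξ).map (π a)).hom q = 0 → ((EtModW.stalk Λ ξ).map (π b)).hom q = 0 :=
    fun {a b} h Ω _ _ ξ q hq => by
      let d : cokernel (c a).arrow ⟶ cokernel (c b).arrow := cokernel.desc _ (π b) (by
        rw [← Subobject.ofLE_arrow (c.monotone h), Category.assoc, cokernel.condition, comp_zero])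
      rw [show π b = π a ≫ d from (cokernel.π_desc _ _ _).symm, Functor.map_comp, ModuleCat.hom_comp,
        LinearMap.comp_apply, hq, map_zero]
  have mono : ∀ {C : Set X} {N N' : ℕ}, N ≤ N' → Good C N → Good C N' :=
    fun h hg m k _ _ ζ hζ q hq => hmono h k ζ q (hg m k ζ hζ q hq)
  obtain ⟨N, hN⟩ : ∃ N, Good Set.univ N := by
    refine SpecLib.irred_induction (P := fun C => ∃ N, Good C N) ⟨0, fun m k _ _ ζ hζ => hζ.elim⟩
      (fun A B _ _ ⟨a, ha⟩ ⟨b, hb⟩ => ⟨max a b, fun m k _ _ ζ hζ => hζ.elim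
        (mono (le_max_left a b) ha m k ζ) (mono (le_max_right a b) hb m k ζ)⟩) (fun Y hY hirr ih => ?_) isClosed_univ
    have hx : IsGenericPoint hirr.genericPoint Y := by
      simpa [hY.closure_eq] using hirr.isGenericPoint_genericPoint_closure
    obtain ⟨V, hxV, T, g, hg, hr, hT⟩ := exists_generic_piece hF hirr.genericPoint
    haveI := hg
    haveI : IsLocallyNoetherian T := LocallyOfFiniteType.isLocallyNoetherian g
    obtain ⟨t, ht⟩ : hirr.genericPoint ∈ Set.range g.base := hr.ge ⟨hxV, subset_closure rfl⟩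
    have htg : ∀ y, t ⤳ y := fun y => g.isEmbedding.isInducing.specializes_iff.1
      ((specializes_of_eq ht).trans (specializes_iff_mem_closure.2 ((hr.le ⟨y, rfl⟩).2)))
    have htr : ∀ (m : ℕ) (L : Type u) [Field L] [IsSepClosed L] (η : Spec (CommRingCat.of L) ⟶ T) q,
        ((EtModW.stalk Λ η).map ((EtModW.pull Λ g).map (π m))).hom q = 0 ↔
          ((EtModW.stalk Λ (η ≫ g)).map (π m)).hom ((stalkPull g η).hom.app F q) = 0 := fun m L _ _ η q => by
      have h1 : (stalkPull g η).hom.app _ (((EtModW.stalk Λ η).map ((EtModW.pull Λ g).map (π m))).hom q) =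
          ((EtModW.stalk Λ (η ≫ g)).map (π m)).hom ((stalkPull g η).hom.app F q) :=
        NatTrans.naturality_apply (stalkPull g η).hom (π m) q
      rw [← h1]
      exact ⟨fun h => by rw [h, map_zero], fun h => ((stalkPull g η).app _).toLinearEquiv.map_eq_zero_iff.1 h⟩
    obtain ⟨N₀, W, p, hp, -, hW⟩ := exists_kernel_nhd htg hT (fun m => (EtModW.pull Λ g).obj (cokernel (c m).arrow))
      (fun m => (EtModW.pull Λ g).map (π m)) (fun {a b} h L _ _ η q hq => (htr b L η q).2 (hmono h L _ _ ((htr a L η q).1 hq)))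
    haveI : Etale W.hom := W.prop
    obtain ⟨O', hO', hOe⟩ := g.isEmbedding.isInducing.isOpen_iff.1 W.hom.isOpenMap.isOpen_range
    let V' : Set X := V ∩ O'
    obtain ⟨N₁, hN₁⟩ := ih (Y ∩ V'ᶜ) (hY.inter (V.2.inter hO').isClosed_compl)
      (Set.inter_subset_left.ssubset_of_ne fun e => (e.ge hx.mem).2
        ⟨hxV, Set.mem_of_eq_of_mem ht.symm (hOe.ge ⟨p, hp⟩)⟩)
    refine ⟨max N₀ N₁, fun m k _ _ ζ hζ => ?_⟩
    by_cases hζV : ζ.base (default : Spec (CommRingCat.of k)) ∈ V'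
    · intro q hq
      refine hmono (le_max_left N₀ N₁) k ζ q ?_
      obtain ⟨y, hy⟩ : ζ.base (default : Spec (CommRingCat.of k)) ∈ Set.range g.base :=
        hr.ge ⟨hζV.1, (hx.specializes hζ).mem_closure⟩
      obtain ⟨w, hw⟩ : y ∈ Set.range W.hom.base := hOe.le (show g.base y ∈ O' from hy.symm ▸ hζV.2)
      obtain ⟨k', _, _, ζ', z, hz⟩ := exists_algClosed_point W w
      have hbase : (ζ' ≫ g).base (default : Spec (CommRingCat.of k')) = ζ.base (default : Spec (CommRingCat.of k)) :=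
        (Scheme.Hom.comp_apply _ _ _).trans ((congrArg g.base ((base_of_point z).symm.trans ((congrArg _ hz).trans hw))).trans hy)
      have key : ∀ q', ((EtModW.stalk Λ (ζ' ≫ g)).map (π m)).hom q' = 0 →
          ((EtModW.stalk Λ (ζ' ≫ g)).map (π N₀)).hom q' = 0 := fun q' hq' => by
        obtain ⟨q'', rfl⟩ := ((stalkPull (Λ := Λ) g ζ').app F).toLinearEquiv.surjective q'
        exact (htr N₀ k' ζ' q'').1 (hW m k' ζ' z q'' ((htr m k' ζ' q'').2 hq'))
      obtain ⟨e⟩ := nonempty_stalk_iso (Λ := Λ) ζ (ζ' ≫ g) hbase.symm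
      have hn : ∀ (l : ℕ) d, (e.hom.app _) (((EtModW.stalk Λ ζ).map (π l)).hom d) =
          ((EtModW.stalk Λ (ζ' ≫ g)).map (π l)).hom (e.hom.app F d) := fun l d => NatTrans.naturality_apply e.hom (π l) d
      refine (e.app _).toLinearEquiv.map_eq_zero_iff.1 ((hn N₀ q).trans (key _ ?_))
      rw [← hn, hq, map_zero]
    · exact mono (C := Y ∩ V'ᶜ) (le_max_right N₀ N₁) hN₁ m k ζ ⟨hζ, hζV⟩
  refine ⟨N, fun m h => le_antisymm (c.monotone h) ?_⟩
  have e : (c m).arrow ≫ π N = 0 := hom_eq_zero_of_stalks _ fun k _ _ ζ q => by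
    rw [Functor.map_comp, ModuleCat.hom_comp, LinearMap.comp_apply]
    exact hN m k ζ (Set.mem_univ _) _
      (stalk_zero_apply (S := ShortComplex.mk (c m).arrow (π m) (cokernel.condition _)) ζ q)
  exact Subobject.le_of_comm (Abelian.monoLift _ _ e) (Abelian.monoLift_comp _ _ e)

end Groth.Agent.EtModLib
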