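import Groth.Agent.EtModLib.ExtZeroConstrMod
import Groth.Agent.EtFound.JContGen
import Groth.Prelude.Def_SixF2

/-! constructible sheaves of modules are quotients of finite sums of extensions by zero of `Λ` -/

universe u

open CategoryTheory CategoryTheory.Limits AlgebraicGeometry Opposite Topology

noncomputable section

set_option backward.isDefEq.respectTransparency false
set_option backward.isDefEq.respectTransparency.types false

namespace Groth.Agent.EtModLib

open EtFound hiding IsPiece adaptedStrata_of_cover exists_piece_of_good isConstructible_of_pieces bijective_germ_congr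

variable {Λ : Type (u + 1)} [CommRing Λ] {X : Scheme.{u}}

theorem epi_of_stalks {F G : EtModW.Mod Λ X} (a : F ⟶ G)
    (h : ∀ (Ω : Type u) [Field Ω] [IsSepClosed Ω] (ξ : Spec (CommRingCat.of Ω) ⟶ X),
      Function.Surjective ((EtModW.stalk Λ ξ).map a).hom) : Epi a := by
  haveI : Sheaf.IsLocallySurjective a := isLocallySurjective_of_stalks a.hom fun Ω _ _ ξ => h Ω ξ
  exact Sheaf.epi_of_isLocallySurjective a

/-- a section gives a map out of `j_! Λ` reaching its germs -/
theorem exists_hom_extZero_const (U : X.Etale) {Z : EtModW.Mod Λ X} (s : Z.obj.obj (op U))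
    [EtShriek.JCont U.hom] [AlgebraicGeometry.Etale U.hom] :
    ∃ h : (EtSix.extZeroMod Λ U.hom).obj (EtSix.constΛ Λ U.left) ⟶ Z,
      ∀ (Ω : Type u) [Field Ω] [IsSepClosed Ω] (ξ : Spec (CommRingCat.of Ω) ⟶ X)
        (z : (Scheme.pointSmallEtale ξ).fiber.obj U),
          germ ξ z Z s ∈ Set.range ((EtModW.stalk Λ ξ).map h).hom := by
  let T := EtCoh.top U.left
  let r : (EtShriek.compEtale U.hom).obj T ⟶ U := MorphismProperty.Over.homMk (𝟙 U.left) rfl
  let r' : U ⟶ (EtShriek.compEtale U.hom).obj T := MorphismProperty.Over.homMk (𝟙 U.left)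
    ((Category.id_comp _).trans (Category.id_comp _))
  let adj := (constantSheafAdj U.left.smallEtaleTopology (ModuleCat.{u + 1} Λ) (EtCore.topIsTerminal U.left)).comp
    (EtSix.extZeroModAdj Λ U.hom)
  let φ : ModuleCat.of Λ Λ ⟶ ((EtSix.restrMod Λ U.hom).obj Z).obj.obj (op T) :=
    ModuleCat.ofHom ((Z.obj.map r.op).hom ∘ₗ LinearMap.toSpanSingleton Λ (Z.obj.obj (op U)) s)
  refine ⟨(adj.homEquiv _ _).symm φ, fun Ω _ _ ξ z => ?_⟩
  let G := (EtSix.extZeroMod Λ U.hom).obj (EtSix.constΛ Λ U.left)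
  let ts : G.obj.obj (op ((EtShriek.compEtale U.hom).obj T)) := adj.unit.app (ModuleCat.of Λ Λ) (1 : Λ)
  let z' := (Scheme.pointSmallEtale ξ).fiber.map r' z
  refine ⟨germ ξ z' G ts, (germ_app ξ z' _ ts).trans ?_⟩
  have h1 : ((adj.homEquiv _ _).symm φ).hom.app (op ((EtShriek.compEtale U.hom).obj T)) ts = Z.obj.map r.op s := by
    refine Eq.trans ?_ (show φ (1 : Λ) = _ from congrArg (Z.obj.map r.op).hom (one_smul Λ s))
    exact ConcreteCategory.congr_hom ((adj.homEquiv_unit ..).symm.trans ((adj.homEquiv _ _).apply_symm_apply φ)) (1 : Λ)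
  refine (congrArg (germ ξ z' Z) h1).trans ((germ_map ξ r z' Z s).trans (congrArg (fun p => germ ξ p Z s) ?_))
  exact CategoryTheory.Over.OverMorphism.ext ((Category.assoc _ _ _).trans
    ((congrArg ((z.left : Spec (CommRingCat.of Ω) ⟶ U.left) ≫ ·) (Category.id_comp (𝟙 U.left))).trans (Category.comp_id _)))

/-- lifts of a constructible quotient by finitely many extensions by zero of `Λ` -/
theorem exists_sum_extZero_lift [IsNoetherianRing Λ] [CompactSpace X] [QuasiSeparatedSpace X] {Z H : EtModW.Mod Λ X}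
    (π : Z ⟶ H) [Epi π] (hH : EtModW.IsConstructible Λ H) :
    ∃ (m : ℕ) (U : Fin m → Scheme.{u}) (j : ∀ k, U k ⟶ X) (_ : ∀ k, AlgebraicGeometry.Etale (j k)) (_ : ∀ k, IsAffine (U k)),
      ∀ [∀ k, EtShriek.JCont (j k)],
        ∃ ψ : (∐ fun k => (EtSix.extZeroMod Λ (j k)).obj (EtSix.constΛ Λ (U k))) ⟶ Z, Epi (ψ ≫ π) := by
  classical
  have key : ∀ x : X, ∃ (E : Set X) (W : X.Etale) (n : ℕ) (s : Fin n → Z.obj.obj (op W)),
      x ∈ E ∧ IsConstructible E ∧ IsAffine W.left ∧
        ∀ (Ω : Type u) [Field Ω] [IsSepClosed Ω] (η : Spec (CommRingCat.of Ω) ⟶ X),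
          η.base (default : Spec (CommRingCat.of Ω)) ∈ E →
          ∃ z : (Scheme.pointSmallEtale η).fiber.obj W,
            Submodule.span Λ (Set.range fun i => ((EtModW.stalk Λ η).map π).hom (germ η z Z (s i))) = ⊤ := by
    intro x
    obtain ⟨Ω, _, _, ξ, rfl⟩ := exists_geomPoint x
    obtain ⟨V, hV, hxV, -⟩ := exists_isAffineOpen_mem_and_subset (U := (⊤ : X.Opens))
      (x := ξ.base (default : Spec (CommRingCat.of Ω))) trivial
    obtain ⟨E, W₀, w₀, S, hξE, hE, hS, hSb⟩ := exists_sections_stratum hH hV ξ hxV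
    obtain ⟨n, g₀, hg₀⟩ := Submodule.fg_iff_exists_fin_generating_family.1 hS
    obtain ⟨W₁, c, v, e, hv, he⟩ := exists_lift_sections π w₀ g₀
    haveI : AlgebraicGeometry.Etale W₁.hom := W₁.prop
    obtain ⟨A, hA, hvA, hAV⟩ := exists_isAffineOpen_mem_and_subset (U := (W₁.hom ⁻¹ᵁ V : W₁.left.Opens)) (x := ptOf v)
      (show W₁.hom.base (ptOf v) ∈ V from Set.mem_of_eq_of_mem (hom_ptOf v) hxV)
    let W : X.Etale := Scheme.Etale.mk (A.ι ≫ W₁.hom)
    let a : W ⟶ W₁ := MorphismProperty.Over.homMk A.ι rfl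
    let B : Set X := W₁.hom.base '' (A : Set W₁.left)
    have hBV : B ⊆ V := fun _ ⟨y, hy, e⟩ => e ▸ hAV hy
    refine ⟨E ∩ B, W, n, fun i => Z.obj.map a.op (e i), ⟨hξE, ptOf v, hvA, hom_ptOf v⟩, ?_, hA, fun L _ _ η hη => ?_⟩
    · have : CompactSpace ↥(V : Set X) := isCompact_iff_compactSpace.1 hV.isCompact
      have : QuasiSeparatedSpace ↥(V : Set X) := (isQuasiSeparated_iff_quasiSeparatedSpace _ V.2).1 hV.isQuasiSeparated
      have : PrespectralSpace ↥(V : Set X) := V.2.isOpenEmbedding_subtypeVal.prespectralSpace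
      have hc : IsCompact B := hA.isCompact.image W₁.hom.continuous
      have ho : IsOpen B := W₁.hom.isOpenMap _ A.2
      have h1 : IsConstructible ((Subtype.val : ↥(V : Set X) → X) ⁻¹' B) := by
        refine (IsCompact.isRetrocompact ?_ (ho.preimage continuous_subtype_val)).isConstructible
          (ho.preimage continuous_subtype_val)
        rw [IsInducing.subtypeVal.isCompact_iff, Set.image_preimage_eq_of_subset (Subtype.range_coe.symm ▸ hBV)]
        exact hc
      have hr : IsRetrocompact (Set.range (Subtype.val : ↥(V : Set X) → X)) := by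
        rw [Subtype.range_coe]
        exact IsCompact.isRetrocompact hV.isCompact V.2
      have h2 := (hE.inter h1).image_of_isOpenEmbedding V.2.isOpenEmbedding_subtypeVal hr
      refine Eq.mp (congrArg IsConstructible ?_) h2
      ext y
      exact ⟨fun ⟨y', hy', e⟩ => e ▸ hy', fun hy => ⟨⟨y, hBV hy.2⟩, hy, rfl⟩⟩
    obtain ⟨p, hpA, hp⟩ := hη.2
    obtain ⟨z, -⟩ := Scheme.pointSmallEtaleFiberObjToPreimage_surjective η rfl W
      ⟨(⟨p, hpA⟩ : A.toScheme), (Scheme.Hom.comp_apply _ _ _).trans hp⟩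
    refine ⟨z, eq_top_iff.2 fun q _ => ?_⟩
    let z₀ := (Scheme.pointSmallEtale η).fiber.map (a ≫ c) z
    obtain ⟨M, _, _, θ, w, hw⟩ := exists_algClosed_point W₀ (ptOf z₀)
    have hmem : W₀.hom.base (ptOf w) ∈ E := by
      refine Set.mem_of_eq_of_mem ?_ hη.1
      exact (congrArg W₀.hom.base hw).trans (hom_ptOf z₀)
    obtain ⟨⟨t, ht⟩, rfl⟩ := ((bijective_germ_congr S w z₀ hw).1 (hSb M θ w hmem)).2 q
    suffices hle : S ≤ (Submodule.span Λ (Set.range fun i => ((EtModW.stalk Λ η).map π).hom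
        (germ η z Z (Z.obj.map a.op (e i))))).comap (germ η z₀ H) from hle ht
    rw [← hg₀, Submodule.span_le]
    rintro _ ⟨i, rfl⟩
    refine Submodule.subset_span ⟨i, ?_⟩
    show ((EtModW.stalk Λ η).map π).hom (germ η z Z (Z.obj.map a.op (e i))) = germ η z₀ H (g₀ i)
    rw [germ_map, germ_app, he i, germ_map]
    exact congrArg (fun p => germ η p H (g₀ i)) (CategoryTheory.Over.OverMorphism.ext (Category.assoc _ _ _))
  choose E W n s hxE hE hW hgen using key
  obtain ⟨t, ht⟩ := exists_finite_cover E hE fun x => ⟨x, hxE x⟩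
  let κ := Σ x : t, Fin (n x.1)
  let e : Fin (Fintype.card κ) ≃ κ := (Fintype.equivFin κ).symm
  haveI : ∀ x, AlgebraicGeometry.Etale (W x).hom := fun x => (W x).prop
  refine ⟨_, fun k => (W (e k).1.1).left, fun k => (W (e k).1.1).hom, fun k => inferInstance, fun k => hW _, ?_⟩
  intro hJ
  haveI hJ' : ∀ k, EtShriek.JCont (W (e k).1.1).hom := hJ
  choose h hh using fun k => exists_hom_extZero_const (W (e k).1.1) (s (e k).1.1 (e k).2)
  refine ⟨Sigma.desc h, epi_of_stalks _ fun Ω _ _ η q => ?_⟩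
  obtain ⟨x, hxt, hxη⟩ := ht (η.base (default : Spec (CommRingCat.of Ω)))
  obtain ⟨z, hz⟩ := hgen x Ω η hxη
  suffices hr : (⊤ : Submodule Λ _) ≤ LinearMap.range ((EtModW.stalk Λ η).map (Sigma.desc h ≫ π)).hom from
    hr (Submodule.mem_top (x := q))
  rw [← hz, Submodule.span_le]
  rintro _ ⟨i, rfl⟩
  obtain ⟨k, hk⟩ := e.surjective ⟨⟨x, hxt⟩, i⟩
  have key2 : ∀ (p : κ) (k : Fin (Fintype.card κ)), e k = p → ∀ z : (Scheme.pointSmallEtale η).fiber.obj (W p.1.1),
      germ η z Z (s p.1.1 p.2) ∈ Set.range ((EtModW.stalk Λ η).map (Sigma.desc h)).hom := by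
    rintro _ k rfl z
    obtain ⟨d, hd⟩ := hh k Ω η z
    refine ⟨((EtModW.stalk Λ η).map (Sigma.ι _ k)).hom d, Eq.trans ?_ hd⟩
    refine (ConcreteCategory.comp_apply _ _ _).symm.trans ?_
    exact ConcreteCategory.congr_hom (((EtModW.stalk Λ η).map_comp _ _).symm.trans
      (congrArg (EtModW.stalk Λ η).map (Sigma.ι_desc h k))) d
  obtain ⟨d, hd⟩ := key2 _ k hk z
  refine ⟨d, ?_⟩
  show ((EtModW.stalk Λ η).map (Sigma.desc h ≫ π)).hom d = ((EtModW.stalk Λ η).map π).hom (germ η z Z (s x i))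
  rw [Functor.map_comp]
  exact (ConcreteCategory.comp_apply _ _ _).trans (congrArg _ hd)

end Groth.Agent.EtModLib
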