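import Groth.Prelude.Def_EtModW
import Mathlib.Algebra.Category.ModuleCat.Abelian
import Mathlib.Algebra.Category.Grp.Abelian
import Mathlib.Algebra.Category.ModuleCat.Colimits
import Mathlib.CategoryTheory.Sites.LocallySurjective
import Mathlib.CategoryTheory.Sites.EpiMono

/-! Sheaves of modules and their underlying abelian sheaves. -/

universe u

open CategoryTheory CategoryTheory.Limits Opposite

noncomputable section

set_option backward.isDefEq.respectTransparency false
set_option backward.isDefEq.respectTransparency.types false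

namespace Groth.Agent.EtModLib

variable {C : Type (u + 1)} [Category.{u} C] {J : GrothendieckTopology C} {Λ : Type (u + 1)} [CommRing Λ]
  [J.HasSheafCompose (forget₂ (ModuleCat.{u + 1} Λ) AddCommGrpCat.{u + 1})]

variable (J Λ) in
/-- The underlying abelian sheaf. -/
abbrev toAb : Sheaf J (ModuleCat.{u + 1} Λ) ⥤ Sheaf J AddCommGrpCat.{u + 1} :=
  sheafCompose J (forget₂ (ModuleCat.{u + 1} Λ) AddCommGrpCat.{u + 1})

/-- Scalars acting on a sheaf of modules, as a ring map to endomorphisms of the abelian sheaf. -/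
def smulAb (M : Sheaf J (ModuleCat.{u + 1} Λ)) : Λ →+* End ((toAb J Λ).obj M) where
  toFun r := (toAb J Λ).map ⟨{ app := fun U => ModuleCat.ofHom (r • LinearMap.id)
                               naturality := fun U V g => by ext x; simp }⟩
  map_one' := Sheaf.hom_ext (NatTrans.ext (funext fun U => AddCommGrpCat.hom_ext (AddMonoidHom.ext fun x =>
    one_smul Λ (α := M.obj.obj U) x)))
  map_zero' := Sheaf.hom_ext (NatTrans.ext (funext fun U => AddCommGrpCat.hom_ext (AddMonoidHom.ext fun x =>
    zero_smul Λ (A := M.obj.obj U) x)))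
  map_mul' r s := Sheaf.hom_ext (NatTrans.ext (funext fun U => AddCommGrpCat.hom_ext (AddMonoidHom.ext fun (x : M.obj.obj U) =>
    mul_smul r s x)))
  map_add' r s := Sheaf.hom_ext (NatTrans.ext (funext fun U => AddCommGrpCat.hom_ext (AddMonoidHom.ext fun (x : M.obj.obj U) =>
    add_smul r s x)))

theorem smulAb_apply (M : Sheaf J (ModuleCat.{u + 1} Λ)) (r : Λ) (U : Cᵒᵖ) (x : M.obj.obj U) :
    (smulAb M r).hom.app U x = r • x := rfl

/-- An additive map of sheaves of modules commuting with the scalars. -/
def homMk {M N : Sheaf J (ModuleCat.{u + 1} Λ)} (φ : (toAb J Λ).obj M ⟶ (toAb J Λ).obj N)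
    (h : ∀ r, smulAb M r ≫ φ = φ ≫ smulAb N r) : M ⟶ N :=
  ⟨{ app := fun U => ModuleCat.ofHom
      { toFun := fun x => φ.hom.app U x
        map_add' := fun x y => map_add (φ.hom.app U).hom x y
        map_smul' := fun r x => by
          exact congrArg (fun f : (toAb J Λ).obj M ⟶ (toAb J Λ).obj N => f.hom.app U x) (h r) }
     naturality := fun U V g => ModuleCat.hom_ext (LinearMap.ext fun x =>
       NatTrans.naturality_apply φ.hom g x) }⟩

theorem toAb_homMk {M N : Sheaf J (ModuleCat.{u + 1} Λ)} (φ : (toAb J Λ).obj M ⟶ (toAb J Λ).obj N)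
    (h : ∀ r, smulAb M r ≫ φ = φ ≫ smulAb N r) : (toAb J Λ).map (homMk φ h) = φ := rfl

theorem smulAb_natural {M N : Sheaf J (ModuleCat.{u + 1} Λ)} (f : M ⟶ N) (r : Λ) :
    smulAb M r ≫ (toAb J Λ).map f = (toAb J Λ).map f ≫ smulAb N r :=
  Sheaf.hom_ext (NatTrans.ext (funext fun U => AddCommGrpCat.hom_ext (AddMonoidHom.ext fun x =>
    (f.hom.app U).hom.map_smul r x)))

theorem toAb_map_injective {M N : Sheaf J (ModuleCat.{u + 1} Λ)} {f g : M ⟶ N}
    (h : (toAb J Λ).map f = (toAb J Λ).map g) : f = g :=
  Sheaf.hom_ext (NatTrans.ext (funext fun U => ModuleCat.hom_ext (LinearMap.ext fun x =>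
    congrArg (fun φ : (toAb J Λ).obj M ⟶ (toAb J Λ).obj N => φ.hom.app U x) h)))

/-- The sheaf of modules with given underlying abelian sheaf and action. -/
def ofAb (A : Sheaf J AddCommGrpCat.{u + 1}) (ρ : Λ →+* End A) : Sheaf J (ModuleCat.{u + 1} Λ) :=
  let act : ∀ U : Cᵒᵖ, Λ →+* AddMonoid.End (A.obj.obj U) := fun U =>
    { toFun := fun r => ((ρ r).hom.app U).hom
      map_one' := by rw [map_one]; rfl
      map_zero' := by rw [map_zero]; rfl
      map_mul' := fun r s => by rw [map_mul]; rfl
      map_add' := fun r s => by rw [map_add]; rfl }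
  let P : Cᵒᵖ ⥤ ModuleCat.{u + 1} Λ :=
    { obj := fun U =>
        letI := Module.compHom (A.obj.obj U) (act U)
        ModuleCat.of Λ (A.obj.obj U)
      map := fun {U V} g =>
        letI := Module.compHom (A.obj.obj U) (act U)
        letI := Module.compHom (A.obj.obj V) (act V)
        ModuleCat.ofHom (X := A.obj.obj U) (Y := A.obj.obj V)
          { toFun := fun x => A.obj.map g x
            map_add' := fun x y => map_add (A.obj.map g).hom x y
            map_smul' := fun r x => (NatTrans.naturality_apply (ρ r).hom g x).symm }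
      map_id := fun U => by
        letI := Module.compHom (A.obj.obj U) (act U)
        exact ModuleCat.hom_ext (LinearMap.ext fun x => congr($(A.obj.map_id U) x))
      map_comp := fun {U V W} f g => by
        letI := Module.compHom (A.obj.obj U) (act U)
        letI := Module.compHom (A.obj.obj W) (act W)
        exact ModuleCat.hom_ext (LinearMap.ext fun x => congr($(A.obj.map_comp f g) x)) }
  ⟨P, by
    refine (Presheaf.isSheaf_iff_isSheaf_forget J P (forget _)).2 ?_
    exact (Presheaf.isSheaf_iff_isSheaf_forget J A.obj (forget _)).1 A.2⟩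

theorem toAb_ofAb (A : Sheaf J AddCommGrpCat.{u + 1}) (ρ : Λ →+* End A) : (toAb J Λ).obj (ofAb A ρ) = A := rfl

theorem smulAb_ofAb (A : Sheaf J AddCommGrpCat.{u + 1}) (ρ : Λ →+* End A) (r : Λ) : smulAb (ofAb A ρ) r = ρ r := rfl

end Groth.Agent.EtModLib
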