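import Groth.Agent.EtModLib.EssLocal
import Groth.Agent.EtModLib.AdicP
import Groth.Agent.EtModLib.CEObj
import Groth.Agent.EtModLib.PullAb

/-! constructible pro-etale sheaves of modules are those that are lisse along finite stratifications -/

universe u

open CategoryTheory CategoryTheory.Limits AlgebraicGeometry Opposite TopologicalSpace

noncomputable section

set_option backward.isDefEq.respectTransparency false
set_option backward.isDefEq.respectTransparency.types false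

namespace Groth.Agent.EtModLib

theorem exists_compact_open_pair {Y : Scheme.{u}} [CompactSpace Y] [QuasiSeparatedSpace Y] {E : Set Y}
    (hl : IsLocallyClosed E) (hc : Topology.IsConstructible E) :
    ∃ O O' : Y.Opens, IsCompact (O : Set Y) ∧ IsCompact (O' : Set Y) ∧ E = (O : Set Y) \ O' := by
  obtain ⟨W, C, hW, hC, rfl⟩ := hl
  have hE := isCompact_of_constructible hc
  have hx : ∀ x ∈ W ∩ C, ∃ V : Y.Opens, IsAffineOpen V ∧ x ∈ V ∧ (V : Set Y) ⊆ W := fun x hx => by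
    obtain ⟨V, hV, hxV, hVW⟩ := exists_isAffineOpen_mem_and_subset (U := (⟨W, hW⟩ : Y.Opens)) (x := x) hx.1
    exact ⟨V, hV, hxV, hVW⟩
  choose V hV hxV hVW using hx
  obtain ⟨t, ht⟩ := hE.elim_finite_subcover (fun x : ↥(W ∩ C) => (V x x.2 : Set Y)) (fun x => (V x x.2).2)
    fun x hx => Set.mem_iUnion.2 ⟨⟨x, hx⟩, hxV x hx⟩
  let O : Y.Opens := ⟨⋃ x ∈ t, (V (x : Y) x.2 : Set Y), isOpen_biUnion fun x _ => (V (x : Y) x.2).2⟩
  have hOc : IsCompact (O : Set Y) := t.isCompact_biUnion fun x _ => (hV (x : Y) x.2).isCompact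
  have hOW : (O : Set Y) ⊆ W := Set.iUnion₂_subset fun x _ => hVW (x : Y) x.2
  let O' : Y.Opens := ⟨(O : Set Y) \ C, O.2.sdiff hC⟩
  refine ⟨O, O', hOc, ?_, ?_⟩
  · have h : (O' : Set Y) = (O : Set Y) \ (W ∩ C) := by
      ext y
      exact ⟨fun h => ⟨h.1, fun h' => h.2 h'.2⟩, fun h => ⟨h.1, fun h' => h.2 ⟨hOW h.1, h'⟩⟩⟩
    rw [h]
    exact isCompact_of_constructible ((hOc.isConstructible O.2).sdiff hc)
  · ext y
    exact ⟨fun h => ⟨ht h, fun h' => h'.2 h.2⟩, fun h => ⟨hOW h.1, by_contra fun h' => h.2 ⟨h.1, h'⟩⟩⟩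

variable {Λ : Type (u + 1)} [CommRing Λ] {X : Scheme.{u}} [ProEtS.EpsCont X]

theorem essImage_of_strata [∀ (T : Scheme.{u}) (g : T ⟶ X), ProEtS.PCont g] (F : EtModW.ModP Λ X)
    (h : ∀ U : X.Opens, IsAffineOpen U → ∃ (m : ℕ) (T : Fin m → Scheme.{u}) (g : ∀ i, T i ⟶ X),
      (∀ i, IsImmersion (g i)) ∧
      (∀ i, Topology.IsConstructible ((Subtype.val : ↥(U : Set X) → X) ⁻¹' Set.range (g i).base)) ∧
      (⋃ i, Set.range (g i).base) = (U : Set X) ∧
      ∀ i, InIm ((toAb (Scheme.ProEt.topology (T i)) Λ).obj (((ProEtS.bcP (g i)).sheafPullback (ModuleCat.{u + 1} Λ) (Scheme.ProEt.topology X) (Scheme.ProEt.topology (T i))).obj F))) :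
    (EtModW.epsPullMod Λ X).essImage F := by
  refine (essImage_iff F).2 ?_
  show InIm ((UP Λ).obj F)
  refine inIm_of_local (fun U : X.affineOpens => U.1) (fun x => ?_) fun U => ?_
  · obtain ⟨U, hU, hx, -⟩ := exists_isAffineOpen_mem_and_subset (U := (⊤ : X.Opens)) (x := x) trivial
    exact ⟨⟨U, hU⟩, hx⟩
  obtain ⟨m, T, g, hg, hc, hu, hI⟩ := h U.1 U.2
  haveI : IsAffine U.1.toScheme := U.2
  have hc' : ∀ i, Topology.IsConstructible (U.1.ι.base ⁻¹' Set.range (g i).base) := hc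
  have hl : ∀ i, IsLocallyClosed (U.1.ι.base ⁻¹' Set.range (g i).base) := fun i =>
    haveI := hg i
    (g i).isLocallyClosed_range.preimage U.1.ι.continuous
  choose O O' hO hO' hE using fun i => exists_compact_open_pair (hl i) (hc' i)
  refine inIm_of_pieces m _ O O' hO hO' (fun y => ?_) fun i => ?_
  · obtain ⟨i, hi⟩ := Set.mem_iUnion.1 (hu.ge (show U.1.ι.base y ∈ (U.1 : Set X) from y.2))
    exact ⟨i, (hE i).le hi⟩
  haveI := hg i
  haveI := ProEtLib.pCont (pullback.fst U.1.ι (g i))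
  haveI := ProEtLib.pCont (pullback.snd U.1.ι (g i))
  refine ⟨pullback U.1.ι (g i), pullback.fst U.1.ι (g i), inferInstance, inferInstance,
    (Scheme.Pullback.range_fst U.1.ι (g i)).trans (hE i), ?_⟩
  haveI : (ProEtS.pullP (g i)).Additive := (ProEtS.pullPushAdjP (g i)).left_adjoint_additive
  obtain ⟨c⟩ := exists_toAb_leftAdjoint_iso (ProEtS.bcP (g i))
    ((ProEtS.bcP (g i)).sheafAdjunctionContinuous (ModuleCat.{u + 1} Λ) (Scheme.ProEt.topology X) (Scheme.ProEt.topology (T i)))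
    (ProEtS.pullPushAdjP (g i))
  obtain ⟨e₁⟩ := nonempty_pullP_comp (pullback.fst U.1.ι (g i)) U.1.ι ((UP Λ).obj F)
  obtain ⟨e₂⟩ := nonempty_pullP_comp (pullback.snd U.1.ι (g i)) (g i) ((UP Λ).obj F)
  refine (((hI i).of_iso (c.app F).symm).pull (pullback.snd U.1.ι (g i))).of_iso (e₂.symm ≪≫ ?_ ≪≫ e₁)
  exact eqToIso (by congr 2 <;> first | exact pullback.condition.symm | exact proof_irrel_heq _ _)

theorem isConstructibleP_iff [IsNoetherianRing Λ] [∀ T : Scheme.{u}, ProEtS.EpsCont T]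
    [∀ (T : Scheme.{u}) (g : T ⟶ X), ProEtS.PCont g] (F : EtModW.ModP Λ X) :
    (∃ E : EtModW.Mod Λ X, EtModW.IsConstructible Λ E ∧ Nonempty ((EtModW.epsPullMod Λ X).obj E ≅ F)) ↔
      ∀ U : X.Opens, IsAffineOpen U →
        ∃ (m : ℕ) (T : Fin m → Scheme.{u}) (g : ∀ i, T i ⟶ X),
          (∀ i, IsImmersion (g i)) ∧
          (∀ i, Topology.IsConstructible ((Subtype.val : ↥(U : Set X) → X) ⁻¹' Set.range (g i).base)) ∧
          Pairwise (fun i j => Disjoint (Set.range (g i).base) (Set.range (g j).base)) ∧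
          (⋃ i, Set.range (g i).base) = (U : Set X) ∧
          ∀ i, ∃ E : EtModW.Mod Λ (T i), EtModW.IsFTLocConst Λ E ∧
            Nonempty ((EtModW.epsPullMod Λ (T i)).obj E ≅ (((ProEtS.bcP (g i)).sheafPullback (ModuleCat.{u + 1} Λ) (Scheme.ProEt.topology X) (Scheme.ProEt.topology (T i)))).obj F) := by
  constructor
  · rintro ⟨E, hE, ⟨e⟩⟩ U hU
    obtain ⟨m, T, g, hg, hc, hd, hu, hT⟩ := hE U hU
    refine ⟨m, T, g, hg, hc, hd, hu, fun i => ⟨_, hT i, ?_⟩⟩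
    obtain ⟨c⟩ := nonempty_pullP_eps_iso Λ (g i) E
    exact ⟨c ≪≫ Functor.mapIso _ e⟩
  · intro h
    obtain ⟨E, ⟨e⟩⟩ := essImage_of_strata F fun U hU => by
      obtain ⟨m, T, g, hg, hc, -, hu, hT⟩ := h U hU
      refine ⟨m, T, g, hg, hc, hu, fun i => ?_⟩
      obtain ⟨E, -, ⟨e⟩⟩ := hT i
      exact (essImage_iff _).1 ⟨E, ⟨e⟩⟩
    refine ⟨E, fun U hU => ?_, ⟨e⟩⟩
    obtain ⟨m, T, g, hg, hc, hd, hu, hT⟩ := h U hU
    refine ⟨m, T, g, hg, hc, hd, hu, fun i => ?_⟩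
    obtain ⟨E', hE', ⟨e'⟩⟩ := hT i
    obtain ⟨c⟩ := nonempty_pullP_eps_iso Λ (g i) E
    obtain ⟨-, -, -, ⟨hff⟩⟩ := epsPullMod_exact (Λ := Λ) (X := T i)
    exact isFTLocConst_of_iso (hff.preimageIso (e' ≪≫ Functor.mapIso _ e.symm ≪≫ c.symm)) hE'

end Groth.Agent.EtModLib
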